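import Cfsg.Agent.Lib.Small.UCover.Exceptional
import Cfsg.Agent.Lib.Solv.SchurSmall

/-!
Schur multipliers of the projective special unitary groups.
-/

set_option autoImplicit false
set_option linter.unusedSectionVars false
set_option linter.style.haveILetI false

namespace Cfsg.Agent.Small.UCover

open Matrix Cfsg.Agent.Small.Unitary Cfsg.Agent.Small.SchurLifts
open scoped commutatorElement

universe u

variable {F : Type u} [Field F] [Fintype F] [StarRing F] {n q : ℕ}

/-- The special unitary groups outside the exceptional list have no perfect central extensions. -/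
theorem su_triv {hstar : ∀ x : F, star x = x ^ q} (hF : Fintype.card F = q ^ 2) (hn : 3 ≤ n)
    (h3 : ¬(n = 3 ∧ q = 2)) (h42 : ¬(n = 4 ∧ (q = 2 ∨ q = 3))) (h62 : ¬(n = 6 ∧ q = 2)) :
    ∀ (Γ : Type u) [Group Γ] [Finite Γ] (C : Central Γ (Cfsg.SU n F q)), commutator Γ = ⊤ → C.π.ker = ⊥ := by
  have hq := Hermitian.q_two_le hF
  induction n using Nat.strong_induction_on with
  | _ n ih =>
    intro Γ _ _ C hΓ
    rcases (show n = 3 ∨ n = 4 ∨ 5 ≤ n by omega) with rfl | rfl | h5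
    · exact three_triv (hstar := hstar) hF C hΓ
    · exact four_triv (hstar := hstar) hF C hΓ (by omega)
    by_cases hb : (n = 5 ∧ q = 2) ∨ (n = 5 ∧ q = 3) ∨ (n = 7 ∧ q = 2)
    · rcases hb with ⟨rfl, rfl⟩ | ⟨rfl, rfl⟩ | ⟨rfl, rfl⟩
      · exact five_two (hstar := hstar) hF C hΓ
      · exact five_three (hstar := hstar) hF C hΓ
      · exact seven_two (hstar := hstar) hF C hΓ
    · obtain ⟨d, rfl⟩ : ∃ d, n = d + 2 := ⟨n - 2, by omega⟩
      refine ker_eq_bot_of_primes C hΓ fun r hr Δ _ _ C' hΔ hk => ?_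
      haveI := Fact.mk hr
      refine ker_bot_of_stab_bound (hstar := hstar) hF (d := d) rfl (by omega) (by omega) (by omega) C' hΔ hk
        (m := 1) hr.not_dvd_one ?_
      intro Θ _ _ C'' hΘ k hk1
      rw [pow_one]
      exact (Subgroup.eq_bot_iff_forall _).1
        (ih (d + 1) (by omega) (by omega) (by omega) (by omega) (by omega) Θ C'' hΘ) k hk1

end Cfsg.Agent.Small.UCover

namespace Cfsg.Agent.Small.UCover

open Matrix Cfsg.Agent.Small.Unitary Cfsg.Agent.Small.SchurLifts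

universe v

/-- The multiplier of the projective special unitary group. -/
theorem psu {F : Type v} [Field F] [Fintype F] {n q : ℕ} (hF : Fintype.card F = q ^ 2) (hn : 3 ≤ n)
    (h3 : ¬(n = 3 ∧ q = 2)) (h42 : ¬(n = 4 ∧ (q = 2 ∨ q = 3))) (h62 : ¬(n = 6 ∧ q = 2)) :
    Cfsg.HasCyclicSchurMultiplier (Cfsg.PSU n F q) (Nat.gcd n (q + 1)) := by
  classical
  obtain ⟨p, e, s, hp, hchar, hqp, he, hs⟩ := Classical.exists_usigma hF
  letI : StarRing F := Hermitian.starRingOfInvolution s.toRingHom hs.involutive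
  have hstar : ∀ x : F, star x = x ^ q := hs.apply_eq
  haveI : Finite (Cfsg.SU n F q) := Subtype.finite
  have hperf : commutator (Cfsg.SU n F q) = ⊤ := Unitary.commutator_eq_top hstar hF hn h3
  have hcard : Nat.card ↥(Subgroup.center (Cfsg.SU n F q)) = Nat.gcd n (q + 1) :=
    Classical.UCount.card_center_SU hs (by omega)
  have hscalar : ∀ x : ↥(Subgroup.center (Cfsg.SU n F q)),
      ∃ c : F, x.1.1.1 = c • (1 : Matrix (Fin n) (Fin n) F) := by
    rintro ⟨z, hz⟩
    exact Classical.UCount.scalar_of_commute hs (by omega) (M := z.1.1) fun x =>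
      congrArg (fun y : ↥(Cfsg.SU n F q) => y.1.1) (Subgroup.mem_center_iff.mp hz x)
  let i0 : Fin n := ⟨0, by omega⟩
  let ev : ↥(Subgroup.center (Cfsg.SU n F q)) →* F :=
    { toFun := fun x => x.1.1.1 i0 i0
      map_one' := by simp
      map_mul' := fun x y => by
        obtain ⟨c, hc⟩ := hscalar x
        obtain ⟨d, hd⟩ := hscalar y
        show (x.1.1.1 * y.1.1.1) i0 i0 = x.1.1.1 i0 i0 * y.1.1.1 i0 i0
        rw [hc, hd]; simp [mul_comm] }
  haveI hcyc : IsCyclic ↥(Subgroup.center (Cfsg.SU n F q)) := isCyclic_of_subgroup_isDomain ev fun x y h => by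
    obtain ⟨c, hc⟩ := hscalar x
    obtain ⟨d, hd⟩ := hscalar y
    have h' : x.1.1.1 i0 i0 = y.1.1.1 i0 i0 := h
    refine Subtype.ext (Subtype.ext (Subtype.ext ?_))
    rw [hc, hd] at h' ⊢
    simp at h'
    rw [h']
  let π₀ : Cfsg.SU n F q →* Cfsg.PSU n F q := QuotientGroup.mk' (Subgroup.center _)
  have hker : π₀.ker = Subgroup.center (Cfsg.SU n F q) := QuotientGroup.ker_mk' _
  refine Solv.hasCyclicSchur_of ⟨Cfsg.SU n F q, inferInstance, inferInstance, π₀,
    ⟨QuotientGroup.mk'_surjective _, hker.le, hperf.symm ▸ le_top⟩,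
    ⟨(MulEquiv.subgroupCongr hker).trans (mulEquivOfCyclicCardEq (by
      rw [hcard, Nat.card_congr Multiplicative.toAdd, Nat.card_zmod]))⟩⟩ ?_
  intro Γ _ _ σ hσ
  let P : Subgroup (Γ × Cfsg.SU n F q) := (σ.comp (MonoidHom.fst _ _)).eqLocus (π₀.comp (MonoidHom.snd _ _))
  let C : Central ↥P (Cfsg.SU n F q) :=
  { π := (MonoidHom.snd _ _).comp P.subtype
    surj := fun g => by
      obtain ⟨a, ha⟩ := hσ.1 (π₀ g)
      exact ⟨⟨(a, g), ha⟩, rfl⟩
    central := fun x hx => by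
      have h1 : x.1.2 = 1 := hx
      have h2 : σ x.1.1 = 1 := by rw [show σ x.1.1 = π₀ x.1.2 from x.2, h1, map_one]
      rw [Subgroup.mem_center_iff]
      exact fun y => Subtype.ext (Prod.ext (Subgroup.mem_center_iff.1 (hσ.2.1 h2) _)
        (by show y.1.2 * x.1.2 = x.1.2 * y.1.2; rw [h1, mul_one, one_mul])) }
  obtain ⟨Φ, hΦ⟩ := exists_splitting_of_triv C hperf
    (fun Δ _ _ C' hΔ => su_triv (hstar := hstar) hF hn h3 h42 h62 Δ C' hΔ)
  let θ : Cfsg.SU n F q →* Γ := ((MonoidHom.fst _ _).comp P.subtype).comp Φ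
  have hθ' : ∀ g, σ (θ g) = π₀ g := fun g =>
    ((Φ g).2 : σ (Φ g).1.1 = π₀ (Φ g).1.2).trans (congrArg π₀ (hΦ g))
  have hle := SchurSLFinal.commutator_le_range ⟨σ, hσ.1, hσ.2.1⟩ π₀ (QuotientGroup.mk'_surjective _) θ
    (MonoidHom.ext hθ')
  obtain ⟨w, hw⟩ := IsCyclic.exists_generator (α := ↥(Subgroup.center (Cfsg.SU n F q)))
  have hwk : θ w.1 ∈ σ.ker := by
    rw [MonoidHom.mem_ker, hθ', ← MonoidHom.mem_ker, hker]; exact w.2
  refine ⟨⟨θ w.1, hwk⟩, Subtype.ext ?_, fun k => ?_⟩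
  · show θ w.1 ^ _ = 1
    rw [← map_pow, ← Subgroup.coe_pow, ← hcard, pow_card_eq_one', Subgroup.coe_one, map_one]
  · obtain ⟨g, hg⟩ := hle (hσ.2.2 k.2)
    have hgc : g ∈ Subgroup.center (Cfsg.SU n F q) := by
      rw [← hker, MonoidHom.mem_ker, ← hθ', hg]; exact k.2
    obtain ⟨i, hi⟩ := Subgroup.mem_zpowers_iff.1 (hw ⟨g, hgc⟩)
    refine Subgroup.mem_zpowers_iff.2 ⟨i, Subtype.ext ?_⟩
    rw [Subgroup.coe_zpow, ← map_zpow, ← Subgroup.coe_zpow, hi]
    exact hg
where
  exists_splitting_of_triv {Γ G : Type v} [Group Γ] [Group G] [Finite Γ] [Finite G] (C : Central Γ G)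
      (hG : commutator G = ⊤)
      (h : ∀ (Δ : Type v) [Group Δ] [Finite Δ] (C' : Central Δ G), commutator Δ = ⊤ → C'.π.ker = ⊥) :
      ∃ Φ : G →* Γ, ∀ g, C.π (Φ g) = g := by
    let D : Subgroup Γ := commutator Γ
    have hmap : D.map C.π = ⊤ := by
      show (commutator Γ).map C.π = ⊤
      rw [commutator_def, Subgroup.map_commutator, Subgroup.map_top_of_surjective _ C.surj]; exact hG
    have hD : D ≤ ⁅D, D⁆ := by
      have key := dl_le_of_lifts (C := C) (S := ⊤) (A := D) hmap.ge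
      rwa [dl, pre, Subgroup.comap_top] at key
    let C' : Central ↥D G :=
      { π := C.π.comp D.subtype
        surj := fun g => by
          obtain ⟨x, hx, e⟩ := (hmap.symm ▸ Subgroup.mem_top g : g ∈ D.map C.π)
          exact ⟨⟨x, hx⟩, e⟩
        central := fun x hx => Subgroup.mem_center_iff.2 fun y =>
          Subtype.ext (Subgroup.mem_center_iff.1 (C.central hx) y.1) }
    have hperf : commutator ↥D = ⊤ := by
      rw [eq_top_iff]
      intro x _
      have h1 : x.1 ∈ ⁅D, D⁆ := hD x.2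
      rw [← Subgroup.map_subtype_commutator] at h1
      obtain ⟨y, hy, e⟩ := h1
      rwa [← Subtype.ext e]
    have hbij : Function.Bijective C'.π :=
      ⟨(MonoidHom.ker_eq_bot_iff C'.π).1 (h ↥D C' hperf), C'.surj⟩
    refine ⟨D.subtype.comp (MulEquiv.ofBijective C'.π hbij).symm.toMonoidHom, fun g => ?_⟩
    exact (MulEquiv.ofBijective C'.π hbij).apply_symm_apply g

end Cfsg.Agent.Small.UCover
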