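import Cfsg.Agent.Lib.Small.UCover.Elements

/-!
Torus elements of a hyperbolic pair acting as scalars on its complement.
-/

set_option autoImplicit false
set_option linter.unusedSectionVars false
set_option linter.style.haveILetI false

namespace Cfsg.Agent.Small.UCover

open Matrix Cfsg.Agent.Small.Unitary

variable {F : Type*} [Field F] [Fintype F] [StarRing F] {n q : ℕ} {i j : Fin n} {e f : Fin n → F}

/-- The matrix with columns a pair. -/
def pcols (e f : Fin n → F) : Matrix (Fin n) (Fin 2) F := Matrix.of fun a b => if b = 0 then e a else f a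

/-- The Gram matrix of a pair. -/
def pgram (F : Type*) [Field F] : Matrix (Fin 2) (Fin 2) F := !![0, 1; 1, 0]

theorem pgram_herm : (pgram F)ᴴ = pgram F := by
  ext a b; fin_cases a <;> fin_cases b <;> simp [pgram]

theorem pgram_sq : pgram F * pgram F = 1 := by
  ext a b; fin_cases a <;> fin_cases b <;> simp [pgram]

theorem pcols_gram (P : Pair i j e f) : (pcols e f)ᴴ * pcols e f = pgram F := by
  ext a b
  fin_cases a <;> fin_cases b <;> simp [pgram, Matrix.mul_apply, pcols] <;>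
    first
      | exact P.ee
      | exact P.ef
      | exact P.fe
      | exact P.ff

/-- The parameters of a torus element. -/
def TOk (n : ℕ) (μ lam : F) : Prop := μ ≠ 0 ∧ star lam * lam = 1 ∧ lam ^ n * (μ * (star μ)⁻¹) = lam ^ 2

theorem exists_tor (hstar : ∀ x : F, star x = x ^ q) (P : Pair i j e f) {μ lam : F} (h : TOk n μ lam) :
    ∃ t : Cfsg.SU n F q, act t e = μ • e ∧ act t f = (star μ)⁻¹ • f ∧
      (∀ z ∈ Wsub i j, act t z = lam • z) ∧
      ∀ g : Cfsg.SU n F q, act g e = e → act g f = f → Commute t g := by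
  obtain ⟨hμ, hlam, hdet⟩ := h
  have hμs : star μ ≠ 0 := star_ne_zero.2 hμ
  have hl0 : lam ≠ 0 := fun h0 => by rw [h0, mul_zero] at hlam; exact zero_ne_one hlam
  let M : Matrix (Fin 2) (Fin 2) F := Matrix.diagonal ![μ / lam, (star μ)⁻¹ / lam]
  let V := pgram F * (pcols e f)ᴴ
  have hVU : V * pcols e f = 1 := by rw [Matrix.mul_assoc, pcols_gram P, pgram_sq]
  let A := embed (pcols e f) V M
  have hM : Mᴴ * pgram F * M = pgram F := by
    ext a b
    have hls : (star lam)⁻¹ = lam := inv_eq_of_mul_eq_one_right hlam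
    fin_cases a <;> fin_cases b <;>
      simp [M, pgram, Matrix.mul_apply, div_eq_mul_inv, hls, star_inv₀] <;> field_simp <;>
      first
        | linear_combination -hlam
        | linear_combination hlam
  have hA : Aᴴ * A = 1 := embed_unitary (pcols e f) (pgram F) pgram_herm pgram_sq (pcols_gram P) M hM
  have hAd : A.det = μ / lam * ((star μ)⁻¹ / lam) := by
    rw [embed_det _ _ hVU, Matrix.det_diagonal, Fin.prod_univ_two]; rfl
  have hu : (lam • A)ᴴ * (lam • A) = 1 := by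
    rw [Matrix.conjTranspose_smul, Matrix.smul_mul, Matrix.mul_smul, smul_smul, hlam, one_smul, hA]
  have hd : (lam • A).det = 1 := by
    rw [Matrix.det_smul, hAd, Fintype.card_fin,
      show lam ^ n * (μ / lam * ((star μ)⁻¹ / lam)) = lam ^ n * (μ * (star μ)⁻¹) / lam ^ 2 by field_simp,
      hdet, div_self (pow_ne_zero 2 hl0)]
  have hact : ∀ x, act (mkSU hstar (lam • A) hu hd) x =
      lam • x + ((μ - lam) * herm f x) • e + (((star μ)⁻¹ - lam) * herm e x) • f := by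
    intro x
    show (lam • A) *ᵥ x = _
    have hv : (pcols e f)ᴴ *ᵥ x = ![herm e x, herm f x] := by
      funext b
      fin_cases b <;> simp [Matrix.mulVec, pcols, dotProduct, herm]
    rw [Matrix.smul_mulVec, show A *ᵥ x = x + pcols e f *ᵥ ((M - 1) *ᵥ (V *ᵥ x)) by
      simp only [A, embed, Matrix.add_mulVec, Matrix.one_mulVec, Matrix.mulVec_mulVec, Matrix.mul_assoc],
      show V *ᵥ x = ![herm f x, herm e x] by
        rw [← Matrix.mulVec_mulVec, hv]; funext b; fin_cases b <;> simp [pgram, Matrix.mulVec, dotProduct]]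
    funext a
    simp [M, Matrix.mulVec, dotProduct, pcols, Fin.sum_univ_two, Matrix.sub_apply, Matrix.vecHead, Matrix.vecTail]
    field_simp
    ring
  refine ⟨mkSU hstar (lam • A) hu hd, ?_, ?_, fun z hz => ?_, fun g hge hgf => eq_of_act fun x => ?_⟩
  · rw [hact, P.fe, P.ee]; module
  · rw [hact, P.ff, P.ef]; module
  · rw [hact, (P.herm_W hz).1, (P.herm_W hz).2]; simp
  · have h1 : herm f (act g x) = herm f x := by
      conv_lhs => rw [← hgf]
      rw [herm_act hstar]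
    have h2 : herm e (act g x) = herm e x := by
      conv_lhs => rw [← hge]
      rw [herm_act hstar]
    show act (_ * g) x = act (g * _) x
    rw [act_mul, act_mul, hact, hact, act_add, act_add, act_smul, act_smul, act_smul, hge, hgf, h1, h2]

/-- Torus data for the lifting arguments. -/
def Weights (n p : ℕ) (μ lam : F) : Prop :=
  TOk n μ lam ∧ star μ * μ ≠ 1 ∧ (∀ r : ℕ, (star μ * μ) ^ p ^ r * (star μ * lam) ≠ 1) ∧
    (∀ r : ℕ, (star μ * lam) ^ p ^ r * (star μ * lam) ≠ 1)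

section Existence

variable (hstar : ∀ x : F, star x = x ^ q) (hF : Fintype.card F = q ^ 2)
include hstar hF

theorem exists_primitive : ∃ ν : Fˣ, orderOf ν = q ^ 2 - 1 := by
  obtain ⟨g, hg⟩ := IsCyclic.exists_ofOrder_eq_natCard (α := Fˣ)
  exact ⟨g, by rw [hg, Nat.card_units, Nat.card_eq_fintype_card, hF]⟩

theorem pow_eq_one_iff {ν : Fˣ} (hν : orderOf ν = q ^ 2 - 1) (a : ℕ) :
    ((ν : F) ^ a = 1) ↔ q ^ 2 - 1 ∣ a := by
  rw [← Units.val_pow_eq_pow_val, Units.val_eq_one, ← hν, orderOf_dvd_iff_pow_eq_one]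

theorem weights_large (p : ℕ) [Fact p.Prime] [CharP F p] (hq : 5 ≤ q) (n : ℕ) : ∃ μ : F, Weights n p μ 1 := by
  obtain ⟨p', k, σ, hp', hc, hqk, hk, -⟩ := Classical.exists_usigma hF
  obtain rfl := CharP.eq F hc ‹CharP F p›
  obtain ⟨ν, hν⟩ := exists_primitive hstar hF
  have hfac : q ^ 2 - 1 = (q + 1) * (q - 1) := Hermitian.sq_sub_one q
  set μ : F := (ν : F) ^ (q + 1) with hμd
  have hμ0 : μ ≠ 0 := pow_ne_zero _ ν.ne_zero
  have hord : ∀ a : ℕ, μ ^ a = 1 ↔ q - 1 ∣ a := fun a => by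
    rw [hμd, ← pow_mul, pow_eq_one_iff hstar hF hν, hfac]
    exact Nat.mul_dvd_mul_iff_left (by omega)
  have hμs : star μ = μ := by
    rw [hstar]
    conv_rhs => rw [← mul_one μ, ← (hord (q - 1)).2 dvd_rfl, ← pow_succ']
    rw [show q - 1 + 1 = q by omega]
  have hmod : ∀ r : ℕ, p' ^ r ≡ p' ^ (r % k) [MOD q - 1] := by
    intro r
    have h1 : q ≡ 1 [MOD q - 1] := by
      refine ((Nat.modEq_iff_dvd' (by omega)).2 dvd_rfl).symm
    conv_lhs => rw [← Nat.mod_add_div r k, pow_add, pow_mul, ← hqk]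
    calc p' ^ (r % k) * q ^ (r / k) ≡ p' ^ (r % k) * 1 ^ (r / k) [MOD q - 1] := (h1.pow _).mul_left _
      _ = p' ^ (r % k) := by rw [one_pow, mul_one]
  have hsmall : ∀ r : ℕ, ¬ q - 1 ∣ p' ^ r + 1 := by
    intro r hd
    have h' : q - 1 ∣ p' ^ (r % k) + 1 := ((hmod r).add_right 1).dvd_iff dvd_rfl |>.1 hd
    obtain ⟨s, hs⟩ : ∃ s, k = r % k + (s + 1) := ⟨k - r % k - 1, by have := Nat.mod_lt r hk; omega⟩
    have hle := Nat.le_of_dvd (by positivity) h'
    have hp2 := hp'.two_le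
    have hqq : q = p' ^ (r % k) * p' ^ (s + 1) := by rw [← pow_add, ← hs]; exact hqk
    rcases eq_or_ne (p' ^ (s + 1)) 2 with h2 | h2
    · rw [h2] at hqq
      have hp2' : p' = 2 := by
        have := Nat.le_of_dvd two_pos (h2 ▸ dvd_pow_self p' (Nat.succ_ne_zero s)); omega
      have : q - 1 ∣ p' ^ (r % k) + 1 := h'
      obtain ⟨c, hc⟩ := this
      rcases c with _ | _ | c
      · omega
      · omega
      · rw [show (q - 1) * (c + 2) = (q - 1) * c + 2 * (q - 1) by ring] at hc; omega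
    · have h3 : 3 ≤ p' ^ (s + 1) := by
        have : 2 ≤ p' ^ (s + 1) := hp2.trans (Nat.le_self_pow (Nat.succ_ne_zero s) _)
        omega
      have := Nat.mul_le_mul_left (p' ^ (r % k)) h3
      omega
  refine ⟨μ, ⟨hμ0, by simp, by rw [hμs, mul_inv_cancel₀ hμ0]; simp⟩, ?_, fun r h => ?_, fun r h => ?_⟩
  · rw [hμs, ← pow_two, Ne, hord]
    intro h; have := Nat.le_of_dvd two_pos h; omega
  · rw [hμs, mul_one, ← pow_two, ← pow_mul, ← pow_succ, hord] at h
    by_cases hp2 : p' = 2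
    · subst hp2
      exact hsmall (r + 1) (by rwa [pow_succ'])
    · have hpo : Odd p' := hp'.odd_of_ne_two hp2
      have hq2 : 2 ∣ q - 1 := by
        have : q % 2 = 1 := Nat.odd_iff.1 (hqk ▸ hpo.pow)
        omega
      have := hq2.trans h
      omega
  · rw [hμs, mul_one, ← pow_succ, hord] at h
    exact hsmall r h

theorem weights_pow (p a b : ℕ) (n : ℕ) {ν : Fˣ} (hν : orderOf ν = q ^ 2 - 1) (hb : q ^ 2 - 1 ∣ b * (q + 1))
    (hdet : q ^ 2 - 1 ∣ b * n + a + (q ^ 2 - 1 - a * q % (q ^ 2 - 1)) + (q ^ 2 - 1 - b * 2 % (q ^ 2 - 1)))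
    (hη : ¬ q ^ 2 - 1 ∣ a * q + a) (S : List ℕ) (h1 : 1 % (q ^ 2 - 1) ∈ S)
    (hS : ∀ x ∈ S, p * x % (q ^ 2 - 1) ∈ S)
    (hne : ∀ x ∈ S, ¬ q ^ 2 - 1 ∣ (a * q + a) * x + (a * q + b))
    (hne' : ∀ x ∈ S, ¬ q ^ 2 - 1 ∣ (a * q + b) * x + (a * q + b)) :
    Weights n p ((ν : F) ^ a) ((ν : F) ^ b) := by
  have hmem : ∀ r : ℕ, p ^ r % (q ^ 2 - 1) ∈ S := by
    intro r
    induction r with
    | zero => simpa using h1
    | succ r ih =>
      have := hS _ ih
      rwa [Nat.mul_mod_mod, ← pow_succ'] at this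
  have hp : ∀ c, (ν : F) ^ c = 1 ↔ q ^ 2 - 1 ∣ c := pow_eq_one_iff hstar hF hν
  have hred : ∀ c d r : ℕ, ¬ q ^ 2 - 1 ∣ c * (p ^ r % (q ^ 2 - 1)) + d → ((ν : F) ^ c) ^ p ^ r * (ν : F) ^ d ≠ 1 := by
    intro c d r h h'
    rw [← pow_mul, ← pow_add, hp] at h'
    refine h ?_
    have e : c * (p ^ r % (q ^ 2 - 1)) + d ≡ c * p ^ r + d [MOD q ^ 2 - 1] :=
      ((Nat.mod_modEq _ _).mul_left _).add_right _
    exact (e.dvd_iff dvd_rfl).2 h'
  have hs : ∀ c, star ((ν : F) ^ c) = (ν : F) ^ (c * q) := fun c => by rw [hstar, pow_mul]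
  refine ⟨⟨pow_ne_zero _ ν.ne_zero, ?_, ?_⟩, ?_, fun r => ?_, fun r => ?_⟩
  · rw [hs, ← pow_add, hp, show b * q + b = b * (q + 1) by ring]; exact hb
  · have h0 : ∀ c, (ν : F) ^ c * (ν : F) ^ (q ^ 2 - 1 - c % (q ^ 2 - 1)) = 1 := fun c => by
      rw [← pow_add, hp]
      have hpos : 0 < q ^ 2 - 1 := by rw [← hν]; exact orderOf_pos ν
      have := Nat.mod_add_div c (q ^ 2 - 1)
      have := Nat.mod_lt c hpos
      refine ⟨c / (q ^ 2 - 1) + 1, ?_⟩
      rw [mul_add, mul_one]; omega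
    rw [hs, inv_eq_of_mul_eq_one_right (h0 (a * q)), ← pow_mul, ← pow_mul]
    refine mul_right_cancel₀ (pow_ne_zero (q ^ 2 - 1 - b * 2 % (q ^ 2 - 1)) ν.ne_zero) ?_
    rw [h0, ← pow_add, ← pow_add, ← pow_add, hp, ← add_assoc]
    exact hdet
  · rw [hs, ← pow_add, Ne, hp]; exact hη
  · rw [hs, ← pow_add, ← pow_add]; exact hred _ _ r (hne _ (hmem r))
  · rw [hs, ← pow_add]; exact hred _ _ r (hne' _ (hmem r))

end Existence

end Cfsg.Agent.Small.UCover
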