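import Cfsg.Agent.Lib.Small.UCover.Unipotent

/-!
The unipotent radical over the field of four elements.
-/

set_option autoImplicit false
set_option linter.unusedSectionVars false
set_option linter.style.haveILetI false

namespace Cfsg.Agent.Small.UCover

open Matrix Cfsg.Agent.Small.Unitary Cfsg.Agent.Small.SchurLifts
open scoped commutatorElement

variable {F : Type*} [Field F] [Fintype F] [StarRing F] {n : ℕ}
  {hstar : ∀ x : F, star x = x ^ 2} (hF : Fintype.card F = 2 ^ 2) {i j : Fin n} {e f : Fin n → F}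
include hF hstar

theorem char_two : CharP F 2 := by
  obtain ⟨p, e, σ, hp, hc, hq, he, -⟩ := Classical.exists_usigma (q := 2) hF
  obtain rfl : p = 2 := ((Nat.prime_dvd_prime_iff_eq hp Nat.prime_two).1 (hq ▸ dvd_pow_self p he.ne'))
  exact hc

theorem cube_eq_one {c : F} (hc : c ≠ 0) : c ^ 3 = 1 := by
  have h := FiniteField.pow_card_sub_one_eq_one c hc
  rwa [hF] at h

theorem norm_two {c : F} (hc : c ≠ 0) : star c * c = 1 := by
  rw [hstar, ← pow_succ]
  exact cube_eq_one (hstar := hstar) hF hc

theorem skew_two {u : F} (hu : star u = -u) : u = 0 ∨ u = 1 := by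
  haveI := char_two (hstar := hstar) hF
  rw [hstar, CharTwo.neg_eq, pow_two] at hu
  rcases mul_eq_zero.1 (show u * (u - 1) = 0 by linear_combination hu) with h | h
  · exact Or.inl h
  · exact Or.inr (sub_eq_zero.1 h)

theorem f4_cases {ω : F} (hω : ω ≠ 0) (hω1 : ω ≠ 1) (c : F) : c = 0 ∨ c = 1 ∨ c = ω ∨ c = 1 + ω := by
  classical
  haveI := char_two (hstar := hstar) hF
  have h2 : (1 : F) + ω ≠ 0 := fun h => hω1 (by rw [add_eq_zero_iff_eq_neg, CharTwo.neg_eq] at h; exact h.symm)
  have hcard : ({0, 1, ω, 1 + ω} : Finset F).card = 4 := by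
    rw [Finset.card_insert_of_notMem (by simp [Ne.symm hω, Ne.symm h2]),
      Finset.card_insert_of_notMem (by simp [Ne.symm hω1, hω]),
      Finset.card_insert_of_notMem (by simp), Finset.card_singleton]
  have := (Finset.eq_univ_of_card _ (hcard.trans hF.symm)).symm ▸ Finset.mem_univ c
  simpa using this

variable {Γ : Type*} [Group Γ] (C : Central Γ (Cfsg.SU n F 2))

theorem ok_rad_two (P : Pair i j e f) (l : Fin n) (hli : l ≠ i) (hlj : l ≠ j)
    (hmany : ∀ k m : Fin n, k ≠ i → k ≠ j → m ≠ i → m ≠ j → k ≠ m →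
      ∃ r : Fin n, r ≠ i ∧ r ≠ j ∧ r ≠ k ∧ r ≠ m) : OK C (rad hstar P) := by
  classical
  haveI := char_two (hstar := hstar) hF
  have hW : ∀ k : Fin n, k ≠ i → k ≠ j → ∀ c : F, (Pi.single k c : Fin n → F) ∈ Wsub i j := fun k hk hk' c =>
    ⟨Pi.single_eq_of_ne hk.symm _, Pi.single_eq_of_ne hk'.symm _⟩
  have hone : star (1 : F) = -1 := by rw [star_one, CharTwo.neg_eq]
  let z₁ := zel hstar e (1 : F)
  let M : Subgroup (Cfsg.SU n F 2) := (Subgroup.centralizer {C.L z₁}).map C.π
  have hM : ∀ g, g ∈ M → Commute (C.L z₁) (C.L g) := by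
    rintro g ⟨x, hx, rfl⟩
    exact C.commute_indep rfl (C.π_L _) (Subgroup.mem_centralizer_iff.1 hx _ rfl)
  have mkM : ∀ g, Commute (C.L z₁) (C.L g) → g ∈ M := fun g hg =>
    ⟨C.L g, Subgroup.mem_centralizer_iff.2 fun y hy => by rw [Set.mem_singleton_iff.1 hy]; exact hg.eq, C.π_L g⟩
  have hzero : zel hstar e (0 : F) = 1 := eich_zero_zero hstar P.ee
  have hzM : ∀ u : F, star u = -u → zel hstar e u ∈ M := by
    intro u hu
    rcases skew_two (hstar := hstar) hF hu with rfl | rfl
    · rw [hzero]; exact one_mem M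
    · exact mkM _ (Commute.refl _)
  have hadd : ∀ {z w : Fin n → F}, z ∈ Wsub i j → w ∈ Wsub i j → wel hstar e z ∈ M → wel hstar e w ∈ M →
      wel hstar e (z + w) ∈ M := by
    intro z w hz hw h1 h2
    obtain ⟨e1, e2⟩ := zel_split (hstar := hstar) P (par_ok hF hstar P (Submodule.add_mem _ hz hw))
      ((par_ok hF hstar P hz).add (par_ok hF hstar P hw))
    rw [show wel hstar e (z + w) = zel hstar e _ * eich hstar e (z + w) (par e z + par e w - herm z w) from e1,
      ← eich_mul hstar (par_ok hF hstar P hz) (par_ok hF hstar P hw)]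
    exact mul_mem (hzM _ e2) (mul_mem h1 h2)
  have hwel0 : wel hstar e (0 : Fin n → F) ∈ M := by
    obtain ⟨e1, e2⟩ := zel_split (hstar := hstar) P (par_ok hF hstar P (Submodule.zero_mem _))
      ((EOk_zero_iff (t := (0 : F)) P.ee).2 (by simp))
    rw [show wel hstar e (0 : Fin n → F) = _ from e1, eich_zero_zero hstar P.ee, mul_one]
    exact hzM _ e2
  have hsingle : ∀ (k : Fin n), k ≠ i → k ≠ j → ∀ c : F, wel hstar e (Pi.single k c) ∈ M := by
    intro k hk hk' c
    rcases eq_or_ne c 0 with rfl | hc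
    · rw [Pi.single_zero]; exact hwel0
    · have hok := par_ok hF hstar P (hW k hk hk' c)
      have hn : herm (Pi.single k c : Fin n → F) (Pi.single k c) = 1 := by
        rw [herm_single_left, Pi.single_eq_same, norm_two (hstar := hstar) hF hc]
      have hsq : wel hstar e (Pi.single k c) * wel hstar e (Pi.single k c) = z₁ := by
        rw [wel, eich_mul hstar hok hok, hn]
        congr 1
        · funext m; simp [CharTwo.add_self_eq_zero]
        · rw [CharTwo.add_self_eq_zero, zero_sub, CharTwo.neg_eq]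
      refine mkM _ (C.commute_indep ((C.π_L _).trans (hsq.symm.trans ?_)) rfl
        ((Commute.refl (C.L (wel hstar e (Pi.single k c)))).mul_left (Commute.refl _)))
      rw [map_mul, C.π_L]
  have hzw : ∀ u z, star u = -u → z ∈ Wsub i j → Commute (C.L (zel hstar e u)) (C.L (wel hstar e z)) := by
    intro u z hu hz
    rcases skew_two (hstar := hstar) hF hu with rfl | rfl
    · exact C.commute_indep (show C.π (C.L (zel hstar e 0)) = C.π 1 by rw [C.π_L, map_one, hzero]) rfl
        (Commute.one_left _)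
    · refine hM _ ?_
      have key : ∀ s : Finset (Fin n), (∀ k ∈ s, k ≠ i ∧ k ≠ j) →
          (∑ k ∈ s, (Pi.single k (z k) : Fin n → F)) ∈ Wsub i j ∧
            wel hstar e (∑ k ∈ s, (Pi.single k (z k) : Fin n → F)) ∈ M := by
        intro s
        induction s using Finset.induction with
        | empty => exact fun _ => ⟨by simp, by simpa using hwel0⟩
        | insert a s ha ih =>
          intro hs
          obtain ⟨h1, h2⟩ := ih fun k hk => hs k (Finset.mem_insert_of_mem hk)
          obtain ⟨ha1, ha2⟩ := hs a (Finset.mem_insert_self a s)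
          rw [Finset.sum_insert ha]
          exact ⟨Submodule.add_mem _ (hW a ha1 ha2 _) h1, hadd (hW a ha1 ha2 _) h1 (hsingle a ha1 ha2 _) h2⟩
      obtain ⟨-, h⟩ := key (Finset.univ \ {i, j}) fun k hk => by simpa using hk
      convert h using 2
      funext m
      rw [Finset.sum_apply]
      rcases eq_or_ne m i with rfl | hmi
      · rw [hz.1, Finset.sum_eq_zero]
        intro x hx; exact Pi.single_eq_of_ne (fun h => by simp [h] at hx) _
      rcases eq_or_ne m j with rfl | hmj
      · rw [hz.2, Finset.sum_eq_zero]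
        intro x hx; exact Pi.single_eq_of_ne (fun h => by simp [h] at hx) _
      rw [Finset.sum_eq_single m (fun b _ hb => Pi.single_eq_of_ne hb.symm _) (fun h => absurd (by simp [hmi, hmj]) h),
        Pi.single_eq_same]
  have hcc : ∀ {a b : Γ} {u : F}, star u = -u → C.π a = zel hstar e u → C.π b ∈ rad hstar P → Commute a b :=
    fun hu ha hb => zel_commute_pre hF C hli hlj hzw (P := P) hu ha hb
  let Z : Subgroup Γ :=
    { carrier := {a | ∃ u, star u = -u ∧ C.π a = zel hstar e u}
      one_mem' := ⟨0, by simp, by rw [map_one, hzero]⟩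
      mul_mem' := by
        rintro a b ⟨u, hu, ha⟩ ⟨v, hv, hb⟩
        exact ⟨u + v, by rw [star_add, hu, hv, neg_add], by rw [map_mul, ha, hb, zel_mul P hu hv]⟩
      inv_mem' := by
        rintro a ⟨u, hu, ha⟩
        refine ⟨-u, by rw [star_neg, hu], ?_⟩
        rw [map_inv, ha]
        refine inv_eq_of_mul_eq_one_right ?_
        rw [zel_mul P hu (by rw [star_neg, hu]), add_neg_cancel, hzero] }
  letI : CommGroup Z :=
    { mul_comm := fun a b => Subtype.ext (by
        obtain ⟨u, hu, ha⟩ := a.2
        obtain ⟨v, hv, hb⟩ := b.2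
        exact (hcc hu ha (hb ▸ zel_mem P hv)).eq) }
  have hcomm : ∀ {a b : Γ}, C.π a ∈ rad hstar P → C.π b ∈ rad hstar P → ⁅a, b⁆ ∈ Z := fun ha hb =>
    derived_rad hF P (by rw [map_commutatorElement]; exact Subgroup.commutator_mem_commutator ha hb)
  have hcm : ∀ {a b c : Γ}, C.π a ∈ rad hstar P → C.π b ∈ rad hstar P → C.π c ∈ rad hstar P →
      ⁅a * b, c⁆ = ⁅a, c⁆ * ⁅b, c⁆ := by
    intro a b c ha hb hc
    obtain ⟨u, hu, e1⟩ := hcomm hb hc
    obtain ⟨v, hv, e2⟩ := hcomm ha hc
    rw [show ⁅a * b, c⁆ = a * ⁅b, c⁆ * a⁻¹ * ⁅a, c⁆ by simp only [commutatorElement_def]; group,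
      ← (hcc hu e1 ha).eq, mul_inv_cancel_right, (hcc hu e1 (e2 ▸ zel_mem P hv)).eq]
  have hwR : ∀ w : ↥(Wsub i j : Submodule F (Fin n → F)), C.π (C.L (wel hstar e w.1)) ∈ rad hstar P := fun w => by
    rw [C.π_L]; exact wel_mem hF P w.2
  let B : ↥(Wsub i j : Submodule F (Fin n → F)) → ↥(Wsub i j : Submodule F (Fin n → F)) → Z := fun z w =>
    ⟨⁅C.L (wel hstar e z.1), C.L (wel hstar e w.1)⁆, hcomm (hwR z) (hwR w)⟩
  have hl : ∀ z z' w, B (z + z') w = B z w * B z' w := by
    intro z z' w
    refine Subtype.ext ?_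
    obtain ⟨h1, h2⟩ := zel_split (hstar := hstar) P (par_ok hF hstar P (Submodule.add_mem _ z.2 z'.2))
      ((par_ok hF hstar P z.2).add (par_ok hF hstar P z'.2))
    obtain ⟨zz, hzz⟩ := C.surj (zel hstar e (par e (z.1 + z'.1) - (par e z.1 + par e z'.1 - herm z.1 z'.1)))
    show ⁅C.L (wel hstar e (z.1 + z'.1)), _⁆ = _ * _
    rw [C.comm_left (a' := zz * (C.L (wel hstar e z.1) * C.L (wel hstar e z'.1))) (by
        rw [map_mul, map_mul, C.π_L, C.π_L, C.π_L, hzz, wel, wel, wel,
          eich_mul hstar (par_ok hF hstar P z.2) (par_ok hF hstar P z'.2)]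
        exact h1),
      hcm (hzz.symm ▸ zel_mem P h2) (by rw [map_mul]; exact mul_mem (hwR z) (hwR z')) (hwR w),
      commutatorElement_eq_one_iff_mul_comm.2 (hcc h2 hzz (hwR w)).eq, one_mul, hcm (hwR z) (hwR z') (hwR w)]
  have hBanti : ∀ z w, B w z = (B z w)⁻¹ := fun z w => Subtype.ext (commutatorElement_inv _ _).symm
  have hr : ∀ z w w', B z (w + w') = B z w * B z w' := fun z w w' => by
    rw [hBanti, hl, hBanti z w, hBanti z w', _root_.mul_inv, inv_inv, inv_inv]
  obtain ⟨ω, hω, hω1⟩ : ∃ ω : F, ω ≠ 0 ∧ ω ≠ 1 := by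
    obtain ⟨b, hb⟩ := Hermitian.exists_star_ne hstar hF
    exact ⟨b, fun h => hb (by rw [h, star_zero]), fun h => hb (by rw [h, star_one])⟩
  -- an element fixing a coordinate outside the pair centralises the lifts of the centre
  have hfixZ : ∀ (g : Cfsg.SU n F 2) (r : Fin n), r ≠ i → r ≠ j → act g e = e →
      act g (Pi.single r 1) = Pi.single r 1 → ∀ a ∈ Z, Commute (C.L g) a := by
    intro g r hr1 hr2 hge hgr a ⟨u, hu, ha⟩
    rcases skew_two (hstar := hstar) hF hu with rfl | rfl
    · exact C.commute_indep rfl (show C.π a = C.π 1 by rw [ha, hzero, map_one]) (Commute.one_right _)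
    · have hgω : act g (Pi.single r ω) = Pi.single r ω := by
        rw [show (Pi.single r ω : Fin n → F) = ω • Pi.single r 1 by
          funext m; rcases eq_or_ne m r with rfl | h <;> simp [*], act_smul, hgr]
      have hfix : ∀ c : F, act g (Pi.single r c) = Pi.single r c →
          Commute g (wel hstar e (Pi.single r c)) := fun c hc => by
        show _ = _
        rw [← mul_inv_eq_iff_eq_mul, wel, eich_conj hstar g (par_ok hF hstar P (hW r hr1 hr2 c)), hge, hc]
      refine C.commute_indep rfl (ha.trans ?_) (C.commute_comm (c := C.L (wel hstar e (Pi.single r 1)))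
        (d := C.L (wel hstar e (Pi.single r ω))) (by rw [C.π_L, C.π_L]; exact hfix 1 hgr)
        (by rw [C.π_L, C.π_L]; exact hfix ω hgω))
      rw [map_commutatorElement, C.π_L, C.π_L, wel, wel, eich_comm (par_ok hF hstar P (hW r hr1 hr2 _))
        (par_ok hF hstar P (hW r hr1 hr2 _))]
      have hsk : star (star ω * 1 - star (1 : F) * ω) = -(star ω * 1 - star (1 : F) * ω) := by
        rw [star_one, mul_one, one_mul, star_sub, star_star, neg_sub]
      rw [herm_single_left, herm_single_left, Pi.single_eq_same, Pi.single_eq_same]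
      congr 1
      rcases skew_two (hstar := hstar) hF hsk with h | h
      · exfalso
        rw [star_one, mul_one, one_mul, sub_eq_zero, hstar, pow_two] at h
        exact hω1 (mul_left_cancel₀ hω (h.trans (mul_one ω).symm))
      · exact h.symm
  have hinvB : ∀ (g : Cfsg.SU n F 2) (r : Fin n), r ≠ i → r ≠ j → act g e = e →
      act g (Pi.single r 1) = Pi.single r 1 → ∀ (z w z' w' : ↥(Wsub i j : Submodule F (Fin n → F))),
      act g z.1 = z'.1 → act g w.1 = w'.1 → B z' w' = B z w := by
    intro g r hr1 hr2 hge hgr z w z' w' hz' hw'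
    refine Subtype.ext ?_
    show ⁅C.L (wel hstar e z'.1), C.L (wel hstar e w'.1)⁆ = _
    have ok1 : EOk e z'.1 (par e z.1) := by
      have := (par_ok hF hstar P z.2).act hstar g; rwa [hge, hz'] at this
    have ok2 : EOk e w'.1 (par e w.1) := by
      have := (par_ok hF hstar P w.2).act hstar g; rwa [hge, hw'] at this
    obtain ⟨h1, h2⟩ := zel_split (hstar := hstar) P ok1 (par_ok hF hstar P z'.2)
    obtain ⟨h3, h4⟩ := zel_split (hstar := hstar) P ok2 (par_ok hF hstar P w'.2)
    obtain ⟨a, ha⟩ := C.surj (zel hstar e (par e z.1 - par e z'.1))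
    obtain ⟨b, hb⟩ := C.surj (zel hstar e (par e w.1 - par e w'.1))
    have hc := C.conj_comm (g := C.L g) (a := C.L (wel hstar e z.1)) (b := C.L (wel hstar e w.1))
      (a' := a * C.L (wel hstar e z'.1)) (b' := b * C.L (wel hstar e w'.1))
      (by rw [map_mul, map_mul, map_mul, map_inv, C.π_L, C.π_L, C.π_L, ha, wel,
        eich_conj hstar g (par_ok hF hstar P z.2), hge, hz']; exact h1)
      (by rw [map_mul, map_mul, map_mul, map_inv, C.π_L, C.π_L, C.π_L, hb, wel,
        eich_conj hstar g (par_ok hF hstar P w.2), hge, hw']; exact h3)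
    have hbR : C.π (b * C.L (wel hstar e w'.1)) ∈ rad hstar P := by
      rw [map_mul, hb]; exact mul_mem (zel_mem P h4) (hwR w')
    rw [(hfixZ g r hr1 hr2 hge hgr _ (hcomm (hwR z) (hwR w))).eq, mul_inv_cancel_right,
      hcm (ha.symm ▸ zel_mem P h2) (hwR z') hbR, commutatorElement_eq_one_iff_mul_comm.2 (hcc h2 ha hbR).eq,
      one_mul, ← commutatorElement_inv (b * _), hcm (hb.symm ▸ zel_mem P h4) (hwR w') (hwR z'),
      commutatorElement_eq_one_iff_mul_comm.2 (hcc h4 hb (hwR z')).eq, one_mul, commutatorElement_inv] at hc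
    exact hc.symm
  let sg : ∀ k : Fin n, k ≠ i → k ≠ j → F → ↥(Wsub i j : Submodule F (Fin n → F)) :=
    fun k hk hk' c => ⟨Pi.single k c, hW k hk hk' c⟩
  have sg_add : ∀ k hk hk' c c', sg k hk hk' (c + c') = sg k hk hk' c + sg k hk hk' c' := fun k hk hk' c c' =>
    Subtype.ext (Pi.single_add (f := fun _ => F) k c c')
  let g₀ : Z := B (sg l hli hlj 1) (sg l hli hlj ω)
  have hBs : ∀ z, B z z = 1 := fun z => Subtype.ext (commutatorElement_self _)
  have hBz : ∀ z, B z 0 = 1 ∧ B 0 z = 1 := fun z => by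
    constructor
    · have := hr z 0 0; rwa [add_zero, left_eq_mul] at this
    · have := hl 0 0 z; rwa [add_zero, left_eq_mul] at this
  have hG : g₀ * g₀ = 1 := by
    rw [← hr, show sg l hli hlj ω + sg l hli hlj ω = 0 from Subtype.ext (funext fun m => CharTwo.add_self_eq_zero _)]
    exact (hBz _).1
  let G₀ : Subgroup Z :=
    { carrier := {x | x = 1 ∨ x = g₀}
      one_mem' := Or.inl rfl
      mul_mem' := by
        rintro a b (rfl | rfl) (rfl | rfl)
        · exact Or.inl (one_mul _)
        · exact Or.inr (one_mul _)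
        · exact Or.inr (mul_one _)
        · exact Or.inl hG
      inv_mem' := by
        rintro a (rfl | rfl)
        · exact Or.inl inv_one
        · exact Or.inr (inv_eq_of_mul_eq_one_right hG) }
  have hgk : ∀ k hk hk', B (sg k hk hk' 1) (sg k hk hk' ω) = g₀ := by
    intro k hk hk'
    rcases eq_or_ne k l with rfl | hkl
    · rfl
    obtain ⟨r, hr1, hr2, hr3, hr4⟩ := hmany k l hk hk' hli hlj hkl
    have hM' : MOk (Equiv.swap k l) (1 : Fin n → F) := ⟨fun m => by simp, by
      rw [Equiv.Perm.sign_swap hkl]; simp [CharTwo.neg_eq]⟩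
    have hg : ∀ x : Fin n → F, act (mono hstar (Equiv.swap k l) 1) x = fun m => x (Equiv.swap k l m) := fun x => by
      rw [act_mono hM']; simp
    have hge : act (mono hstar (Equiv.swap k l) 1) e = e := by
      rw [hg]; funext m
      rcases eq_or_ne m k with rfl | h1
      · rw [Equiv.swap_apply_left, P.supp_e m (by simp [hk, hk']), P.supp_e l (by simp [hli, hlj])]
      rcases eq_or_ne m l with rfl | h2
      · rw [Equiv.swap_apply_right, P.supp_e m (by simp [hli, hlj]), P.supp_e k (by simp [hk, hk'])]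
      · rw [Equiv.swap_apply_of_ne_of_ne h1 h2]
    have hsw : ∀ (a : Fin n) (c : F), act (mono hstar (Equiv.swap k l) 1) (Pi.single a c) =
        Pi.single (Equiv.swap k l a) c := fun a c => by
      rw [hg]; funext m
      simp only [Pi.single_apply]
      exact if_congr (by rw [Equiv.apply_eq_iff_eq_symm_apply, Equiv.symm_swap]) rfl rfl
    refine hinvB _ r hr1 hr2 hge (by rw [hsw, Equiv.swap_apply_of_ne_of_ne hr3 hr4]) (sg l hli hlj 1)
      (sg l hli hlj ω) _ _ ?_ ?_ <;>
    · show act _ (Pi.single l _) = Pi.single k _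
      rw [hsw, Equiv.swap_apply_right]
  have hpair : ∀ k m hk hk' hm hm' c d, B (sg k hk hk' c) (sg m hm hm' d) ∈ G₀ := by
    intro k m hk hk' hm hm' c d
    rcases eq_or_ne k m with rfl | hkm
    · have z0 : sg k hk hk' 0 = 0 := Subtype.ext (Pi.single_zero k)
      have e2 : B (sg k hk hk' ω) (sg k hk hk' 1) = g₀ := by
        rw [hBanti, hgk k hk hk', inv_eq_of_mul_eq_one_right hG]
      rcases f4_cases (hstar := hstar) hF hω hω1 c with rfl | rfl | rfl | rfl <;>
        rcases f4_cases (hstar := hstar) hF hω hω1 d with rfl | rfl | rfl | rfl <;>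
        simp only [sg_add, hl, hr, z0, (hBz _).1, (hBz _).2, hBs, hgk k hk hk', e2, one_mul, mul_one, hG] <;>
        first
          | exact Or.inl rfl
          | exact Or.inr rfl
    · obtain ⟨r, hr1, hr2, hr3, hr4⟩ := hmany k m hk hk' hm hm' hkm
      let dd : Fin n → F := Function.update (Function.update 1 k ω) r (star ω)
      have hωn := norm_two (hstar := hstar) hF hω
      have hd1 : ∀ a, star (dd a) * dd a = 1 := fun a => by
        simp only [dd]
        rcases eq_or_ne a r with rfl | h1
        · rw [Function.update_self, star_star, mul_comm]; exact hωn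
        · rw [Function.update_of_ne h1]
          rcases eq_or_ne a k with rfl | h2
          · rw [Function.update_self]; exact hωn
          · rw [Function.update_of_ne h2]; simp
      have hd2 : ∏ a, dd a = 1 := by
        simp only [dd]
        rw [Finset.prod_update_of_mem (Finset.mem_univ r), Finset.prod_update_of_mem (by simp [hr3.symm])]
        simp [hωn]
      have hge : act (dg hstar dd) e = e := by
        rw [act_dg hd1 hd2]; funext a
        by_cases ha : a = i ∨ a = j
        · have h1 : a ≠ r := by rcases ha with rfl | rfl <;> [exact hr1.symm; exact hr2.symm]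
          have h2 : a ≠ k := by rcases ha with rfl | rfl <;> [exact hk.symm; exact hk'.symm]
          simp [dd, Function.update_of_ne h1, Function.update_of_ne h2]
        · rw [P.supp_e a (by simpa using ha), mul_zero]
      have hfm : ∀ d : F, act (dg hstar dd) (Pi.single m d) = Pi.single m d := fun d => by
        rw [act_dg hd1 hd2]; funext a
        rcases eq_or_ne a m with rfl | h
        · simp [dd, Function.update_of_ne hr4.symm, Function.update_of_ne hkm.symm]
        · simp [Pi.single_eq_of_ne h]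
      left
      refine bil_eq_one 2 (fun c d => B (sg k hk hk' c) (sg m hm hm' d)) (fun a b d => by rw [sg_add k hk hk', hl])
        (fun a b d => by rw [sg_add m hm hm', hr]) ω 1 (fun a b => ?_) (fun r h => hω1 ?_) c d
      · refine hinvB _ m hm hm' hge (hfm 1) (sg k hk hk' a) (sg m hm hm' b) _ _ ?_ ?_
        · show act _ (Pi.single k a) = Pi.single k (ω • a)
          rw [act_dg hd1 hd2]; funext x
          rcases eq_or_ne x k with rfl | h
          · simp [dd, Function.update_of_ne hr3.symm]
          · simp [Pi.single_eq_of_ne h]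
        · show act _ (Pi.single m b) = Pi.single m ((1 : F) • b)
          rw [one_smul, hfm]
      · rw [mul_one] at h
        have h3 : orderOf ω ∣ Nat.gcd (2 ^ r) 3 := Nat.dvd_gcd (orderOf_dvd_of_pow_eq_one h)
          (orderOf_dvd_of_pow_eq_one (cube_eq_one (hstar := hstar) hF hω))
        rwa [show Nat.gcd (2 ^ r) 3 = 1 from Nat.Coprime.pow_left r (by norm_num), Nat.dvd_one,
          orderOf_eq_one_iff] at h3
  have hall : ∀ z w, B z w ∈ G₀ := by
    intro z w
    have hsum : ∀ z : ↥(Wsub i j : Submodule F (Fin n → F)),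
        z = ∑ k : {k : Fin n // k ≠ i ∧ k ≠ j}, sg k.1 k.2.1 k.2.2 (z.1 k.1) := by
      intro z
      refine Subtype.ext (funext fun m => ?_)
      rw [Submodule.coe_sum, Finset.sum_apply]
      by_cases hm : m ≠ i ∧ m ≠ j
      · rw [Finset.sum_eq_single ⟨m, hm⟩ (fun b _ hb => Pi.single_eq_of_ne (fun h => hb (Subtype.ext h.symm)) _)
          (by simp)]
        show z.1 m = (Pi.single m (z.1 m) : Fin n → F) m
        exact (Pi.single_eq_same (M := fun _ => F) m _).symm
      · rw [Finset.sum_eq_zero (fun b _ => Pi.single_eq_of_ne (fun h : m = b.1 => hm (h ▸ b.2)) _)]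
        rcases not_and_or.1 hm with h | h <;> rw [not_not.1 h]
        · exact z.2.1
        · exact z.2.2
    have hL : ∀ (s : Finset {k : Fin n // k ≠ i ∧ k ≠ j}) (f : {k : Fin n // k ≠ i ∧ k ≠ j} →
        ↥(Wsub i j : Submodule F (Fin n → F))) y, (∀ k, B (f k) y ∈ G₀) → B (∑ k ∈ s, f k) y ∈ G₀ := by
      intro s f y hy
      induction s using Finset.induction with
      | empty => rw [Finset.sum_empty, (hBz y).2]; exact one_mem _
      | insert a s ha ih => rw [Finset.sum_insert ha, hl]; exact mul_mem (hy a) ih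
    rw [hsum z]
    refine hL _ _ _ fun k => ?_
    rw [hBanti]
    refine inv_mem ?_
    rw [hsum w]
    refine hL _ _ _ fun m => ?_
    exact hpair m.1 k.1 m.2.1 m.2.2 k.2.1 k.2.2 _ _
  have hrange : dl C (rad hstar P) ≤ G₀.map Z.subtype := by
    refine Subgroup.commutator_le.2 fun x hx y hy => ?_
    obtain ⟨z, hz, u, hu, ex⟩ := rad_split hF P hx
    obtain ⟨w, hw, v, hv, ey⟩ := rad_split hF P hy
    have hzu : C.π (C.L (zel hstar e u)) ∈ rad hstar P := by rw [C.π_L]; exact zel_mem P hu
    have hzv : C.π (C.L (zel hstar e v)) ∈ rad hstar P := by rw [C.π_L]; exact zel_mem P hv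
    have hbR : C.π (C.L (zel hstar e v) * C.L (wel hstar e w)) ∈ rad hstar P := by
      rw [map_mul]; exact mul_mem hzv (hwR ⟨w, hw⟩)
    rw [C.comm_indep (a' := C.L (zel hstar e u) * C.L (wel hstar e z))
      (b' := C.L (zel hstar e v) * C.L (wel hstar e w)) (by rw [map_mul, C.π_L, C.π_L]; exact ex)
      (by rw [map_mul, C.π_L, C.π_L]; exact ey), hcm hzu (hwR ⟨z, hz⟩) hbR,
      commutatorElement_eq_one_iff_mul_comm.2 (hcc hu (C.π_L _) hbR).eq,
      one_mul, ← commutatorElement_inv (C.L (zel hstar e v) * _), hcm hzv (hwR ⟨w, hw⟩) (hwR ⟨z, hz⟩),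
      commutatorElement_eq_one_iff_mul_comm.2 (hcc hv (C.π_L _) (hwR ⟨z, hz⟩)).eq, one_mul, commutatorElement_inv]
    exact ⟨_, hall ⟨z, hz⟩ ⟨w, hw⟩, rfl⟩
  intro x hx h1
  obtain ⟨y, hy, rfl⟩ := hrange hx
  rcases hy with rfl | rfl
  · rfl
  · exfalso
    have h2 : C.π ⁅C.L (wel hstar e (Pi.single l (1 : F))), C.L (wel hstar e (Pi.single l ω))⁆ = 1 := h1
    rw [map_commutatorElement, C.π_L, C.π_L, wel, wel, eich_comm (par_ok hF hstar P (hW l hli hlj _))
      (par_ok hF hstar P (hW l hli hlj _)), herm_single_left, herm_single_left, Pi.single_eq_same,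
      Pi.single_eq_same, star_one, mul_one, one_mul, ← hzero] at h2
    have hsk : star (star ω - ω) = -(star ω - ω) := by rw [star_sub, star_star, neg_sub]
    have h3 := (rad_params P (Submodule.zero_mem _) (Submodule.zero_mem _) ((EOk_zero_iff P.ee).2 hsk)
      ((EOk_zero_iff P.ee).2 (by simp)) h2).2
    rw [sub_eq_zero, hstar, pow_two] at h3
    exact hω1 (mul_left_cancel₀ hω (h3.trans (mul_one ω).symm))

end Cfsg.Agent.Small.UCover
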