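import Cfsg.Agent.Lib.Small.UCover.Embed
import Cfsg.Agent.Lib.Small.UCover.Torus
import Cfsg.Agent.Lib.Small.UCover.UnipotentTwo

/-!
A maximal unipotent subgroup as an iterated product of radicals, and its derived preimage.
-/

set_option autoImplicit false
set_option linter.unusedSectionVars false
set_option linter.style.haveILetI false

namespace Cfsg.Agent.Small.UCover

open Matrix Cfsg.Agent.Small.Unitary Cfsg.Agent.Small.SchurLifts
open scoped commutatorElement Pointwise

/-- A central extension restricted to an embedded subgroup. -/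
noncomputable def restr {Γ G A : Type*} [Group Γ] [Group G] [Group A] (C : Central Γ G) (ι : A →* G)
    (hι : Function.Injective ι) : Central ↥(pre C ι.range) A where
  π := (MonoidHom.ofInjective hι).symm.toMonoidHom.comp (C.π.subgroupComap ι.range)
  surj := (MonoidHom.ofInjective hι).symm.surjective.comp fun y => by
    obtain ⟨x, hx⟩ := C.surj y.1
    exact ⟨⟨x, show C.π x ∈ ι.range by rw [hx]; exact y.2⟩, Subtype.ext hx⟩
  central := fun x hx => by
    refine Subgroup.mem_center_iff.2 fun y => Subtype.ext ?_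
    refine Subgroup.mem_center_iff.1 (C.central ?_) y.1
    have h : (C.π.subgroupComap ι.range) x = 1 := by
      apply (MonoidHom.ofInjective hι).symm.injective
      rw [map_one]
      exact hx
    exact congrArg Subtype.val h

theorem ι_restr {Γ G A : Type*} [Group Γ] [Group G] [Group A] (C : Central Γ G) (ι : A →* G)
    (hι : Function.Injective ι) (x : ↥(pre C ι.range)) : ι ((restr C ι hι).π x) = C.π x.1 :=
  MonoidHom.apply_ofInjective_symm hι _

/-- A subgroup of the embedded group. -/
theorem ok_map {Γ G A : Type*} [Group Γ] [Group G] [Group A] (C : Central Γ G) (ι : A →* G)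
    (hι : Function.Injective ι) {S : Subgroup A} (h : OK (restr C ι hι) S) : OK C (S.map ι) := by
  have hle : pre C (S.map ι) ≤ pre C ι.range := Subgroup.comap_mono (Subgroup.map_le_range ι S)
  have e : pre C (S.map ι) = (pre (restr C ι hι) S).map (pre C ι.range).subtype := by
    ext x
    constructor
    · intro hx
      refine ⟨⟨x, hle hx⟩, ?_, rfl⟩
      obtain ⟨a, ha, hax⟩ := Subgroup.mem_comap.1 hx
      show (restr C ι hι).π _ ∈ S
      have : ι ((restr C ι hι).π ⟨x, hle hx⟩) = ι a := by rw [ι_restr, hax]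
      rwa [hι this]
    · rintro ⟨y, hy, rfl⟩
      exact ⟨_, hy, ι_restr C ι hι y⟩
  intro x hx h1
  rw [dl, e, ← Subgroup.map_commutator] at hx
  obtain ⟨y, hy, rfl⟩ := hx
  have h2 : (restr C ι hι).π y = 1 := hι (by rw [ι_restr, map_one]; exact h1)
  rw [h y hy h2, map_one]

variable {F : Type*} [Field F] [Fintype F] [StarRing F] {n q : ℕ}

section Card

variable (hstar : ∀ x : F, star x = x ^ q) (hF : Fintype.card F = q ^ 2)
include hstar hF

theorem card_skew : Nat.card {s : F // star s = -s} = q := by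
  classical
  have hq := Hermitian.q_two_le hF
  let φ : F →+ F :=
    { toFun := fun s => s - star s
      map_zero' := by simp
      map_add' := fun a b => by rw [star_add]; ring }
  have hmem : ∀ (u : F), u ∈ φ.range ↔ star u = -u := by
    intro u
    refine ⟨?_, fun hu => ?_⟩
    · rintro ⟨s, rfl⟩
      exact skew_sub s
    · obtain ⟨σ, hσ⟩ := exists_trace hstar hF (r := (1 : F)) (star_one F)
      refine ⟨u * σ, ?_⟩
      show u * σ - star (u * σ) = u
      rw [star_mul', hu]
      linear_combination u * hσ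
  have hroots : ∀ c : F, Nat.card {s : F // star s = c * s} ≤ q := by
    intro c
    let P : Polynomial F := Polynomial.X ^ q - Polynomial.C c * Polynomial.X
    have hdeg : P.natDegree = q := by
      rw [Polynomial.natDegree_sub_eq_left_of_natDegree_lt] <;> rw [Polynomial.natDegree_X_pow]
      refine lt_of_le_of_lt (Polynomial.natDegree_C_mul_le _ _) ?_
      rw [Polynomial.natDegree_X]; omega
    have hP : P ≠ 0 := fun h => by rw [h, Polynomial.natDegree_zero] at hdeg; omega
    calc Nat.card {s : F // star s = c * s} ≤ P.roots.toFinset.card := by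
          rw [Nat.card_eq_fintype_card, Fintype.card_subtype]
          refine Finset.card_le_card fun s hs => ?_
          rw [Finset.mem_filter] at hs
          rw [Multiset.mem_toFinset, Polynomial.mem_roots hP]
          simp [P, ← hstar, hs.2]
      _ ≤ P.roots.card := Multiset.toFinset_card_le _
      _ ≤ q := hdeg ▸ Polynomial.card_roots' P
  have h1 : Nat.card φ.range ≤ q := by
    refine le_trans (le_of_eq (Nat.card_congr (Equiv.subtypeEquivRight fun u => ?_))) (hroots (-1))
    rw [hmem, neg_one_mul]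
  have h2 : Nat.card φ.ker ≤ q := by
    refine le_trans (le_of_eq (Nat.card_congr (Equiv.subtypeEquivRight fun s => ?_))) (hroots 1)
    rw [AddMonoidHom.mem_ker, one_mul]
    exact (sub_eq_zero (a := s) (b := star s)).trans eq_comm
  have h3 : Nat.card φ.ker * Nat.card φ.range = q * q := by
    rw [← pow_two, ← hF, ← Nat.card_eq_fintype_card,
      ← Nat.card_congr (QuotientAddGroup.quotientKerEquivRange φ).toEquiv, mul_comm]
    exact (AddSubgroup.card_eq_card_quotient_mul_card_addSubgroup _).symm
  have h4 : Nat.card φ.range = q := by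
    refine le_antisymm h1 ?_
    by_contra hlt
    push Not at hlt
    have := Nat.mul_lt_mul_of_le_of_lt h2 hlt (by omega)
    omega
  rw [← h4]
  exact (Nat.card_congr (Equiv.subtypeEquivRight hmem)).symm

variable {i j : Fin n} {e f : Fin n → F}

theorem card_rad (P : Pair i j e f) :
    Nat.card (rad hstar P) = (q ^ 2) ^ (n - 2) * q := by
  classical
  let W := (Wsub i j : Submodule F (Fin n → F))
  let φ : ↥W × {s : F // star s = -s} → ↥(rad hstar P) := fun x =>
    ⟨zel hstar e x.2.1 * wel hstar e x.1.1, mul_mem (zel_mem P x.2.2) (wel_mem hF P x.1.2)⟩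
  have hφ : Function.Bijective φ := by
    constructor
    · rintro ⟨⟨z, hz⟩, ⟨u, hu⟩⟩ ⟨⟨w, hw⟩, ⟨v, hv⟩⟩ h
      have h1 : zel hstar e u * wel hstar e z = zel hstar e v * wel hstar e w := congrArg Subtype.val h
      have e1 := par_ok hF hstar P hz
      have e2 := par_ok hF hstar P hw
      have f1 := (EOk_zero_iff P.ee).2 hu
      have f2 := (EOk_zero_iff P.ee).2 hv
      rw [zel, zel, wel, wel, eich_mul hstar f1 e1, eich_mul hstar f2 e2, herm_zero_left, herm_zero_left,
        sub_zero, sub_zero, zero_add, zero_add] at h1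
      obtain ⟨rfl, h2⟩ := rad_params (hstar := hstar) P hz hw
        (by simpa [herm_zero_left] using f1.add e1) (by simpa [herm_zero_left] using f2.add e2) h1
      obtain rfl : u = v := add_right_cancel h2
      rfl
    · rintro ⟨x, hx⟩
      obtain ⟨z, hz, u, hu, e1⟩ := rad_split hF P hx
      exact ⟨(⟨z, hz⟩, ⟨u, hu⟩), Subtype.ext e1.symm⟩
  rw [← Nat.card_congr (Equiv.ofBijective φ hφ), Nat.card_prod, card_skew hstar hF]
  congr 1
  let ψ : ↥W ≃ ({m : Fin n // m ≠ i ∧ m ≠ j} → F) :=
    { toFun := fun z m => z.1 m.1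
      invFun := fun g => ⟨fun m => if h : m ≠ i ∧ m ≠ j then g ⟨m, h⟩ else 0, by simp [W, mem_Wsub]⟩
      left_inv := fun z => by
        refine Subtype.ext (funext fun m => ?_)
        show (if h : m ≠ i ∧ m ≠ j then z.1 m else 0) = z.1 m
        split_ifs with h
        · rfl
        · rcases not_and_or.1 h with h | h <;> rw [not_not] at h <;> subst h
          exacts [z.2.1.symm, z.2.2.symm]
      right_inv := fun g => funext fun m => dif_pos m.2 }
  rw [Nat.card_congr ψ, Nat.card_fun, Nat.card_eq_fintype_card, hF, Nat.card_eq_fintype_card,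
    Fintype.card_subtype]
  congr 1
  rw [show (Finset.univ.filter fun m : Fin n => m ≠ i ∧ m ≠ j) = Finset.univ \ {i, j} by ext; simp,
    Finset.card_sdiff, Finset.inter_univ, Finset.card_univ, Fintype.card_fin, Finset.card_pair P.ne]

end Card

variable {hstar : ∀ x : F, star x = x ^ q} {i j : Fin n} {e f : Fin n → F}

/-- Conjugation of the radical by a torus element. -/
theorem tor_conj (P : Pair i j e f) {t : Cfsg.SU n F q} {μ lam : F} (hte : act t e = μ • e)
    (htW : ∀ z ∈ Wsub i j, act t z = lam • z) (hμ : μ ≠ 0) {z : Fin n → F} {a : F} (hz : z ∈ Wsub i j)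
    (h : EOk e z a) :
    EOk e ((star μ * lam) • z) (star μ * μ * a) ∧
      t * eich hstar e z a * t⁻¹ = eich hstar e ((star μ * lam) • z) (star μ * μ * a) := by
  have h1 := h.act hstar t
  rw [hte, htW z hz] at h1
  refine ⟨by rw [mul_smul]; exact h1.smul μ hμ, ?_⟩
  rw [eich_conj hstar t h, hte, htW z hz, eich_smul hstar h1 hμ, mul_smul]

variable (hF : Fintype.card F = q ^ 2)
include hF

/-- The radical extended by a subgroup fixing the pair. -/
theorem ok_step {Γ : Type*} [Group Γ] [Finite Γ] (C : Central Γ (Cfsg.SU n F q)) (P : Pair i j e f)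
    {k : Fin n} (hki : k ≠ i) (hkj : k ≠ j) {μ lam : F} (ht : TOk n μ lam) (hα : star μ * lam ≠ 1)
    (hQ : OK C (rad hstar P)) (U : Subgroup (Cfsg.SU n F q)) (hU : OK C U)
    (hfix : ∀ u ∈ U, act u e = e ∧ act u f = f) :
    OK C (rad hstar P ⊔ U) ∧ Nat.card ↥(rad hstar P ⊔ U) = Nat.card (rad hstar P) * Nat.card U := by
  obtain ⟨t, hte, -, htW, htc⟩ := exists_tor hstar P ht
  have hUW : ∀ u ∈ U, ∀ z ∈ Wsub i j, act u z ∈ Wsub i j := fun u hu z hz => by
    apply P.zero
    · rw [← (hfix u hu).1, herm_act hstar]; exact (P.herm_W hz).1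
    · rw [← (hfix u hu).2, herm_act hstar]; exact (P.herm_W hz).2
  have hUQ : ∀ u ∈ U, ∀ x ∈ rad hstar P, u * x * u⁻¹ ∈ rad hstar P := by
    rintro u hu _ ⟨z, a, hz, h, rfl⟩
    have h' := h.act hstar u
    rw [(hfix u hu).1] at h'
    exact ⟨act u z, a, hUW u hu z hz, h', by rw [eich_conj hstar u h, (hfix u hu).1]⟩
  have hdis : ∀ x ∈ rad hstar P, x ∈ U → x = 1 := by
    rintro _ ⟨z, a, hz, h, rfl⟩ hxU
    have h1 := (hfix _ hxU).2
    rw [act_eich hstar h, P.ef, (P.W_herm hz).2, one_smul, mul_one, sub_zero, add_assoc, add_eq_left] at h1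
    have h2 := congrArg (herm f) h1
    rw [herm_add_right, (P.herm_W hz).2, herm_smul_right, P.fe, mul_one, zero_add, herm_zero_right] at h2
    subst h2
    rw [zero_smul, add_zero] at h1
    subst h1
    exact eich_zero_zero hstar P.ee
  refine ⟨ok_semidirect _ U t hQ hU hUQ hdis ?_ (fun u hu => htc u (hfix u hu).1 (hfix u hu).2) ?_, ?_⟩
  · rintro _ ⟨z, a, hz, h, rfl⟩
    obtain ⟨h1, h2⟩ := tor_conj (hstar := hstar) P hte htW ht.1 hz h
    exact ⟨_, _, Submodule.smul_mem _ _ hz, h1, h2⟩
  · rintro x hx hx'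
    obtain ⟨z, a, hz, h, rfl⟩ := hx
    obtain ⟨u, hu, e1⟩ := derived_rad hF P hx'
    obtain ⟨h1, h2⟩ := tor_conj (hstar := hstar) P hte htW ht.1 hz h
    have hu0 := (EOk_zero_iff P.ee).2 hu
    rw [commutatorElement_def, h2, mul_inv_eq_iff_eq_mul, zel, eich_mul hstar hu0 h] at e1
    obtain ⟨h3, -⟩ := rad_params (hstar := hstar) P (Submodule.smul_mem _ _ hz)
      (by rw [zero_add]; exact hz) h1 (hu0.add h) e1
    rw [zero_add] at h3
    obtain rfl : z = 0 := by
      have h4 : (star μ * lam - 1) • z = 0 := by rw [sub_smul, one_smul, h3, sub_self]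
      exact (smul_eq_zero.1 h4).resolve_left (sub_ne_zero.2 hα)
    exact zel_mem_derived hF P hki hkj ((EOk_zero_iff P.ee).1 h)
  · have hN : U ≤ Subgroup.normalizer (rad hstar P : Set (Cfsg.SU n F q)) := fun u hu =>
      mem_normalizer_of_le (hUQ u hu)
    let φ : ↥(rad hstar P) × ↥U → ↥(rad hstar P ⊔ U) := fun x =>
      ⟨x.1.1 * x.2.1, mul_mem (Subgroup.mem_sup_left x.1.2) (Subgroup.mem_sup_right x.2.2)⟩
    have hφ : Function.Bijective φ := by
      constructor
      · rintro ⟨⟨x, hx⟩, ⟨u, hu⟩⟩ ⟨⟨y, hy⟩, ⟨v, hv⟩⟩ h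
        have h1 : x * u = y * v := congrArg Subtype.val h
        have h2 : y⁻¹ * x = v * u⁻¹ := by
          rw [eq_mul_inv_iff_mul_eq, mul_assoc, h1, inv_mul_cancel_left]
        have h3 := hdis _ (mul_mem (inv_mem hy) hx) (h2 ▸ mul_mem hv (inv_mem hu))
        obtain rfl : y = x := inv_mul_eq_one.1 h3
        rw [inv_mul_cancel, eq_comm, mul_inv_eq_one] at h2
        subst h2
        rfl
      · rintro ⟨g, hg⟩
        have : g ∈ ((rad hstar P : Set (Cfsg.SU n F q)) * (U : Set (Cfsg.SU n F q))) := by
          rw [← Subgroup.coe_mul_of_right_le_normalizer_left _ _ hN]; exact hg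
        obtain ⟨x, hx, u, hu, e1⟩ := this
        exact ⟨(⟨x, hx⟩, ⟨u, hu⟩), Subtype.ext e1⟩
    rw [← Nat.card_congr (Equiv.ofBijective φ hφ), Nat.card_prod]

/-- Two more coordinates. -/
theorem up_two_fix {e f : Fin (n + 2) → F} (P : Pair (0 : Fin (n + 2)) 1 e f) (g : Cfsg.SU n F q) :
    act (up hstar (up hstar g)) e = e ∧ act (up hstar (up hstar g)) f = f := by
  have h : ∀ x : Fin (n + 2) → F, Supp {0, 1} x → act (up hstar (up hstar g)) x = x := by
    intro x hx
    have h0 : Fin.tail (Fin.tail x) = 0 := funext fun m => hx _ (by simp [Fin.ext_iff])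
    rw [act_up, act_up, h0, show act g (0 : Fin n → F) = 0 from Matrix.mulVec_zero _]
    funext m
    refine Fin.cases ?_ (fun m => ?_) m
    · rfl
    · refine Fin.cases ?_ (fun m => ?_) m
      · rfl
      · simp only [Fin.cons_succ]
        exact (congrFun h0 m).symm
  exact ⟨h e P.supp_e, h f P.supp_f⟩

end Cfsg.Agent.Small.UCover
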