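import Cfsg.Agent.Lib.Small.UCover.Embed
import Cfsg.Agent.Lib.Small.OrthCover.Relay

/-!
The kernel of a perfect central extension of `SU_n(q)`, `n ≥ 5`, from the stabiliser of a norm one vector.
-/

set_option autoImplicit false
set_option linter.unusedSectionVars false
set_option linter.style.haveILetI false

namespace Cfsg.Agent.Small.UCover

open Matrix Module MulAction Cfsg.Agent.Small.Unitary Cfsg.Agent.Small.SchurLifts
open scoped commutatorElement

variable {F : Type*} [Field F] [Fintype F] [StarRing F] {n q : ℕ}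

/-- The norm one vectors. -/
def UVec (n : ℕ) (_hstar : ∀ x : F, star x = x ^ q) : Type _ := {v : Fin n → F // herm v v = 1}

variable {hstar : ∀ x : F, star x = x ^ q}

instance : MulAction (Cfsg.SU n F q) (UVec n hstar) where
  smul g v := ⟨act g v.1, by rw [herm_act hstar, v.2]⟩
  one_smul v := Subtype.ext (act_one _)
  mul_smul g h v := Subtype.ext (act_mul g h _)

theorem smul_val (g : Cfsg.SU n F q) (v : UVec n hstar) : (g • v).1 = act g v.1 := rfl

theorem stab_eq (a : UVec n hstar) : stabilizer (Cfsg.SU n F q) a = fixS q {a.1} := by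
  ext g
  exact ⟨fun h b hb => by rw [Set.mem_singleton_iff.1 hb]; exact congrArg Subtype.val h,
    fun h => Subtype.ext (h a.1 rfl)⟩

theorem stab₂_eq (a b : UVec n hstar) :
    OrthCover.stab₂ (Cfsg.SU n F q) a b = fixS q {a.1, b.1} := by
  ext g
  refine ⟨fun h c hc => ?_, fun h => ⟨Subtype.ext (h a.1 (by simp)), Subtype.ext (h b.1 (by simp))⟩⟩
  rcases hc with rfl | hc
  · exact congrArg Subtype.val h.1
  · rw [Set.mem_singleton_iff.1 hc]; exact congrArg Subtype.val h.2

/-- A common neighbour. -/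
def Via (a b w : UVec n hstar) : Prop := herm w.1 a.1 = 0 ∧ herm w.1 b.1 = 0

theorem mem_perp_two {a b x : Fin n → F} : x ∈ perpF ![a, b] ↔ herm a x = 0 ∧ herm b x = 0 :=
  ⟨fun h => ⟨h 0, h 1⟩, fun h i => by fin_cases i; exacts [h.1, h.2]⟩

theorem mem_perp_three {a b c x : Fin n → F} :
    x ∈ perpF ![a, b, c] ↔ herm a x = 0 ∧ herm b x = 0 ∧ herm c x = 0 :=
  ⟨fun h => ⟨h 0, h 1, h 2⟩, fun h i => by fin_cases i; exacts [h.1, h.2.1, h.2.2]⟩

theorem mem_perp_four {a b c d x : Fin n → F} :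
    x ∈ perpF ![a, b, c, d] ↔ herm a x = 0 ∧ herm b x = 0 ∧ herm c x = 0 ∧ herm d x = 0 :=
  ⟨fun h => ⟨h 0, h 1, h 2, h 3⟩, fun h i => by fin_cases i; exacts [h.1, h.2.1, h.2.2.1, h.2.2.2]⟩

theorem herm_comm_zero {u v : Fin n → F} (h : herm u v = 0) : herm v u = 0 := by
  rw [← star_herm, h, star_zero]

variable (hstar) (hF : Fintype.card F = q ^ 2)
include hF

theorem exists_via (hn : 5 ≤ n) (a b : UVec n hstar) : ∃ w : UVec n hstar, Via a b w := by
  obtain ⟨x, hx, hx1⟩ := exists_unit hstar hF (on_one a.2) (perpF ![a.1, b.1])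
    (fun x hx i => by fin_cases i; exact (mem_perp_two.1 hx).1)
    (by have := finrank_perpF ![a.1, b.1]; omega)
  obtain ⟨h1, h2⟩ := mem_perp_two.1 hx
  exact ⟨⟨x, hx1⟩, herm_comm_zero h1, herm_comm_zero h2⟩

theorem exists_via_three (hn : 5 ≤ n) {a b c : UVec n hstar} (hab : herm a.1 b.1 = 0) :
    ∃ w : UVec n hstar, Via a b w ∧ Via b c w ∧ Via a c w := by
  obtain ⟨x, hx, hx1⟩ := exists_unit hstar hF (on_two a.2 b.2 hab) (perpF ![a.1, b.1, c.1])
    (fun x hx => mem_perp_two.2 ⟨(mem_perp_three.1 hx).1, (mem_perp_three.1 hx).2.1⟩)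
    (by have := finrank_perpF ![a.1, b.1, c.1]; omega)
  obtain ⟨h1, h2, h3⟩ := mem_perp_three.1 hx
  exact ⟨⟨x, hx1⟩, ⟨herm_comm_zero h1, herm_comm_zero h2⟩, ⟨herm_comm_zero h2, herm_comm_zero h3⟩,
    ⟨herm_comm_zero h1, herm_comm_zero h3⟩⟩

/-- Two common neighbours which are not degenerately linked. -/
def Good (v v' : UVec n hstar) : Prop :=
  (star (herm v.1 v'.1) * herm v.1 v'.1 ≠ 1) ∨ ∃ c : F, v'.1 = c • v.1

omit hF in
theorem good_perfect_step (hF : Fintype.card F = q ^ 2) {m : ℕ} (hn : n = m + 2) (h3 : 3 ≤ m)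
    (hex : ¬(m = 3 ∧ q = 2)) {a b v v' : UVec n hstar}
    (hv : Via a b v) (hv' : Via a b v') (hg : Good hstar v v') :
    ∃ g ∈ ⁅OrthCover.stab₂ (Cfsg.SU n F q) v v', OrthCover.stab₂ (Cfsg.SU n F q) v v'⁆, g • a = b := by
  subst hn
  rcases hg with hne | ⟨c, hc⟩
  · set d := herm v.1 v'.1 with hd
    have hd' : herm v'.1 v.1 = star d := by rw [hd, star_herm]
    have hyy : herm (v'.1 - d • v.1) (v'.1 - d • v.1) = 1 - star d * d := by
      rw [herm_sub_left, herm_sub_right, herm_sub_right, herm_smul_left, herm_smul_left, herm_smul_right,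
        herm_smul_right, v.2, v'.2, hd', ← hd]
      ring
    have hne0 : (1 : F) - star d * d ≠ 0 := sub_ne_zero.2 (Ne.symm hne)
    obtain ⟨s, hs0, hs⟩ := Hermitian.exists_norm hstar hF (inv_ne_zero hne0)
      (by rw [star_inv₀, ← hyy, star_herm])
    set y := s • (v'.1 - d • v.1) with hy
    have hy1 : herm y y = 1 := by
      rw [hy, herm_smul_left, herm_smul_right, hyy, ← mul_assoc, hs, inv_mul_cancel₀ hne0]
    have hvy : herm v.1 y = 0 := by
      rw [hy, herm_smul_right, herm_sub_right, herm_smul_right, v.2, ← hd, mul_one, sub_self, mul_zero]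
    have hperp : ∀ x : UVec (m + 2) hstar, herm v.1 x.1 = 0 → herm v'.1 x.1 = 0 → herm y x.1 = 0 := by
      intro x h1 h2
      rw [hy, herm_smul_left, herm_sub_left, herm_smul_left, h1, h2, mul_zero, sub_zero, mul_zero]
    obtain ⟨g, hg⟩ := exists_move hstar hF (v := ![v.1, y, a.1]) (w := ![v.1, y, b.1])
      (on_three v.2 hy1 a.2 hvy hv.1 (hperp a hv.1 hv'.1)) (on_three v.2 hy1 b.2 hvy hv.2 (hperp b hv.2 hv'.2))
      (by omega)
    refine ⟨g, ?_, Subtype.ext (hg 2)⟩
    have hsub : fixS q {v.1, y} ≤ OrthCover.stab₂ (Cfsg.SU (m + 2) F q) v v' := by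
      intro h hh
      rw [stab₂_eq]
      intro x hx
      rcases hx with rfl | hx
      · exact hh _ (by simp)
      · rw [Set.mem_singleton_iff.1 hx]
        have e : v'.1 = s⁻¹ • y + d • v.1 := by
          rw [hy, smul_smul, inv_mul_cancel₀ hs0, one_smul, sub_add_cancel]
        rw [e, act_add, act_smul h s⁻¹ y, act_smul h d v.1, hh y (by simp), hh v.1 (by simp)]
    refine Subgroup.commutator_mono hsub hsub (fix_two_perfect hstar hF h3 hex v.2 hy1 hvy fun x hx => ?_)
    rcases hx with rfl | hx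
    · exact hg 0
    · rw [Set.mem_singleton_iff.1 hx]; exact hg 1
  · obtain ⟨g, hg⟩ := exists_move hstar hF (v := ![v.1, a.1]) (w := ![v.1, b.1])
      (on_two v.2 a.2 hv.1) (on_two v.2 b.2 hv.2) (by omega)
    refine ⟨g, ?_, Subtype.ext (hg 1)⟩
    have hsub : fixS q {v.1} ≤ OrthCover.stab₂ (Cfsg.SU (m + 2) F q) v v' := by
      intro h hh
      rw [stab₂_eq]
      intro x hx
      rcases hx with rfl | hx
      · exact hh _ rfl
      · rw [Set.mem_singleton_iff.1 hx, hc, act_smul, hh v.1 rfl]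
    refine Subgroup.commutator_mono hsub hsub (fix_one_perfect (n := m + 1) hstar hF (by omega)
      (fun h => by omega) v.2 fun x hx => ?_)
    rw [Set.mem_singleton_iff.1 hx]
    exact hg 0

/-- Common neighbours are linked. -/
theorem linked (hn : 5 ≤ n) (hq : 3 ≤ q ∨ 7 ≤ n) {a b v v' : UVec n hstar} (hv : Via a b v) (hv' : Via a b v') :
    Relation.ReflTransGen (fun x y => Via a b x ∧ Via a b y ∧ Good hstar x y) v v' := by
  by_cases hg : Good hstar v v'
  · exact .single ⟨hv, hv', hg⟩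
  have hd : star (herm v.1 v'.1) * herm v.1 v'.1 = 1 := by
    by_contra h; exact hg (Or.inl h)
  set z := v'.1 - herm v.1 v'.1 • v.1 with hz
  have hvz : herm v.1 z = 0 := by rw [hz, herm_sub_right, herm_smul_right, v.2, mul_one, sub_self]
  have hzz : herm z z = 0 := by
    rw [hz, herm_sub_left, herm_sub_right, herm_sub_right, herm_smul_left, herm_smul_left, herm_smul_right,
      herm_smul_right, v.2, v'.2, ← star_herm v.1 v'.1]
    linear_combination (-1 : F) * hd
  have haz : herm a.1 z = 0 := by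
    rw [hz, herm_sub_right, herm_smul_right, herm_comm_zero hv.1, herm_comm_zero hv'.1, mul_zero, sub_zero]
  have hbz : herm b.1 z = 0 := by
    rw [hz, herm_sub_right, herm_smul_right, herm_comm_zero hv.2, herm_comm_zero hv'.2, mul_zero, sub_zero]
  have hON : ON ![a.1, v.1] := on_two a.2 v.2 (herm_comm_zero hv.1)
  suffices hx : ∃ x : UVec n hstar, Via a b x ∧ herm v.1 x.1 = 0 ∧ star (herm z x.1) * herm z x.1 ≠ 1 by
    obtain ⟨x, hx1, hx2, hx3⟩ := hx
    refine .tail (.single ⟨hv, hx1, Or.inl ?_⟩) ⟨hx1, hv', Or.inl ?_⟩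
    · rw [hx2, mul_zero]; exact zero_ne_one
    · have e : herm x.1 v'.1 = star (herm z x.1) := by
        rw [star_herm, hz, herm_sub_right, herm_smul_right, herm_comm_zero hx2, mul_zero, sub_zero]
      rwa [e, star_star, mul_comm]
  rcases hq with hq | hn7
  swap
  · obtain ⟨x, hx, hx1⟩ := exists_unit hstar hF hON (perpF ![a.1, b.1, v.1, z])
      (fun x hx => mem_perp_two.2 ⟨(mem_perp_four.1 hx).1, (mem_perp_four.1 hx).2.2.1⟩)
      (by have := finrank_perpF ![a.1, b.1, v.1, z]; omega)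
    obtain ⟨h1, h2, h3, h4⟩ := mem_perp_four.1 hx
    exact ⟨⟨x, hx1⟩, ⟨herm_comm_zero h1, herm_comm_zero h2⟩, h3, by rw [h4, mul_zero]; exact zero_ne_one⟩
  obtain ⟨x, hx, hx1⟩ := exists_unit hstar hF hON (perpF ![a.1, b.1, v.1])
    (fun x hx => mem_perp_two.2 ⟨(mem_perp_three.1 hx).1, (mem_perp_three.1 hx).2.2⟩)
    (by have := finrank_perpF ![a.1, b.1, v.1]; omega)
  obtain ⟨h1, h2, h3⟩ := mem_perp_three.1 hx
  by_cases hc : star (herm z x) * herm z x = 1
  swap
  · exact ⟨⟨x, hx1⟩, ⟨herm_comm_zero h1, herm_comm_zero h2⟩, h3, hc⟩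
  set c := herm z x with hcd
  have hc0 : c ≠ 0 := fun h => by rw [h, mul_zero] at hc; exact zero_ne_one hc
  -- a norm which is neither zero nor one
  obtain ⟨u, hu0, hu1⟩ : ∃ u : F, u ≠ 0 ∧ star u * u ≠ 1 := by
    obtain ⟨g, hg⟩ := IsCyclic.exists_ofOrder_eq_natCard (α := Fˣ)
    rw [Nat.card_units, Nat.card_eq_fintype_card, hF] at hg
    refine ⟨g, g.ne_zero, fun h => ?_⟩
    rw [hstar, ← pow_succ, ← Units.val_pow_eq_pow_val, Units.val_eq_one] at h
    have h' := Nat.le_of_dvd (by omega) (orderOf_dvd_of_pow_eq_one h)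
    have : 3 * q ≤ q ^ 2 := by rw [pow_two]; exact Nat.mul_le_mul hq le_rfl
    omega
  set s := star u * u with hs
  have hs0 : s ≠ 0 := mul_ne_zero (star_ne_zero.2 hu0) hu0
  have hss : star s = s := by rw [hs, star_mul', star_star, mul_comm]
  obtain ⟨e, he⟩ := exists_trace hstar hF (r := s - 1) (by rw [star_sub, hss, star_one])
  have hxz : herm x z = star c := by rw [hcd, star_herm]
  have hc' : star c ≠ 0 := star_ne_zero.2 hc0
  have ht : star (e / star c) * c = star e := by rw [star_div₀, star_star, div_mul_cancel₀ _ hc0]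
  have ht' : e / star c * star c = e := div_mul_cancel₀ _ hc'
  set y := x + (e / star c) • z with hy
  have hyy : herm y y = s := by
    rw [hy, herm_add_left, herm_add_right, herm_add_right, herm_smul_left, herm_smul_left, herm_smul_right,
      herm_smul_right, hzz, hx1, hxz, ← hcd, ht', ht, mul_zero, mul_zero]
    linear_combination he
  refine ⟨⟨u⁻¹ • y, ?_⟩, ⟨?_, ?_⟩, ?_, ?_⟩
  · rw [herm_smul_left, herm_smul_right, hyy, hs, star_inv₀]
    field_simp [star_ne_zero.2 hu0]
  · refine herm_comm_zero ?_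
    rw [herm_smul_right, hy, herm_add_right, herm_smul_right, h1, haz, mul_zero, add_zero, mul_zero]
  · refine herm_comm_zero ?_
    rw [herm_smul_right, hy, herm_add_right, herm_smul_right, h2, hbz, mul_zero, add_zero, mul_zero]
  · show herm v.1 (u⁻¹ • y) = 0
    rw [herm_smul_right, hy, herm_add_right, herm_smul_right, h3, hvz, mul_zero, add_zero, mul_zero]
  · show star (herm z (u⁻¹ • y)) * herm z (u⁻¹ • y) ≠ 1
    rw [herm_smul_right, hy, herm_add_right, herm_smul_right, hzz, mul_zero, add_zero, ← hcd, star_mul',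
      mul_mul_mul_comm, hc, mul_one, star_inv₀, ← mul_inv, ← hs, Ne, inv_eq_one]
    exact hu1

/-- The amalgam. -/
noncomputable def relay {m : ℕ} (hn : n = m + 2) (h3 : 3 ≤ m) (hex : ¬(m = 3 ∧ q = 2)) (hq : 3 ≤ q ∨ 7 ≤ n) :
    OrthCover.Relay (Cfsg.SU n F q) (UVec n hstar) where
  adj a b := herm a.1 b.1 = 0
  via := Via
  symm a b h := herm_comm_zero h
  via_adj a b w h := h
  via_swap a b w h := ⟨h.2, h.1⟩
  via_inv g a b w h := ⟨by rw [smul_val, smul_val, herm_act hstar]; exact h.1,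
    by rw [smul_val, smul_val, herm_act hstar]; exact h.2⟩
  inv g a b h := by rw [smul_val, smul_val, herm_act hstar]; exact h
  tr a b := by
    obtain ⟨g, hg⟩ := exists_move hstar hF (on_one a.2) (on_one b.2) (by omega)
    exact ⟨g, Subtype.ext (hg 0)⟩
  perfect1 a := by
    subst hn
    rw [stab_eq]
    exact fix_one_perfect (n := m + 1) hstar hF (by omega) (fun h => by omega) a.2
  perfect2 a w h := by
    subst hn
    rw [stab₂_eq]
    exact fix_two_perfect hstar hF h3 hex a.2 w.2 h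
  trans w a b ha hb := by
    obtain ⟨g, hg⟩ := exists_move hstar hF (on_two w.2 a.2 ha) (on_two w.2 b.2 hb) (by omega)
    exact ⟨g, Subtype.ext (hg 0), Subtype.ext (hg 1)⟩
  pair := exists_via hstar hF (by omega)
  detour a b w ha hb := ⟨1, one_smul _ w, by rw [one_smul]; exact ⟨ha, ha⟩,
    by rw [inv_one, one_smul]; exact ⟨ha, hb⟩⟩
  tri a b c := by
    obtain ⟨d, hd⟩ := exists_via hstar hF (by omega) a b
    refine .split a b c d ?_ ?_ ?_
    · obtain ⟨w, h1, h2, h3⟩ := exists_via_three hstar hF (by omega) (c := b) hd.1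
      exact .base d a b w h1 h2 h3
    · obtain ⟨w, h1, h2, h3⟩ := exists_via_three hstar hF (by omega) (c := c) hd.2
      exact .base d b c w h1 h2 h3
    · obtain ⟨w, h1, h2, h3⟩ := exists_via_three hstar hF (by omega) (c := c) (herm_comm_zero hd.1)
      exact .base a d c w h1 h2 h3
  link a b w w' hw hw' := by
    induction linked hstar hF (by omega) hq hw hw' with
    | refl => exact .refl
    | tail _ h ih => exact .tail (ih h.1) ⟨h.1, h.2.1, good_perfect_step hstar hF hn h3 hex h.1 h.2.1 h.2.2⟩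

/-- The kernel is trivial once it misses the derived preimage of a vector stabiliser. -/
theorem ker_bot_of_stab {m : ℕ} (hn : n = m + 2) (h3 : 3 ≤ m) (hex : ¬(m = 3 ∧ q = 2)) (hq : 3 ≤ q ∨ 7 ≤ n)
    {Γ : Type*} [Group Γ] (C : Central Γ (Cfsg.SU n F q)) (hΓ : commutator Γ = ⊤) (a : UVec n hstar)
    (hok : OK C (fixS q {a.1})) : C.π.ker = ⊥ := by
  rw [Subgroup.eq_bot_iff_forall]
  intro k hk
  refine hok k ?_ hk
  have := (relay hstar hF hn h3 hex hq).ker_le C hΓ a hk
  rwa [OrthCover.Relay.H, stab_eq] at this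

end Cfsg.Agent.Small.UCover
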