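import Cfsg.Agent.Lib.Small.UCover.Tools
import Cfsg.Agent.Lib.Small.Unitary.Eichler
import Cfsg.Agent.Lib.Small.Unitary.Orbits
import Cfsg.Agent.Lib.Small.Hermitian
import Cfsg.Agent.Lib.Classical.UnitaryOrders

/-!
Monomial elements, orthonormal frames and subspaces of unitary spaces over finite fields.
-/

set_option autoImplicit false
set_option linter.unusedSectionVars false
set_option linter.style.haveILetI false

namespace Cfsg.Agent.Small.UCover

open Matrix Module Cfsg.Agent.Small.Unitary

variable {F : Type*} [Field F] [Fintype F] [StarRing F] {n k q : ℕ}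

/-- An orthonormal family. -/
def ON (v : Fin k → Fin n → F) : Prop := ∀ a b, herm (v a) (v b) = if a = b then 1 else 0

theorem ON.comp {l : ℕ} {v : Fin k → Fin n → F} (h : ON v) (e : Fin l → Fin k) (he : Function.Injective e) :
    ON (v ∘ e) := fun a b => by
  rw [Function.comp_apply, Function.comp_apply, h, if_congr he.eq_iff rfl rfl]

theorem on_one {a : Fin n → F} (h : herm a a = 1) : ON ![a] := fun i j => by
  fin_cases i; fin_cases j; simpa

theorem on_two {a b : Fin n → F} (ha : herm a a = 1) (hb : herm b b = 1) (hab : herm a b = 0) : ON ![a, b] := by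
  have hba : herm b a = 0 := by rw [← star_herm, hab, star_zero]
  intro i j
  fin_cases i <;> fin_cases j <;> simp [ha, hb, hab, hba]

theorem on_three {a b c : Fin n → F} (ha : herm a a = 1) (hb : herm b b = 1) (hc : herm c c = 1)
    (hab : herm a b = 0) (hac : herm a c = 0) (hbc : herm b c = 0) : ON ![a, b, c] := by
  have hba : herm b a = 0 := by rw [← star_herm, hab, star_zero]
  have hca : herm c a = 0 := by rw [← star_herm, hac, star_zero]
  have hcb : herm c b = 0 := by rw [← star_herm, hbc, star_zero]
  intro i j
  fin_cases i <;> fin_cases j <;> simp [ha, hb, hc, hab, hac, hbc, hba, hca, hcb]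

theorem on_single : ON (fun a : Fin n => (Pi.single a 1 : Fin n → F)) := fun a b => by
  rw [herm_single_left, star_one, one_mul]
  rcases eq_or_ne a b with rfl | h
  · simp
  · rw [if_neg h]
    exact Pi.single_eq_of_ne h _

/-- Vectors perpendicular to a family. -/
def perpF (v : Fin k → Fin n → F) : Submodule F (Fin n → F) where
  carrier := {x | ∀ a, herm (v a) x = 0}
  add_mem' h h' a := by rw [herm_add_right, h a, h' a, add_zero]
  zero_mem' a := herm_zero_right _
  smul_mem' c x h a := by rw [herm_smul_right, h a, mul_zero]

theorem finrank_perpF (v : Fin k → Fin n → F) : n ≤ finrank F (perpF v) + k := by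
  let φ : (Fin n → F) →ₗ[F] Fin k → F :=
    { toFun := fun x a => herm (v a) x
      map_add' := fun x y => funext fun a => herm_add_right _ _ _
      map_smul' := fun c x => funext fun a => herm_smul_right _ _ _ }
  have hk : perpF v = LinearMap.ker φ := by
    ext x
    exact ⟨fun h => funext h, fun h => congrFun h⟩
  have h1 := LinearMap.finrank_range_add_finrank_ker φ
  rw [Module.finrank_fin_fun] at h1
  have h2 := Submodule.finrank_le (LinearMap.range φ)
  rw [Module.finrank_fin_fun] at h2
  rw [hk]; omega

/-- A totally isotropic subspace perpendicular to an orthonormal family is small. -/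
theorem isotropic_bound {v : Fin k → Fin n → F} (hv : ON v) (S : Submodule F (Fin n → F))
    (hS : ∀ x ∈ S, ∀ y ∈ S, herm x y = 0) (hp : S ≤ perpF v) : 2 * finrank F S + k ≤ n := by
  classical
  let S' : Submodule F (Fin n → F) :=
    { carrier := {x | star x ∈ S}
      add_mem' := fun {x y} h h' => by simpa [star_add] using S.add_mem h h'
      zero_mem' := by simp [S.zero_mem]
      smul_mem' := fun c x h => by
        show star (c • x) ∈ S
        rw [show star (c • x) = star c • star x from funext fun i => by simp [mul_comm]]
        exact S.smul_mem _ h }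
  have hS' : finrank F S' = finrank F S := by
    have hcard : Nat.card S' = Nat.card S := Nat.card_congr
      { toFun := fun x => ⟨star x.1, x.2⟩
        invFun := fun x => ⟨star x.1, by show star (star x.1) ∈ S; rw [star_star]; exact x.2⟩
        left_inv := fun x => Subtype.ext (star_star _)
        right_inv := fun x => Subtype.ext (star_star _) }
    rw [Module.natCard_eq_pow_finrank (K := F), Module.natCard_eq_pow_finrank (K := F) (V := S)] at hcard
    exact Nat.pow_right_injective (by rw [Nat.card_eq_fintype_card]; exact Fintype.one_lt_card) hcard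
  let A := (S'.dualAnnihilator).comap (dotProductEquiv F (Fin n)).toLinearMap
  have hA : finrank F A + finrank F S = n := by
    have e : A = S'.dualAnnihilator.map (dotProductEquiv F (Fin n)).symm.toLinearMap :=
      (Submodule.map_equiv_eq_comap_symm (dotProductEquiv F (Fin n)).symm S'.dualAnnihilator).symm
    rw [e, LinearEquiv.finrank_map_eq, ← hS', add_comm, Subspace.finrank_add_finrank_dualAnnihilator_eq,
      Module.finrank_fin_fun]
  have hli : LinearIndependent F v := by
    rw [Fintype.linearIndependent_iff]
    intro g hg i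
    have h := congrArg (herm (v i)) hg
    have e : herm (v i) (∑ a, g a • v a) = ∑ a, g a * herm (v i) (v a) := by
      simp only [herm, dotProduct_sum, dotProduct_smul, smul_eq_mul]
    rw [e, herm_zero_right] at h
    simpa [hv i] using h
  have hle : S ⊔ Submodule.span F (Set.range v) ≤ A := by
    have hmem : ∀ x : Fin n → F, (∀ s ∈ S, herm s x = 0) → x ∈ A := fun x hx => by
      simp only [A, Submodule.mem_comap, Submodule.mem_dualAnnihilator]
      intro w hw
      have := hx _ hw
      rw [herm, star_star] at this
      simpa [dotProduct_comm] using this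
    refine sup_le (fun x hx => hmem x fun s hs => hS s hs x hx) (Submodule.span_le.2 ?_)
    rintro _ ⟨a, rfl⟩
    exact hmem _ fun s hs => by rw [← star_herm, hp hs a, star_zero]
  have hdisj : S ⊓ Submodule.span F (Set.range v) = ⊥ := by
    rw [eq_bot_iff]
    rintro x ⟨hx, hx'⟩
    obtain ⟨g, rfl⟩ := (Submodule.mem_span_range_iff_exists_fun F).1 hx'
    rw [Submodule.mem_bot]
    have hg : ∀ i, g i = 0 := fun i => by
      have h := hp hx i
      have e : herm (v i) (∑ a, g a • v a) = ∑ a, g a * herm (v i) (v a) := by
        simp only [herm, dotProduct_sum, dotProduct_smul, smul_eq_mul]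
      rw [e] at h
      simpa [hv i] using h
    simp [hg]
  have h2 := Submodule.finrank_sup_add_finrank_inf_eq S (Submodule.span F (Set.range v))
  rw [hdisj, finrank_bot, finrank_span_eq_card hli, Fintype.card_fin] at h2
  have h3 := Submodule.finrank_mono hle
  omega

section Finite

variable (hstar : ∀ x : F, star x = x ^ q) (hF : Fintype.card F = q ^ 2)
include hstar hF

/-- A norm one vector in a subspace which is too large to be totally isotropic. -/
theorem exists_unit {v : Fin k → Fin n → F} (hv : ON v) (S : Submodule F (Fin n → F)) (hp : S ≤ perpF v)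
    (hd : n < 2 * finrank F S + k) : ∃ x ∈ S, herm x x = 1 := by
  obtain ⟨x, hx, hne⟩ : ∃ x ∈ S, herm x x ≠ 0 := by
    by_contra! h
    have : ∀ x ∈ S, ∀ y ∈ S, herm x y = 0 := by
      intro x hx y hy
      by_contra hxy
      obtain ⟨c, hc⟩ := Hermitian.exists_trace_ne hstar hF hxy
      apply hc
      have := h (c • x + y) (S.add_mem (S.smul_mem c hx) hy)
      rw [herm_add_left, herm_add_right, herm_add_right, herm_smul_left, herm_smul_left, herm_smul_right,
        herm_smul_right, h x hx, h y hy, ← star_herm x y] at this
      rw [star_mul', star_star]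
      linear_combination this
    have := isotropic_bound hv S this hp
    omega
  obtain ⟨c, hc0, hc⟩ := Hermitian.exists_norm hstar hF (inv_ne_zero hne) (by rw [star_inv₀, star_herm])
  refine ⟨c • x, S.smul_mem c hx, ?_⟩
  rw [herm_smul_left, herm_smul_right, ← mul_assoc, hc, inv_mul_cancel₀ hne]

theorem exists_unit_perp {v : Fin k → Fin n → F} (hv : ON v) (hk : k < n) :
    ∃ x, herm x x = 1 ∧ ∀ a, herm (v a) x = 0 := by
  obtain ⟨x, hx, hx1⟩ := exists_unit hstar hF hv (perpF v) le_rfl (by have := finrank_perpF v; omega)
  exact ⟨x, hx1, hx⟩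

/-- An orthonormal family extends to an orthonormal basis. -/
theorem exists_complete {v : Fin k → Fin n → F} (hv : ON v) (hk : k ≤ n) :
    ∃ U : Matrix (Fin n) (Fin n) F, Uᴴ * U = 1 ∧ ∀ a : Fin k, (fun i => U i (Fin.castLE hk a)) = v a := by
  induction hm : n - k generalizing k with
  | zero =>
    obtain rfl : k = n := by omega
    refine ⟨Matrix.of fun i j => v j i, ?_, fun a => rfl⟩
    ext a b
    rw [Matrix.one_apply, ← hv a b]
    rfl
  | succ m ih =>
    obtain ⟨x, hx1, hx⟩ := exists_unit_perp hstar hF hv (by omega)
    have hv' : ON (Fin.snoc v x : Fin (k + 1) → Fin n → F) := by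
      intro a b
      induction a using Fin.lastCases with
      | last =>
        induction b using Fin.lastCases with
        | last => simpa using hx1
        | cast b =>
          rw [Fin.snoc_last, Fin.snoc_castSucc, ← star_herm, hx b, star_zero, if_neg (Fin.castSucc_ne_last b).symm]
      | cast a =>
        induction b using Fin.lastCases with
        | last => rw [Fin.snoc_last, Fin.snoc_castSucc, hx a, if_neg (Fin.castSucc_ne_last a)]
        | cast b => rw [Fin.snoc_castSucc, Fin.snoc_castSucc, hv a b, if_congr Fin.castSucc_inj rfl rfl]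
    obtain ⟨U, hU, hUv⟩ := ih (k := k + 1) hv' (by omega) (by omega)
    refine ⟨U, hU, fun a => ?_⟩
    have h := hUv a.castSucc
    rwa [Fin.snoc_castSucc] at h

/-- Orthonormal families which are not bases are conjugate. -/
theorem exists_move {v w : Fin k → Fin n → F} (hv : ON v) (hw : ON w) (hk : k < n) :
    ∃ g : Cfsg.SU n F q, ∀ a, act g (v a) = w a := by
  classical
  obtain ⟨A, hA, hAv⟩ := exists_complete hstar hF hv hk.le
  obtain ⟨B, hB, hBw⟩ := exists_complete hstar hF hw hk.le
  have hdet : ∀ U : Matrix (Fin n) (Fin n) F, Uᴴ * U = 1 → star U.det * U.det = 1 := fun U hU => by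
    rw [← Matrix.det_conjTranspose, ← Matrix.det_mul, hU, Matrix.det_one]
  have hdA := hdet A hA
  have hdB := hdet B hB
  let last : Fin n := ⟨n - 1, by omega⟩
  let d : Fin n → F := Function.update 1 last (A.det * star B.det)
  have hD : (Matrix.diagonal d)ᴴ * Matrix.diagonal d = 1 := by
    rw [Matrix.diagonal_conjTranspose, Matrix.diagonal_mul_diagonal, ← Matrix.diagonal_one]
    congr 1
    funext i
    simp only [d, Pi.star_apply]
    rcases eq_or_ne i last with rfl | h
    · rw [Function.update_self, star_mul', star_star]
      linear_combination (star B.det * B.det) * hdA + hdB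
    · rw [Function.update_of_ne h]; simp
  refine ⟨mkSU hstar (B * Matrix.diagonal d * Aᴴ) ?_ ?_, fun a => ?_⟩
  · have hA' : A * Aᴴ = 1 := mul_eq_one_comm.1 hA
    simp only [Matrix.conjTranspose_mul, Matrix.conjTranspose_conjTranspose, Matrix.mul_assoc]
    rw [← Matrix.mul_assoc Bᴴ B, hB, Matrix.one_mul, ← Matrix.mul_assoc (Matrix.diagonal d)ᴴ, hD, Matrix.one_mul, hA']
  · rw [Matrix.det_mul, Matrix.det_mul, Matrix.det_diagonal, Matrix.det_conjTranspose,
      Finset.prod_update_of_mem (Finset.mem_univ last)]
    simp only [Pi.one_apply, Finset.prod_const_one, mul_one]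
    linear_combination (star B.det * B.det) * hdA + hdB
  · have ha : (Fin.castLE hk.le a) ≠ last := fun e => by
      have := congrArg Fin.val e
      simp only [last, Fin.val_castLE] at this
      omega
    have hcol : ∀ (U : Matrix (Fin n) (Fin n) F) (j : Fin n), U *ᵥ Pi.single j 1 = fun i => U i j :=
      fun U j => by rw [Matrix.mulVec_single_one]; rfl
    show (B * Matrix.diagonal d * Aᴴ) *ᵥ v a = w a
    rw [← hAv a, ← hcol A, Matrix.mulVec_mulVec, Matrix.mul_assoc, hA, Matrix.mul_one, hcol, ← hBw a]
    funext i
    rw [Matrix.mul_diagonal]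
    simp [d, Function.update_of_ne ha]

theorem card_SU (hn : 1 ≤ n) :
    (q + 1) * Nat.card (Cfsg.SU n F q) =
      q ^ (n * (n - 1) / 2) * ∏ i ∈ Finset.range n, (if Even i then q ^ (i + 1) + 1 else q ^ (i + 1) - 1) := by
  obtain ⟨-, -, σ, -, -, -, -, hσ⟩ := Classical.exists_usigma hF
  rw [Classical.UCount.card_SU hσ hn, Classical.UCount.card_GU hσ n]

end Finite

/-! ### Monomial elements -/

/-- The monomial matrix of a permutation and weights. -/
def monoMat (π : Equiv.Perm (Fin n)) (d : Fin n → F) : Matrix (Fin n) (Fin n) F :=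
  Matrix.diagonal d * π.permMatrix F

theorem monoMat_mulVec (π : Equiv.Perm (Fin n)) (d x : Fin n → F) :
    monoMat π d *ᵥ x = fun i => d i * x (π i) := by
  funext i
  rw [monoMat, ← Matrix.mulVec_mulVec, Matrix.mulVec_diagonal, Matrix.permMatrix_mulVec]
  rfl

/-- A monomial element; the identity for bad parameters. -/
noncomputable def mono (hstar : ∀ x : F, star x = x ^ q) (π : Equiv.Perm (Fin n)) (d : Fin n → F) :
    Cfsg.SU n F q :=
  haveI : Decidable ((∀ i, star (d i) * d i = 1) ∧ (Equiv.Perm.sign π : ℤ) * ∏ i, d i = (1 : F)) := _root_.Classical.dec _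
  if h : (∀ i, star (d i) * d i = 1) ∧ (Equiv.Perm.sign π : ℤ) * ∏ i, d i = (1 : F) then
    mkSU hstar (monoMat π d)
      (by
        refine ext_mulVec fun x => ?_
        rw [← Matrix.mulVec_mulVec, monoMat_mulVec, Matrix.one_mulVec]
        funext j
        show ∑ i, star (monoMat π d i j) * (d i * x (π i)) = x j
        have e : ∀ i, monoMat π d i j = if π i = j then d i else 0 := fun i => by
          simp [monoMat, Matrix.diagonal_mul, Equiv.Perm.permMatrix, PEquiv.toMatrix_apply]
        rw [Finset.sum_eq_single (π.symm j)]
        · rw [e, π.apply_symm_apply, if_pos rfl, ← mul_assoc, h.1, one_mul]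
        · intro i _ hi
          rw [e, if_neg fun he => hi (by rw [← he, π.symm_apply_apply]), star_zero, zero_mul]
        · simp)
      (by rw [monoMat, Matrix.det_mul, Matrix.det_diagonal, Matrix.det_permutation, mul_comm]; exact h.2)
  else 1

variable {hstar : ∀ x : F, star x = x ^ q}

/-- The parameters of a monomial element. -/
def MOk (π : Equiv.Perm (Fin n)) (d : Fin n → F) : Prop :=
  (∀ i, star (d i) * d i = 1) ∧ (Equiv.Perm.sign π : ℤ) * ∏ i, d i = (1 : F)

theorem act_mono {π : Equiv.Perm (Fin n)} {d : Fin n → F} (h : MOk π d) (x : Fin n → F) :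
    act (mono hstar π d) x = fun i => d i * x (π i) := by
  classical
  rw [mono, dif_pos (show (∀ i, star (d i) * d i = 1) ∧ _ from h)]
  exact monoMat_mulVec π d x

/-- A diagonal element. -/
noncomputable def dg (hstar : ∀ x : F, star x = x ^ q) (d : Fin n → F) : Cfsg.SU n F q := mono hstar 1 d

theorem act_dg {d : Fin n → F} (h : ∀ i, star (d i) * d i = 1) (hp : ∏ i, d i = 1) (x : Fin n → F) :
    act (dg hstar d) x = fun i => d i * x i :=
  act_mono (hstar := hstar) ⟨h, by simp [hp]⟩ x

end Cfsg.Agent.Small.UCover
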