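import Cfsg.Agent.Lib.Small.UCover.Torus

/-!
The diagonal torus extended by a three-cycle, and elementary tools for the primes away from the characteristic.
-/

set_option autoImplicit false
set_option linter.unusedSectionVars false
set_option linter.style.haveILetI false

namespace Cfsg.Agent.Small.UCover

open Matrix Cfsg.Agent.Small.Unitary Cfsg.Agent.Small.SchurLifts
open scoped commutatorElement Pointwise

section General

/-- The order of a product of a subgroup with one normalised by it. -/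
theorem card_sup_of_disjoint {G : Type*} [Group G] [Finite G] (A B : Subgroup G)
    (hN : ∀ b ∈ B, ∀ a ∈ A, b * a * b⁻¹ ∈ A) (hd : ∀ x ∈ A, x ∈ B → x = 1) :
    Nat.card ↥(A ⊔ B) = Nat.card A * Nat.card B := by
  have hle : B ≤ Subgroup.normalizer (A : Set G) := fun b hb => mem_normalizer_of_le (hN b hb)
  let φ : ↥A × ↥B → ↥(A ⊔ B) := fun x =>
    ⟨x.1.1 * x.2.1, mul_mem (Subgroup.mem_sup_left x.1.2) (Subgroup.mem_sup_right x.2.2)⟩
  have hφ : Function.Bijective φ := by
    constructor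
    · rintro ⟨⟨x, hx⟩, ⟨u, hu⟩⟩ ⟨⟨y, hy⟩, ⟨v, hv⟩⟩ h
      have h1 : x * u = y * v := congrArg Subtype.val h
      have h2 : y⁻¹ * x = v * u⁻¹ := by
        rw [eq_mul_inv_iff_mul_eq, mul_assoc, h1, inv_mul_cancel_left]
      have h3 := hd _ (mul_mem (inv_mem hy) hx) (h2 ▸ mul_mem hv (inv_mem hu))
      obtain rfl : y = x := inv_mul_eq_one.1 h3
      rw [inv_mul_cancel, eq_comm, mul_inv_eq_one] at h2
      subst h2
      rfl
    · rintro ⟨g, hg⟩
      have : g ∈ ((A : Set G) * (B : Set G)) := by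
        rw [← Subgroup.coe_mul_of_right_le_normalizer_left _ _ hle]; exact hg
      obtain ⟨x, hx, u, hu, e1⟩ := this
      exact ⟨(⟨x, hx⟩, ⟨u, hu⟩), Subtype.ext e1⟩
  rw [← Nat.card_congr (Equiv.ofBijective φ hφ), Nat.card_prod]

variable {Γ G : Type*} [Group Γ] [Group G] [Finite Γ] {r : ℕ} [Fact r.Prime] {C : Central Γ G}

/-- A central element killed by a number prime to `r` in a kernel of `r`-power exponent. -/
theorem kernel_eq_one (hker : ∀ k : Γ, C.π k = 1 → ∃ e, k ^ r ^ e = 1) {k : Γ} (h1 : C.π k = 1) {m : ℕ}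
    (hm : ¬ r ∣ m) (hk : k ^ m = 1) : k = 1 := by
  obtain ⟨e, he⟩ := hker k h1
  have h := Nat.dvd_gcd (orderOf_dvd_of_pow_eq_one hk) (orderOf_dvd_of_pow_eq_one he)
  rwa [(((Fact.out : r.Prime).coprime_iff_not_dvd.2 hm).symm.pow_right e).gcd_eq_one, Nat.dvd_one,
    orderOf_eq_one_iff] at h

/-- Lifts of commuting elements commute if one has order prime to `r`. -/
theorem commute_of_pow (hker : ∀ k : Γ, C.π k = 1 → ∃ e, k ^ r ^ e = 1) {a x : G} (hax : Commute a x) {m : ℕ}
    (hm : ¬ r ∣ m) (hx : x ^ m = 1) : Commute (C.L a) (C.L x) := by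
  have hc : ⁅C.L a, C.L x⁆ ∈ Subgroup.center Γ := C.comm_central (by rw [C.π_L, C.π_L]; exact hax)
  have hpow : ∀ i : ℕ, ⁅C.L a, C.L x ^ i⁆ = ⁅C.L a, C.L x⁆ ^ i := by
    intro i
    induction i with
    | zero => simp
    | succ i ih =>
      rw [show ⁅C.L a, C.L x ^ (i + 1)⁆ = ⁅C.L a, C.L x ^ i⁆ * (C.L x ^ i * ⁅C.L a, C.L x⁆ * (C.L x ^ i)⁻¹) by
        rw [pow_succ (C.L x)]; simp only [commutatorElement_def]; group, Subgroup.mem_center_iff.1 hc,
        mul_inv_cancel_right, ih, ← pow_succ]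
  have h0 : ⁅C.L a, C.L x⁆ ^ m = 1 := by
    rw [← hpow, C.comm_right _ (b' := 1) (by rw [map_pow, C.π_L, hx, map_one]), commutatorElement_one_right]
  refine commutatorElement_eq_one_iff_mul_comm.1 (kernel_eq_one hker ?_ hm h0)
  rw [map_commutatorElement, C.π_L, C.π_L, commutatorElement_eq_one_iff_mul_comm.2 hax.eq]

/-- A trivial Sylow subgroup. -/
theorem ker_bot_of_not_dvd [Finite G] (hΓ : commutator Γ = ⊤) (hker : ∀ k : Γ, C.π k = 1 → ∃ e, k ^ r ^ e = 1)
    (h : ¬ r ∣ Nat.card G) : C.π.ker = ⊥ :=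
  ker_eq_bot_of_ok hΓ hker (Subgroup.zpowers 1) (fun hd => h (hd.trans (Subgroup.index_dvd_card _))) (ok_zpowers 1)

/-- A cyclic Sylow subgroup. -/
theorem ker_bot_of_cyclic [Finite G] (hΓ : commutator Γ = ⊤) (hker : ∀ k : Γ, C.π k = 1 → ∃ e, k ^ r ^ e = 1)
    (g : G) {m : ℕ} (hm : ¬ r ∣ m) (h : Nat.card G ∣ m * orderOf g) : C.π.ker = ⊥ := by
  refine ker_eq_bot_of_ok hΓ hker (Subgroup.zpowers g) (fun hd => hm (hd.trans ?_)) (ok_zpowers g)
  rw [← Subgroup.index_mul_card (Subgroup.zpowers g), Nat.card_zpowers] at h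
  exact (Nat.mul_dvd_mul_iff_right (orderOf_pos g)).1 h

end General

variable {F : Type*} [Field F] [Fintype F] [StarRing F] {n q : ℕ} {hstar : ∀ x : F, star x = x ^ q}

/-- The parameters of a diagonal element. -/
def DOk (d : Fin n → F) : Prop := (∀ i, star (d i) * d i = 1) ∧ ∏ i, d i = 1

theorem DOk.one : DOk (1 : Fin n → F) := ⟨fun i => by simp, by simp⟩

theorem DOk.mul {d d' : Fin n → F} (h : DOk d) (h' : DOk d') : DOk (d * d') := by
  refine ⟨fun i => ?_, by simp [Finset.prod_mul_distrib, h.2, h'.2]⟩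
  simp only [Pi.mul_apply, star_mul']
  linear_combination (star (d' i) * d' i) * h.1 i + h'.1 i

theorem act_dg' {d : Fin n → F} (h : DOk d) (x : Fin n → F) : act (dg hstar d) x = fun i => d i * x i :=
  act_dg h.1 h.2 x

theorem dg_mul {d d' : Fin n → F} (h : DOk d) (h' : DOk d') : dg hstar d * dg hstar d' = dg hstar (d * d') := by
  refine eq_of_act fun x => ?_
  rw [act_mul, act_dg' h', act_dg' h, act_dg' (h.mul h')]
  funext i
  simp [mul_assoc]

theorem dg_one : dg hstar (1 : Fin n → F) = 1 := by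
  refine eq_of_act fun x => ?_
  rw [act_dg' DOk.one, act_one]
  funext i
  simp

theorem dg_inj {d d' : Fin n → F} (h : DOk d) (h' : DOk d') (e : dg hstar d = dg hstar d') : d = d' := by
  funext i
  have := congrFun (congrArg (fun g => act g (fun _ => (1 : F))) e) i
  simpa [act_dg' h, act_dg' h'] using this

/-- A signed transposition. -/
noncomputable def rot (hstar : ∀ x : F, star x = x ^ q) (i j : Fin n) : Cfsg.SU n F q :=
  mono hstar (Equiv.swap i j) (Function.update 1 i (-1))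

theorem act_rot {i j : Fin n} (hij : i ≠ j) (x : Fin n → F) :
    act (rot hstar i j) x = fun m => (if m = i then -1 else 1) * x (Equiv.swap i j m) := by
  have h : MOk (Equiv.swap i j) (Function.update (1 : Fin n → F) i (-1)) := by
    refine ⟨fun m => ?_, ?_⟩
    · rcases eq_or_ne m i with rfl | hm
      · simp
      · simp [Function.update_of_ne hm]
    · rw [Equiv.Perm.sign_swap hij, Finset.prod_update_of_mem (Finset.mem_univ i)]
      simp
  rw [rot, act_mono h]
  funext m
  rw [Function.update_apply, Pi.one_apply]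

theorem rot_dg {i j : Fin n} (hij : i ≠ j) {d : Fin n → F} (h : DOk d) :
    rot hstar i j * dg hstar d = dg hstar (d ∘ Equiv.swap i j) * rot hstar i j := by
  have h' : DOk (d ∘ Equiv.swap i j) := ⟨fun m => h.1 _, (Equiv.prod_comp (Equiv.swap i j) d).trans h.2⟩
  refine eq_of_act fun x => ?_
  rw [act_mul, act_mul, act_rot hij, act_rot hij, act_dg' h, act_dg' h']
  funext m
  simp only [Function.comp_apply]
  ring

theorem rot_conj {i j : Fin n} (hij : i ≠ j) {d : Fin n → F} (h : DOk d) :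
    rot hstar i j * dg hstar d * (rot hstar i j)⁻¹ = dg hstar (d ∘ Equiv.swap i j) := by
  rw [rot_dg hij h, mul_inv_cancel_right]

theorem rot_pow_four {i j : Fin n} (hij : i ≠ j) : rot hstar i j ^ 4 = 1 := by
  refine eq_of_act fun x => ?_
  simp only [pow_succ, pow_zero, one_mul, act_mul, act_one, act_rot hij]
  funext m
  rcases eq_or_ne m i with rfl | hi
  · simp [hij, hij.symm]
  · rcases eq_or_ne m j with rfl | hj
    · simp [hij, hij.symm]
    · simp [Equiv.swap_apply_of_ne_of_ne hi hj, hi]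

/-- The diagonal torus. -/
def diagTorus (hstar : ∀ x : F, star x = x ^ q) (n : ℕ) : Subgroup (Cfsg.SU n F q) where
  carrier := {g | ∃ d : Fin n → F, DOk d ∧ g = dg hstar d}
  one_mem' := ⟨1, DOk.one, dg_one.symm⟩
  mul_mem' := by
    rintro _ _ ⟨d, h, rfl⟩ ⟨d', h', rfl⟩
    exact ⟨_, h.mul h', dg_mul h h'⟩
  inv_mem' := by
    rintro _ ⟨d, h, rfl⟩
    have h0 : ∀ m, d m ≠ 0 := fun m e => by simpa [e] using h.1 m
    have h' : DOk (fun m => (d m)⁻¹) := ⟨fun m => by rw [star_inv₀, ← mul_inv, h.1, inv_one], by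
      rw [Finset.prod_inv_distrib, h.2, inv_one]⟩
    refine ⟨_, h', inv_eq_of_mul_eq_one_right ?_⟩
    rw [dg_mul h h', ← dg_one (hstar := hstar)]
    congr 1
    funext m
    exact mul_inv_cancel₀ (h0 m)

/-- A coordinate of the torus. -/
def coordTorus (i l : Fin n) (a : F) : Fin n → F := fun m => if m = i then a else if m = l then a⁻¹ else 1

theorem coordTorus_ok {i l : Fin n} (hil : i ≠ l) {a : F} (ha : star a * a = 1) : DOk (coordTorus i l a) := by
  have ha0 : a ≠ 0 := fun e => by simp [e] at ha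
  refine ⟨fun m => ?_, ?_⟩
  · unfold coordTorus
    split_ifs
    · exact ha
    · rw [star_inv₀, ← mul_inv, ha, inv_one]
    · simp
  · rw [Finset.prod_eq_mul i l hil (fun m _ hm => by simp [coordTorus, hm.1, hm.2]) (by simp) (by simp)]
    simp [coordTorus, hil.symm, ha0]

variable (hF : Fintype.card F = q ^ 2)
include hF hstar

theorem exists_norm_gen :
    ∃ g : Fˣ, orderOf g = q + 1 ∧ ∀ c : F, star c * c = 1 ↔ ∃ k : ℕ, (g : F) ^ k = c := by
  obtain ⟨ν, hν⟩ := exists_primitive hstar hF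
  have hq := Hermitian.q_two_le hF
  have hfac : q ^ 2 - 1 = (q + 1) * (q - 1) := Hermitian.sq_sub_one q
  have hord : orderOf (ν ^ (q - 1)) = q + 1 := by
    rw [orderOf_pow_of_dvd (by omega) (by rw [hν, hfac]; exact dvd_mul_left _ _), hν,
      hfac, Nat.mul_div_cancel _ (by omega)]
  refine ⟨ν ^ (q - 1), hord, fun c => ⟨fun hc => ?_, ?_⟩⟩
  · have hc0 : c ≠ 0 := fun e => by simp [e] at hc
    have hgen : Units.mk0 c hc0 ∈ Subgroup.zpowers ν := by
      rw [show Subgroup.zpowers ν = ⊤ by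
        rw [← Subgroup.card_eq_iff_eq_top, Nat.card_zpowers, hν, Nat.card_units, Nat.card_eq_fintype_card, hF]]
      exact Subgroup.mem_top _
    obtain ⟨k, hk⟩ := mem_powers_iff_mem_zpowers.2 hgen
    have hk' : (ν : F) ^ k = c := by simpa using congrArg Units.val hk
    rw [hstar, ← pow_succ, ← hk', ← pow_mul, pow_eq_one_iff hstar hF hν, hfac, mul_comm k] at hc
    obtain ⟨i, rfl⟩ := Nat.dvd_of_mul_dvd_mul_left (by omega) hc
    exact ⟨i, by rw [Units.val_pow_eq_pow_val, ← pow_mul, hk']⟩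
  · rintro ⟨k, rfl⟩
    rw [hstar, ← pow_succ, ← pow_mul, mul_comm, pow_mul, ← hord, ← Units.val_pow_eq_pow_val (ν ^ (q - 1)),
      pow_orderOf_eq_one, Units.val_one, one_pow]

theorem card_norm_one : Nat.card {a : F // star a * a = 1} = q + 1 := by
  obtain ⟨g, hg, hgen⟩ := exists_norm_gen (hstar := hstar) hF
  have hmem : ∀ u : Fˣ, star (u : F) * u = 1 ↔ u ∈ Subgroup.zpowers g := by
    intro u
    rw [hgen, ← mem_powers_iff_mem_zpowers]
    exact ⟨fun ⟨k, hk⟩ => ⟨k, Units.ext (by simpa using hk)⟩,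
      fun ⟨k, hk⟩ => ⟨k, by simpa using congrArg Units.val hk⟩⟩
  rw [← hg, ← Nat.card_zpowers]
  exact Nat.card_congr ⟨fun a => ⟨Units.mk0 a.1 (fun e => by simpa [e] using a.2), (hmem _).1 a.2⟩,
    fun u => ⟨u.1.1, (hmem _).2 u.2⟩, fun a => rfl, fun u => Subtype.ext (Units.ext rfl)⟩

theorem snoc_ok (d : Fin n → {a : F // star a * a = 1}) :
    DOk (Fin.snoc (fun m => (d m).1) (∏ m, (d m).1)⁻¹ : Fin (n + 1) → F) := by
  refine ⟨fun m => ?_, ?_⟩
  · refine Fin.lastCases ?_ (fun m => ?_) m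
    · have hp : star (∏ m, (d m).1) * ∏ m, (d m).1 = 1 := by
        rw [show star (∏ m, (d m).1) = ∏ m, star (d m).1 from map_prod (starRingEnd F) _ _,
          ← Finset.prod_mul_distrib]
        exact Finset.prod_eq_one fun m _ => (d m).2
      rw [Fin.snoc_last, star_inv₀, ← mul_inv, hp, inv_one]
    · rw [Fin.snoc_castSucc]; exact (d m).2
  · rw [Fin.prod_univ_castSucc, Fin.snoc_last]
    simp only [Fin.snoc_castSucc]
    exact mul_inv_cancel₀ (Finset.prod_ne_zero_iff.2 fun m _ e => by simpa [e] using (d m).2)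

theorem card_diagTorus (n : ℕ) : Nat.card (diagTorus (q := q) hstar (n + 1)) = (q + 1) ^ n := by
  let φ : (Fin n → {a : F // star a * a = 1}) → ↥(diagTorus (q := q) hstar (n + 1)) := fun d =>
    ⟨dg hstar (Fin.snoc (fun m => (d m).1) (∏ m, (d m).1)⁻¹), _, snoc_ok (hstar := hstar) hF d, rfl⟩
  have hφ : Function.Bijective φ := by
    constructor
    · intro d d' e
      refine funext fun m => Subtype.ext ?_
      have e2 := congrFun (dg_inj (snoc_ok (hstar := hstar) hF d) (snoc_ok (hstar := hstar) hF d')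
        (congrArg Subtype.val e)) m.castSucc
      simpa using e2
    · rintro ⟨_, d, hd, rfl⟩
      refine ⟨fun m => ⟨d m.castSucc, hd.1 _⟩, Subtype.ext (congrArg (dg hstar) ?_)⟩
      funext m
      refine Fin.lastCases ?_ (fun m => ?_) m
      · rw [Fin.snoc_last]
        refine inv_eq_of_mul_eq_one_right ?_
        rw [← Fin.prod_univ_castSucc d]
        exact hd.2
      · rw [Fin.snoc_castSucc]
  rw [← Nat.card_congr (Equiv.ofBijective φ hφ), Nat.card_fun, Nat.card_fin, card_norm_one (hstar := hstar) hF]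

variable {Γ : Type*} [Group Γ] [Finite Γ] {r : ℕ} [Fact r.Prime] {C : Central Γ (Cfsg.SU (n + 1) F q)}

/-- Lifts of the torus commute for odd `r`. -/
theorem torus_commute (hker : ∀ k : Γ, C.π k = 1 → ∃ e, k ^ r ^ e = 1) (hr : r ≠ 2)
    {a b : Cfsg.SU (n + 1) F q} (ha : a ∈ diagTorus (q := q) hstar (n + 1))
    (hb : b ∈ diagTorus (q := q) hstar (n + 1)) : Commute (C.L a) (C.L b) := by
  classical
  have hr' := (Fact.out : r.Prime)
  obtain ⟨g', -, hgen'⟩ := exists_norm_gen (hstar := hstar) hF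
  obtain ⟨g, hg, hgen⟩ : ∃ g : F, star g * g = 1 ∧ ∀ c : F, star c * c = 1 → ∃ k : ℕ, g ^ k = c :=
    ⟨g', (hgen' _).2 ⟨1, pow_one _⟩, fun c hc => (hgen' c).1 hc⟩
  let T : Set (Cfsg.SU (n + 1) F q) :=
    Set.range fun i : Fin n => dg hstar (coordTorus i.castSucc (Fin.last n) g)
  have hne : ∀ i : Fin n, i.castSucc ≠ Fin.last n := fun i => (Fin.castSucc_lt_last i).ne
  have hT : ∀ x ∈ T, ∀ y ∈ T, Commute (C.L x) (C.L y) := by
    rintro _ ⟨i, rfl⟩ _ ⟨j, rfl⟩
    rcases eq_or_ne i j with rfl | hij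
    · exact Commute.refl _
    dsimp only
    set A := dg hstar (coordTorus i.castSucc (Fin.last n) g) with hA
    set B := dg hstar (coordTorus j.castSucc (Fin.last n) g) with hB
    have hij' : i.castSucc ≠ j.castSucc := fun e => hij (Fin.castSucc_injective _ e)
    have hswap : ∀ u v : Fin n, u ≠ v → coordTorus u.castSucc (Fin.last n) g ∘
        Equiv.swap u.castSucc v.castSucc = coordTorus v.castSucc (Fin.last n) g := by
      intro u v huv
      have huv' : u.castSucc ≠ v.castSucc := fun e => huv (Fin.castSucc_injective _ e)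
      funext m
      rcases eq_or_ne m u.castSucc with rfl | hu
      · simp [coordTorus, huv', huv'.symm, hne u, hne v]
      · rcases eq_or_ne m v.castSucc with rfl | hv
        · simp [coordTorus]
        · simp [coordTorus, Equiv.swap_apply_of_ne_of_ne hu hv, hu, hv]
    have h1 : rot hstar i.castSucc j.castSucc * A * (rot hstar i.castSucc j.castSucc)⁻¹ = B := by
      rw [hA, hB, rot_conj hij' (coordTorus_ok (hne i) hg), hswap i j hij]
    have h2 : rot hstar i.castSucc j.castSucc * B * (rot hstar i.castSucc j.castSucc)⁻¹ = A := by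
      rw [hA, hB, rot_conj hij' (coordTorus_ok (hne j) hg), Equiv.swap_comm, hswap j i hij.symm]
    have hcomm : Commute A B := by
      show A * B = B * A
      rw [hA, hB, dg_mul (coordTorus_ok (hne i) hg) (coordTorus_ok (hne j) hg),
        dg_mul (coordTorus_ok (hne j) hg) (coordTorus_ok (hne i) hg), mul_comm (coordTorus _ _ _)]
    have hc : ⁅C.L A, C.L B⁆ ∈ Subgroup.center Γ := C.comm_central (by rw [C.π_L, C.π_L]; exact hcomm)
    have h3 := C.conj_comm (g := C.L (rot hstar i.castSucc j.castSucc)) (a := C.L A) (b := C.L B)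
      (a' := C.L B) (b' := C.L A) (by simp only [map_mul, map_inv, C.π_L, h1])
      (by simp only [map_mul, map_inv, C.π_L, h2])
    rw [Subgroup.mem_center_iff.1 hc, mul_inv_cancel_right, ← commutatorElement_inv (C.L A)] at h3
    refine commutatorElement_eq_one_iff_mul_comm.1 (kernel_eq_one hker ?_ (m := 2) (fun hd =>
      hr ((Nat.prime_dvd_prime_iff_eq hr' Nat.prime_two).1 hd)) ?_)
    · rw [map_commutatorElement, C.π_L, C.π_L, commutatorElement_eq_one_iff_mul_comm.2 hcomm.eq]
    · rw [pow_two]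
      conv_lhs => arg 1; rw [h3]
      rw [inv_mul_cancel]
  have hle : ∀ s : Finset (Fin n), ∀ d : Fin (n + 1) → F, DOk d → (∀ m : Fin n, m ∉ s → d m.castSucc = 1) →
      dg hstar d ∈ Subgroup.closure T := by
    intro s
    induction s using Finset.induction_on with
    | empty =>
      intro d hd h1
      have : d = 1 := by
        funext m
        refine Fin.lastCases ?_ (fun m => h1 m (by simp)) m
        have h2 := hd.2
        rwa [Fin.prod_univ_castSucc, Finset.prod_eq_one (fun m _ => h1 m (by simp)), one_mul] at h2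
      rw [this, dg_one]
      exact one_mem _
    | insert i s his ih =>
      intro d hd h1
      obtain ⟨k, hk⟩ := hgen _ (hd.1 i.castSucc)
      have hci := coordTorus_ok (hne i) hg
      have hpow : ∀ k : ℕ, DOk (coordTorus i.castSucc (Fin.last n) g ^ k) ∧
          dg hstar (coordTorus i.castSucc (Fin.last n) g ^ k) ∈ Subgroup.closure T := by
        intro k
        induction k with
        | zero => rw [pow_zero, dg_one]; exact ⟨DOk.one, one_mem _⟩
        | succ k ihk =>
          rw [pow_succ, ← dg_mul ihk.1 hci]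
          exact ⟨ihk.1.mul hci, mul_mem ihk.2 (Subgroup.subset_closure ⟨i, rfl⟩)⟩
      let d' : Fin (n + 1) → F := coordTorus i.castSucc (Fin.last n) (d i.castSucc)⁻¹ * d
      have hd' : DOk d' :=
        (coordTorus_ok (hne i) (by rw [star_inv₀, ← mul_inv, hd.1, inv_one])).mul hd
      have h' := ih d' hd' fun m hm => by
        rcases eq_or_ne m i with rfl | hmi
        · show coordTorus _ _ _ _ * d m.castSucc = 1
          rw [coordTorus, if_pos rfl, inv_mul_cancel₀ (fun e => by simpa [e] using hd.1 m.castSucc)]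
        · show coordTorus _ _ _ _ * d m.castSucc = 1
          rw [coordTorus, if_neg (fun e => hmi (Fin.castSucc_injective _ e)), if_neg (hne m), one_mul,
            h1 m (by simp [hm, hmi])]
      have e : d = coordTorus i.castSucc (Fin.last n) g ^ k * d' := by
        funext m
        have hk0 : d i.castSucc ≠ 0 := fun e => by simpa [e] using hd.1 i.castSucc
        simp only [d', Pi.mul_apply, Pi.pow_apply, coordTorus]
        split_ifs
        · rw [hk, ← mul_assoc, mul_inv_cancel₀ hk0, one_mul]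
        · rw [inv_pow, hk, inv_inv, ← mul_assoc, inv_mul_cancel₀ hk0, one_mul]
        · rw [one_pow, one_mul, one_mul]
      rw [e, ← dg_mul (hpow k).1 hd']
      exact mul_mem (hpow k).2 h'
  have hall : ∀ x ∈ diagTorus (q := q) hstar (n + 1), x ∈ Subgroup.closure T := by
    rintro _ ⟨d, hd, rfl⟩
    exact hle Finset.univ d hd (by simp)
  refine commute_lifts_of_ok_abelian (ok_closure T hT) (hall a ha) (hall b hb) ?_
  obtain ⟨d, hd, rfl⟩ := ha
  obtain ⟨d', hd', rfl⟩ := hb
  show _ = _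
  rw [dg_mul hd hd', dg_mul hd' hd, mul_comm d]

/-- The torus extended by a three-cycle, for odd `r`. -/
theorem ker_bot_perm (hΓ : commutator Γ = ⊤) (hker : ∀ k : Γ, C.π k = 1 → ∃ e, k ^ r ^ e = 1) (hr : r ≠ 2)
    (hn : 2 ≤ n) {m : ℕ} (hm : ¬ r ∣ m)
    (hcard : Nat.card (Cfsg.SU (n + 1) F q) ∣ m * (3 * (q + 1) ^ n)) : C.π.ker = ⊥ := by
  classical
  have hr' := (Fact.out : r.Prime)
  let i₀ : Fin (n + 1) := ⟨0, by omega⟩
  let i₁ : Fin (n + 1) := ⟨1, by omega⟩
  let i₂ : Fin (n + 1) := ⟨2, by omega⟩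
  have h01 : i₀ ≠ i₁ := Fin.ne_of_val_ne (by simp [i₀, i₁])
  have h12 : i₁ ≠ i₂ := Fin.ne_of_val_ne (by simp [i₁, i₂])
  have h02 : i₀ ≠ i₂ := Fin.ne_of_val_ne (by simp [i₀, i₂])
  set w := rot hstar i₀ i₁ * rot hstar i₁ i₂ with hw
  let T := diagTorus (q := q) hstar (n + 1)
  have hwT : ∀ a ∈ T, w * a * w⁻¹ ∈ T := by
    rintro _ ⟨d, hd, rfl⟩
    have hd1 : DOk (d ∘ Equiv.swap i₁ i₂) := ⟨fun m => hd.1 _, (Equiv.prod_comp (Equiv.swap i₁ i₂) d).trans hd.2⟩
    refine ⟨(d ∘ Equiv.swap i₁ i₂) ∘ Equiv.swap i₀ i₁,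
      ⟨fun m => hd.1 _, (Equiv.prod_comp (Equiv.swap i₀ i₁) (d ∘ Equiv.swap i₁ i₂)).trans hd1.2⟩, ?_⟩
    rw [hw, show rot hstar i₀ i₁ * rot hstar i₁ i₂ * dg hstar d * (rot hstar i₀ i₁ * rot hstar i₁ i₂)⁻¹ =
      rot hstar i₀ i₁ * (rot hstar i₁ i₂ * dg hstar d * (rot hstar i₁ i₂)⁻¹) * (rot hstar i₀ i₁)⁻¹ by group,
      rot_conj h12 hd, rot_conj h01 hd1]
  have hw3 : w ^ 3 = 1 := by
    refine eq_of_act fun x => ?_
    simp only [pow_succ, pow_zero, one_mul, hw, act_mul, act_one, act_rot h01, act_rot h12]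
    funext m
    rcases eq_or_ne m i₀ with rfl | hm0
    · simp [Equiv.swap_apply_def, h01, h01.symm, h12, h12.symm, h02, h02.symm]
    · rcases eq_or_ne m i₁ with rfl | hm1
      · simp [Equiv.swap_apply_def, h01, h01.symm, h12, h12.symm, h02, h02.symm]
      · rcases eq_or_ne m i₂ with rfl | hm2
        · simp [Equiv.swap_apply_def, h01, h01.symm, h12, h12.symm, h02, h02.symm]
        · simp [Equiv.swap_apply_def, hm0, hm1, hm2]
  have hfix : ∀ a ∈ T, Commute a w → Commute (C.L a) (C.L w) := by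
    rintro _ ⟨d, hd, rfl⟩ hc
    have h4 : ¬ r ∣ 4 := fun hd4 => hr ((Nat.prime_dvd_prime_iff_eq hr' Nat.prime_two).1
      (hr'.dvd_of_dvd_pow (show r ∣ 2 ^ 2 from hd4)))
    have hval : d i₀ = d i₁ ∧ d i₁ = d i₂ := by
      have e := fun i => congrFun (congrArg (fun g => act g (fun _ => (1 : F))) hc.eq) i
      simp only [hw, act_mul, act_rot h01, act_rot h12, act_dg' hd] at e
      have e0 := e i₀
      have e1 := e i₁
      have e2 := e i₂
      simp [Equiv.swap_apply_def, h01, h01.symm, h12, h12.symm, h02, h02.symm] at e0 e1 e2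
      exact ⟨e1.symm, e2.symm⟩
    have hcr : ∀ {u v : Fin (n + 1)}, u ≠ v → d u = d v → Commute (C.L (dg hstar d)) (C.L (rot hstar u v)) := by
      intro u v huv he
      refine commute_of_pow hker ?_ h4 (rot_pow_four huv)
      refine (?_ : _ = _)
      rw [rot_dg huv hd]
      congr 2
      funext k
      rcases eq_or_ne k u with rfl | hu
      · simp [he]
      · rcases eq_or_ne k v with rfl | hv
        · simp [he]
        · simp [Equiv.swap_apply_of_ne_of_ne hu hv]
    exact C.commute_indep rfl (show C.π (C.L w) = C.π (C.L (rot hstar i₀ i₁) * C.L (rot hstar i₁ i₂)) by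
      rw [map_mul, C.π_L, C.π_L, C.π_L]) ((hcr h01 hval.1).mul_right (hcr h12 hval.2))
  have hok : OK C (T ⊔ Subgroup.zpowers w) :=
    ok_abelian_ext T w (fun a ha b hb => torus_commute hF hker hr ha hb) hwT hfix
  refine ker_eq_bot_of_ok hΓ hker _ (fun hd => hm ?_) hok
  have hne : w ≠ 1 ∧ w ∉ T := by
    have h : w ∉ T := by
      rintro ⟨d, hd, e⟩
      have := congrFun (congrArg (fun g => act g (Pi.single i₂ (1 : F))) e) i₀
      simp [hw, act_mul, act_rot h01, act_rot h12, act_dg' hd, Equiv.swap_apply_def, h01, h01.symm, h12,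
        h12.symm, h02, h02.symm] at this
    exact ⟨fun e => h (e ▸ one_mem T), h⟩
  have ho : orderOf w = 3 := orderOf_eq_prime hw3 hne.1
  have hdis : ∀ x ∈ T, x ∈ Subgroup.zpowers w → x = 1 := by
    intro x hx hxw
    obtain ⟨k, rfl⟩ := mem_powers_iff_mem_zpowers.2 hxw
    dsimp only at hx ⊢
    rw [← pow_mod_orderOf, ho] at hx ⊢
    have : k % 3 < 3 := Nat.mod_lt _ (by norm_num)
    interval_cases k % 3
    · rw [pow_zero]
    · exact absurd (by simpa using hx) hne.2
    · exfalso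
      refine hne.2 ?_
      have := mul_mem hx hx
      rwa [← pow_add, show 2 + 2 = 3 + 1 from rfl, pow_succ, hw3, one_mul] at this
  have hc2 : Nat.card ↥(T ⊔ Subgroup.zpowers w) = (q + 1) ^ n * 3 := by
    rw [card_sup_of_disjoint T _ ?_ hdis, Nat.card_zpowers, ho, card_diagTorus hF]
    intro b hb a ha
    obtain ⟨k, rfl⟩ := (mem_powers_iff_mem_zpowers.2 hb)
    dsimp only
    induction k with
    | zero => simpa using ha
    | succ k ih =>
      rw [show w ^ (k + 1) * a * (w ^ (k + 1))⁻¹ = w * (w ^ k * a * (w ^ k)⁻¹) * w⁻¹ by rw [pow_succ']; group]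
      exact hwT _ (ih (mem_powers_iff_mem_zpowers.1 ⟨k, rfl⟩))
  have h5 := Subgroup.index_mul_card (T ⊔ Subgroup.zpowers w)
  rw [hc2, mul_comm _ 3] at h5
  rw [← h5, Nat.mul_dvd_mul_iff_right (by positivity)] at hcard
  exact hd.trans hcard

end Cfsg.Agent.Small.UCover
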