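import Cfsg.Agent.Lib.Small.UCover.Step
import Cfsg.Agent.Lib.Small.SchurSLFinal
import Cfsg.Agent.Lib.Small.SL2NineMultiplier
import Cfsg.Agent.S0281

/-!
The derived preimage of an embedded `SU₂` for the prime two in odd characteristic.
-/

set_option autoImplicit false
set_option linter.unusedSectionVars false

namespace Cfsg.Agent.Small.UCover

open Matrix Cfsg.Agent.Small.Unitary Cfsg.Agent.Small.SchurLifts
open scoped commutatorElement

universe u

/-- Transport of a multiplier along an isomorphism. -/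
theorem hasSchur_equiv {G G' : Type u} [Group G] [Group G'] {A : Type*} [CommGroup A] (e : G ≃* G')
    (h : Cfsg.HasSchurMultiplier G' A) : Cfsg.HasSchurMultiplier G A := by
  have key : ∀ (Γ : Type u) [Group Γ] {H H' : Type u} [Group H] [Group H'] (e : H ≃* H') (σ : Γ →* H),
      (e.toMonoidHom.comp σ).ker = σ.ker ∧
        (Cfsg.IsStemExtension σ → Cfsg.IsStemExtension (e.toMonoidHom.comp σ)) := by
    intro Γ _ H H' _ _ e σ
    have hk : (e.toMonoidHom.comp σ).ker = σ.ker := by
      ext x; simp [MonoidHom.mem_ker]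
    exact ⟨hk, fun hσ => ⟨e.surjective.comp hσ.1, hk ▸ hσ.2.1, hk ▸ hσ.2.2⟩⟩
  obtain ⟨⟨Γ, i1, i2, σ, hσ, ⟨f⟩⟩, h2⟩ := h
  refine ⟨⟨Γ, i1, i2, e.symm.toMonoidHom.comp σ, (key Γ e.symm σ).2 hσ,
    ⟨(MulEquiv.subgroupCongr (key Γ e.symm σ).1).trans f⟩⟩, fun Δ _ _ τ hτ => ?_⟩
  obtain ⟨π, hπ⟩ := h2 Δ (e.toMonoidHom.comp τ) ((key Δ e τ).2 hτ)
  exact ⟨(MulEquiv.subgroupCongr (key Δ e τ).1).toMonoidHom.comp π,
    (MulEquiv.subgroupCongr (key Δ e τ).1).surjective.comp hπ⟩

variable {F : Type u} [Field F] [Fintype F] [StarRing F] {q : ℕ}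

theorem exists_fixed_field (hstar : ∀ x : F, star x = x ^ q) (hF : Fintype.card F = q ^ 2) :
    ∃ L : Subfield F, Nat.card L = q := by
  have hq := Hermitian.q_two_le hF
  refine ⟨(starRingEnd F).eqLocusField (RingHom.id F), ?_⟩
  obtain ⟨θ, hθ0, hθ⟩ : ∃ θ : F, θ ≠ 0 ∧ star θ = -θ := by
    by_contra hno
    push Not at hno
    have h : Nat.card {s : F // star s = -s} ≤ 1 :=
      Finite.card_le_one_iff_subsingleton.2 ⟨fun a b => Subtype.ext (by
        rw [not_imp_not.1 (hno a.1) a.2, not_imp_not.1 (hno b.1) b.2])⟩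
    rw [card_skew hstar hF] at h
    omega
  rw [← card_skew hstar hF]
  refine Nat.card_congr ⟨fun a => ⟨a.1 * θ, ?_⟩, fun s => ⟨s.1 / θ, ?_⟩, fun a => ?_, fun s => ?_⟩
  · rw [star_mul', show star a.1 = a.1 from a.2, hθ, mul_neg]
  · show star (s.1 / θ) = s.1 / θ
    rw [star_div₀, s.2, hθ, neg_div_neg_eq]
  · exact Subtype.ext (mul_div_cancel_right₀ a.1 hθ0)
  · exact Subtype.ext (div_mul_cancel₀ s.1 hθ0)

/-- The complement over an embedded `SU₂`. -/
theorem exists_isSec_plane (hstar : ∀ x : F, star x = x ^ q) (hF : Fintype.card F = q ^ 2) (hodd : Odd q)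
    {G : Type u} [Group G] [Finite G] (ι : Cfsg.SU 2 F q →* G) (hι : Function.Injective ι)
    {Γ : Type u} [Group Γ] [Finite Γ] {C : Central Γ G}
    (hker : ∀ k : Γ, C.π k = 1 → ∃ e, k ^ 2 ^ e = 1) : ∃ N, IsSec C ι.range N := by
  classical
  haveI : Fact (Nat.Prime 2) := ⟨Nat.prime_two⟩
  obtain ⟨L, hL⟩ := exists_fixed_field hstar hF
  haveI : Fintype L := Fintype.ofFinite L
  rw [Nat.card_eq_fintype_card] at hL
  obtain ⟨e⟩ := Cfsg.Agent.S0281.result hF hL
  let f : Matrix.SpecialLinearGroup (Fin 2) L ≃* ↥ι.range := e.symm.trans (MonoidHom.ofInjective hι)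
  obtain ⟨p, k, σ, hp, hc, hqk, hk, -⟩ := Classical.exists_usigma hF
  haveI := hc
  haveI : CharP L p := inferInstance
  have hpo : ¬ 2 ∣ p := fun h2 =>
    (Nat.not_even_iff_odd.2 hodd) (even_iff_two_dvd.2 (hqk ▸ h2.trans (dvd_pow_self p hk.ne')))
  have hS : ι.range ≤ ⁅ι.range, ι.range⁆ ⊔ Subgroup.closure {s | s ∈ ι.range ∧ ¬ 2 ∣ orderOf s} := by
    refine le_trans ?_ le_sup_right
    intro x hx
    have hgen : f.symm ⟨x, hx⟩ ∈ (⊤ : Subgroup (Matrix.SpecialLinearGroup (Fin 2) L)) := Subgroup.mem_top _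
    rw [← Classical.sl_closure_transvections] at hgen
    have h1 : ((ι.range.subtype.comp f.toMonoidHom) (f.symm ⟨x, hx⟩)) = x := by simp
    rw [← h1]
    have h2 := Subgroup.mem_map_of_mem (ι.range.subtype.comp f.toMonoidHom) hgen
    rw [MonoidHom.map_closure] at h2
    refine Subgroup.closure_mono ?_ h2
    rintro _ ⟨_, ⟨i, j, hij, c, rfl⟩, rfl⟩
    refine ⟨(f _).2, fun hd => hpo (hd.trans ?_)⟩
    refine (orderOf_map_dvd _ _).trans (orderOf_dvd_of_pow_eq_one ?_)
    have hpow : ∀ m : ℕ, Matrix.SpecialLinearGroup.transvection hij c ^ m =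
        Matrix.SpecialLinearGroup.transvection hij (m * c) := by
      intro m
      induction m with
      | zero =>
        refine Subtype.ext ?_
        simp [Matrix.SpecialLinearGroup.transvection_coe, Matrix.transvection_zero]
      | succ m ih =>
        refine Subtype.ext ?_
        rw [pow_succ, ih, Matrix.SpecialLinearGroup.coe_mul, Matrix.SpecialLinearGroup.transvection_coe,
          Matrix.SpecialLinearGroup.transvection_coe, Matrix.SpecialLinearGroup.transvection_coe,
          add_mul, mul_add, mul_add, one_mul, one_mul, mul_one,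
          Matrix.single_mul_single_of_ne _ _ _ _ hij.symm, add_zero, add_assoc, ← Matrix.single_add]
        congr 2
        push_cast
        ring
    rw [hpow, CharP.cast_eq_zero, zero_mul]
    refine Subtype.ext ?_
    simp [Matrix.SpecialLinearGroup.transvection_coe, Matrix.transvection_zero]
  have h4 : Fintype.card L ≠ 4 := fun h => by rw [hL] at h; subst h; exact absurd hodd (by decide)
  by_cases h9 : Fintype.card L = 9
  · exact exists_isSec hker _ hS (hasSchur_equiv f.symm (SL2Nine.sl_two_nine h9)) (m := 3) (by norm_num)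
      (fun a => by
        have h3 := pow_card_eq_one' (x := a)
        rwa [Nat.card_congr Multiplicative.toAdd, Nat.card_zmod] at h3)
  · exact exists_isSec hker _ hS (hasSchur_equiv f.symm (SchurSLFinal.sl_two h4 h9)) (m := 1) (by norm_num)
      (fun a => by
        rw [pow_one]
        exact Multiplicative.toAdd.injective (Subsingleton.elim _ _))

end Cfsg.Agent.Small.UCover
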