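import Cfsg.Agent.Lib.Small.UCover.Parabolic
import Cfsg.Agent.Lib.Small.UCover.PermTorus
import Cfsg.Agent.Lib.Small.UCover.PlaneSec

/-!
Central extensions of `SU₃(q)`.
-/

set_option autoImplicit false
set_option linter.unusedSectionVars false
set_option linter.style.haveILetI false

namespace Cfsg.Agent.Small.UCover

open Matrix Cfsg.Agent.Small.Unitary Cfsg.Agent.Small.SchurLifts
open scoped commutatorElement

universe u

/-- Transfer from the subgroup in characteristic dividing the order. -/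
theorem ker_bot_of_sylP {F : Type u} [Field F] [Fintype F] {n q : ℕ} {r : ℕ} [Fact r.Prime]
    {Γ : Type u} [Group Γ] [Finite Γ] (C : Central Γ (Cfsg.SU n F q)) (hΓ : commutator Γ = ⊤)
    (hker : ∀ k : Γ, C.π k = 1 → ∃ e, k ^ r ^ e = 1) (h : SylP n F q) {m : ℕ} (hm : ¬ r ∣ m)
    (hcard : Nat.card (Cfsg.SU n F q) ∣ m * q ^ (n * (n - 1) / 2)) (hq : 0 < q) : C.π.ker = ⊥ := by
  haveI : Finite (Cfsg.SU n F q) := Subtype.finite
  obtain ⟨S, hS, hc⟩ := h Γ C
  refine ker_eq_bot_of_ok hΓ hker S (fun hd => hm (hd.trans ?_)) hS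
  rw [← hc, ← Subgroup.index_mul_card S] at hcard
  exact (Nat.mul_dvd_mul_iff_right Nat.card_pos).1 hcard

variable {F : Type u} [Field F] [Fintype F] [StarRing F] {q : ℕ} {hstar : ∀ x : F, star x = x ^ q}
  (hF : Fintype.card F = q ^ 2)
include hF hstar

theorem card_SU_two {k : ℕ} (hk : q = k + 1) : Nat.card (Cfsg.SU 2 F q) = q * (k * (k + 2)) := by
  have h := card_SU hstar hF (n := 2) (by norm_num)
  simp [Finset.prod_range_succ, Nat.even_iff] at h
  have e : q ^ 2 - 1 = k * (k + 2) := by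
    rw [hk, show (k + 1) ^ 2 = k * (k + 2) + 1 by ring, Nat.add_sub_cancel]
  rw [e] at h
  exact mul_left_cancel₀ (show q + 1 ≠ 0 by omega) (h.trans (by ring))

theorem card_SU_three {k : ℕ} (hk : q = k + 1) :
    Nat.card (Cfsg.SU 3 F q) = q ^ 3 * (k * (k + 2)) * ((k + 2) * (k ^ 2 + k + 1)) := by
  have h := card_SU hstar hF (n := 3) (by norm_num)
  simp [Finset.prod_range_succ, Nat.even_iff] at h
  have e : q ^ 2 - 1 = k * (k + 2) := by
    rw [hk, show (k + 1) ^ 2 = k * (k + 2) + 1 by ring, Nat.add_sub_cancel]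
  have e' : q ^ 3 + 1 = (k + 2) * (k ^ 2 + k + 1) := by rw [hk]; ring
  rw [e, e'] at h
  exact mul_left_cancel₀ (show q + 1 ≠ 0 by omega) (h.trans (by ring))

variable {Γ : Type u} [Group Γ] [Finite Γ] (C : Central Γ (Cfsg.SU 3 F q))

/-- The prime two. -/
theorem three_two (hΓ : commutator Γ = ⊤) (hker : ∀ k : Γ, C.π k = 1 → ∃ e, k ^ 2 ^ e = 1) (hodd : Odd q) :
    C.π.ker = ⊥ := by
  classical
  haveI : Fact (Nat.Prime 2) := ⟨Nat.prime_two⟩
  obtain ⟨k, hk⟩ : ∃ k, q = k + 1 := ⟨q - 1, by have := Hermitian.q_two_le hF; omega⟩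
  obtain ⟨N, hN⟩ := exists_isSec_plane hstar hF hodd (up (n := 2) hstar) (up_injective hstar) (C := C) hker
  obtain ⟨g, hg, hgen⟩ := exists_norm_gen (hstar := hstar) hF
  have hgn : star (g : F) * g = 1 := (hgen _).2 ⟨1, pow_one _⟩
  set d := coordTorus (0 : Fin 3) 1 (g : F) with hd
  have hdok : DOk d := coordTorus_ok (by decide) hgn
  set t := dg hstar d with ht
  set K := (up (n := 2) hstar).range with hK
  have hpow : ∀ i : ℕ, DOk (d ^ i) ∧ t ^ i = dg hstar (d ^ i) := by
    intro i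
    induction i with
    | zero => rw [pow_zero, pow_zero, dg_one]; exact ⟨DOk.one, rfl⟩
    | succ i ih => rw [pow_succ, pow_succ, ih.2, ht, dg_mul ih.1 hdok]; exact ⟨ih.1.mul hdok, rfl⟩
  have htK : ∀ s ∈ K, t * s * t⁻¹ ∈ K := by
    intro s hs
    rw [hK, range_up, mem_fixS] at hs ⊢
    intro a ha
    rw [Set.mem_singleton_iff.1 ha]
    have h1 : ((g : F)) • (Pi.single 0 1 : Fin 3 → F) = act t (Pi.single 0 1) := by
      rw [ht, act_dg' hdok]
      funext i
      fin_cases i <;> simp [hd, coordTorus]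
    have h2 : act t⁻¹ (Pi.single 0 1) = ((g : F))⁻¹ • (Pi.single 0 1 : Fin 3 → F) := by
      apply act_injective t
      rw [act_act_inv, act_smul, ← h1, smul_smul, inv_mul_cancel₀ g.ne_zero, one_smul]
    rw [act_mul, act_mul, h2, act_smul, hs _ rfl, act_smul, ← h1, smul_smul, inv_mul_cancel₀ g.ne_zero, one_smul]
  have hdis : ∀ x ∈ K, x ∈ Subgroup.zpowers t → x = 1 := by
    intro x hx hxt
    obtain ⟨i, rfl⟩ := mem_powers_iff_mem_zpowers.2 hxt
    dsimp only at hx ⊢
    rw [hK, range_up, mem_fixS] at hx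
    have h1 := congrFun (hx _ rfl) 0
    rw [(hpow i).2, act_dg' (hpow i).1] at h1
    simp [hd, coordTorus] at h1
    rw [(hpow i).2, show d ^ i = 1 by
      funext m
      fin_cases m <;> simp [hd, coordTorus, h1], dg_one]
  have hord : orderOf t = q + 1 := by
    rw [← hg]
    refine orderOf_eq_orderOf_iff.2 fun i => ?_
    rw [(hpow i).2, ← dg_one (hstar := hstar)]
    refine ⟨fun e => ?_, fun e => congrArg (dg hstar) ?_⟩
    · have := congrFun (dg_inj (hpow i).1 DOk.one e) 0
      simp [hd, coordTorus] at this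
      exact Units.ext (by simpa using this)
    · have e' : (g : F) ^ i = 1 := by rw [← Units.val_pow_eq_pow_val, e, Units.val_one]
      funext m
      fin_cases m <;> simp [hd, coordTorus, e']
  have hok : OK C (K ⊔ Subgroup.zpowers t) := by
    refine ok_of_gens N hN.inter {C.L t} ?_ ?_ ?_
    · rintro _ rfl x hx
      exact hN.conj _ (by rw [C.π_L]; exact htK) x hx
    · rintro _ rfl _ rfl
      rw [commutatorElement_self]
      exact one_mem _
    · refine sup_le ?_ (Subgroup.zpowers_le.2 ?_)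
      · rw [← hN.map]; exact Subgroup.map_mono le_sup_left
      · exact ⟨C.L t, Subgroup.mem_sup_right (Subgroup.subset_closure rfl), C.π_L t⟩
  refine ker_eq_bot_of_ok hΓ hker _ (fun hd2 => ?_) hok
  have h5 := Subgroup.index_mul_card (K ⊔ Subgroup.zpowers t)
  have hcK : Nat.card K = q * (k * (k + 2)) := by
    rw [hK, ← Nat.card_congr (MonoidHom.ofInjective (up_injective hstar)).toEquiv, card_SU_two (hstar := hstar) hF hk]
  rw [card_sup_of_disjoint K _ ?_ hdis, Nat.card_zpowers, hord, hcK, card_SU_three (hstar := hstar) hF hk] at h5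
  · have h6 : (K ⊔ Subgroup.zpowers t).index = q ^ 2 * (k ^ 2 + k + 1) := by
      refine Nat.eq_of_mul_eq_mul_right (m := q * (k * (k + 2)) * (q + 1)) ?_ (h5.trans ?_)
      · have : 2 ≤ q := Hermitian.q_two_le hF
        have : 0 < k := by omega
        positivity
      · subst hk; ring
    rw [h6] at hd2
    rcases Nat.prime_two.dvd_mul.1 hd2 with h | h
    · exact Nat.not_even_iff_odd.2 hodd (even_iff_two_dvd.2 (Nat.prime_two.dvd_of_dvd_pow h))
    · have hev : 2 ∣ k ^ 2 + k := by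
        rw [show k ^ 2 + k = k * (k + 1) by ring]; exact (Nat.even_mul_succ_self k).two_dvd
      omega
  · intro b hb a ha
    obtain ⟨i, rfl⟩ := mem_powers_iff_mem_zpowers.2 hb
    dsimp only
    induction i with
    | zero => simpa using ha
    | succ i ih =>
      rw [show t ^ (i + 1) * a * (t ^ (i + 1))⁻¹ = t * (t ^ i * a * (t ^ i)⁻¹) * t⁻¹ by rw [pow_succ']; group]
      exact htK _ (ih (mem_powers_iff_mem_zpowers.1 ⟨i, rfl⟩))

/-- Every perfect central extension of `SU₃(q)` is trivial. -/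
theorem three_prime (hΓ : commutator Γ = ⊤) {r : ℕ} [Fact r.Prime]
    (hker : ∀ k : Γ, C.π k = 1 → ∃ e, k ^ r ^ e = 1) : C.π.ker = ⊥ := by
  classical
  have hr := (Fact.out : r.Prime)
  have hq := Hermitian.q_two_le hF
  obtain ⟨k, hk⟩ : ∃ k, q = k + 1 := ⟨q - 1, by omega⟩
  have hc := card_SU_three (hstar := hstar) hF hk
  obtain ⟨p, e, σ, hp, hchar, hqp, he, -⟩ := Classical.exists_usigma hF
  haveI := hchar
  haveI : Fact p.Prime := ⟨hp⟩
  haveI : Finite (Cfsg.SU 3 F q) := Subtype.finite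
  have h2 : ∀ {a : ℕ}, r ∣ a → r ∣ a + 2 → r = 2 := fun {a} ha ha2 =>
    (Nat.prime_dvd_prime_iff_eq hr Nat.prime_two).1 ((Nat.dvd_add_right ha).1 ha2)
  by_cases hrq : r ∣ q
  · obtain rfl : r = p := (Nat.prime_dvd_prime_iff_eq hr hp).1 (hr.dvd_of_dvd_pow (hqp ▸ hrq))
    refine ker_bot_of_sylP C hΓ hker (sylP_three_all hstar hF r) (m := (k * (k + 2)) * ((k + 2) * (k ^ 2 + k + 1))) ?_
      (by rw [hc]; exact dvd_of_eq (by ring)) (by omega)
    intro hd
    have h1 : ∀ a, r ∣ a + 1 → ¬ r ∣ a := fun a ha ha' =>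
      hr.not_dvd_one ((Nat.dvd_add_right ha').1 ha)
    have hrk : r ∣ k + 1 := hk ▸ hrq
    have hk2 : ¬ r ∣ k + 2 := fun h => hr.not_dvd_one ((Nat.dvd_add_right hrk).1 (by rwa [add_assoc]))
    have hk3 : ¬ r ∣ k ^ 2 + k + 1 := fun h => by
      rw [show k ^ 2 + k + 1 = k * (k + 1) + 1 by ring] at h
      exact hr.not_dvd_one ((Nat.dvd_add_right (hrk.mul_left k)).1 h)
    rcases hr.dvd_mul.1 hd with h | h <;> rcases hr.dvd_mul.1 h with h | h
    exacts [h1 k hrk h, hk2 h, hk2 h, hk3 h]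
  have hrq3 : ¬ r ∣ q ^ 3 := fun h => hrq (hr.dvd_of_dvd_pow h)
  rcases eq_or_ne r 2 with rfl | hr2
  · exact three_two (hstar := hstar) hF C hΓ hker (Nat.odd_iff.2 (by omega))
  by_cases hq1 : r ∣ k + 2
  · have hk' : ¬ r ∣ k := fun h => hr2 (h2 h hq1)
    rcases eq_or_ne r 3 with rfl | hr3
    · obtain ⟨j, rfl⟩ : ∃ j, k = 3 * j + 1 := ⟨k / 3, by omega⟩
      refine ker_bot_perm (hstar := hstar) (n := 2) hF hΓ hker hr2 le_rfl (m := q ^ 3 * (3 * j + 1) * (3 * (j ^ 2 + j) + 1)) ?_ ?_
      · intro h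
        rcases hr.dvd_mul.1 h with h | h
        · rcases hr.dvd_mul.1 h with h | h
          exacts [hrq3 h, hk' h]
        · omega
      · rw [hc, hk]
        exact dvd_of_eq (by ring)
    · refine ker_bot_perm (hstar := hstar) (n := 2) hF hΓ hker hr2 le_rfl (m := q ^ 3 * k * (k ^ 2 + k + 1)) ?_ ?_
      · intro h
        rcases hr.dvd_mul.1 h with h | h
        · rcases hr.dvd_mul.1 h with h | h
          exacts [hrq3 h, hk' h]
        · refine hr3 ((Nat.prime_dvd_prime_iff_eq hr Nat.prime_three).1 ?_)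
          have h3 := dvd_add h hq1
          rw [show k ^ 2 + k + 1 + (k + 2) = (k + 2) * k + 3 by ring] at h3
          exact (Nat.dvd_add_right (hq1.mul_right k)).1 h3
      · rw [hc, hk]
        exact ⟨3, by ring⟩
  · by_cases hqm : r ∣ k
    · obtain ⟨e₀, f₀, P⟩ := exists_pair hstar hF (show (0 : Fin 3) ≠ 1 by decide)
      obtain ⟨ν, hν⟩ := exists_primitive hstar hF
      have hfac : q ^ 2 - 1 = (q + 1) * (q - 1) := Hermitian.sq_sub_one q
      have htok : TOk 3 (ν : F) ((ν : F) ^ k) := by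
        refine ⟨ν.ne_zero, ?_, ?_⟩
        · rw [hstar, ← pow_succ, ← pow_mul, pow_eq_one_iff hstar hF hν, hfac]
          exact dvd_of_eq (by rw [hk, Nat.add_sub_cancel]; ring)
        · rw [hstar, hk, pow_succ (ν : F) k]
          field_simp
      obtain ⟨t, hte, -, -, -⟩ := exists_tor hstar P htok
      have hpow : ∀ i : ℕ, act (t ^ i) e₀ = (ν : F) ^ i • e₀ := by
        intro i
        induction i with
        | zero => rw [pow_zero, pow_zero, act_one, one_smul]
        | succ i ih => rw [pow_succ, act_mul, hte, act_smul, ih, smul_smul, pow_succ']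
      have he0 : e₀ ≠ 0 := fun h0 => by
        have := P.ef; rw [h0, herm_zero_left] at this; exact zero_ne_one this
      have hdiv : q ^ 2 - 1 ∣ orderOf t := by
        rw [← pow_eq_one_iff hstar hF hν]
        have h0 := hpow (orderOf t)
        rw [pow_orderOf_eq_one, act_one] at h0
        exact smul_left_injective F he0 (show (ν : F) ^ orderOf t • e₀ = (1 : F) • e₀ by rw [one_smul, ← h0])
      refine ker_bot_of_cyclic hΓ hker t (m := q ^ 3 * ((k + 2) * (k ^ 2 + k + 1))) ?_ ?_
      · intro h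
        rcases hr.dvd_mul.1 h with h | h
        · exact hrq3 h
        · rcases hr.dvd_mul.1 h with h | h
          · exact hq1 h
          · rw [show k ^ 2 + k + 1 = k * (k + 1) + 1 by ring] at h
            exact hr.not_dvd_one ((Nat.dvd_add_right (hqm.mul_right (k + 1))).1 h)
      · rw [hc]
        refine Dvd.dvd.trans (dvd_of_eq ?_) (mul_dvd_mul_left _ hdiv)
        rw [hfac, hk, Nat.add_sub_cancel]; ring
    · obtain ⟨v, hv1, hv2, hv3⟩ := Hermitian.exists_torus_odd hstar hF (d := 3) (by decide)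
      let x : Cfsg.SU 3 F q := mkSU hstar (v : Matrix (Fin 3) (Fin 3) F) hv1 hv3
      have hx : orderOf x = k ^ 2 + k + 1 := by
        rw [show k ^ 2 + k + 1 = (q ^ 3 + 1) / (q + 1) by
          symm; refine Nat.div_eq_of_eq_mul_left (by omega) ?_; rw [hk]; ring, ← hv2]
        refine orderOf_eq_orderOf_iff.2 fun i => ?_
        have hval : (x ^ i).1.1 = ((v ^ i : GL (Fin 3) F) : Matrix (Fin 3) (Fin 3) F) := by
          rw [Units.val_pow_eq_pow_val, SubmonoidClass.coe_pow, Matrix.SpecialLinearGroup.coe_pow]; rfl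
        refine ⟨fun e => Units.ext ?_, fun e => Subtype.ext (Subtype.ext ?_)⟩
        · rw [← hval, e]; rfl
        · rw [hval, e]; rfl
      refine ker_bot_of_cyclic hΓ hker x (m := q ^ 3 * (k * (k + 2)) * (k + 2)) ?_ ?_
      · intro h
        rcases hr.dvd_mul.1 h with h | h
        · rcases hr.dvd_mul.1 h with h | h
          · exact hrq3 h
          · rcases hr.dvd_mul.1 h with h | h
            exacts [hqm h, hq1 h]
        · exact hq1 h
      · rw [hc, hx]
        exact dvd_of_eq (by ring)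

omit C in
/-- `SU₃(q)` has no nontrivial perfect central extension. -/
theorem three_triv [Finite Γ] (C : Central Γ (Cfsg.SU 3 F q)) (hΓ : commutator Γ = ⊤) : C.π.ker = ⊥ :=
  ker_eq_bot_of_primes C hΓ fun r hr Δ _ _ C' hΔ hk => by
    haveI := Fact.mk hr
    exact three_prime (hstar := hstar) hF C' hΔ hk

end Cfsg.Agent.Small.UCover
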