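import Cfsg.Agent.Lib.Small.UCover.Elements
import Cfsg.Agent.Lib.Small.Unitary.Simple

/-!
Stabilisers of orthonormal families as smaller special unitary groups.
-/

set_option autoImplicit false
set_option linter.unusedSectionVars false
set_option linter.style.haveILetI false

namespace Cfsg.Agent.Small.UCover

open Matrix Cfsg.Agent.Small.Unitary Cfsg.Agent.Small.SchurLifts
open scoped commutatorElement

universe u v

/-- A central extension restricted to a perfect embedded subgroup. -/
theorem ok_of_embedded {Γ G : Type u} {A : Type v} [Group Γ] [Group G] [Group A] [Finite Γ] {r : ℕ} [Fact r.Prime]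
    {C : Central Γ G} (hker : ∀ k : Γ, C.π k = 1 → ∃ e, k ^ r ^ e = 1) (ι : A →* G) (hι : Function.Injective ι)
    (hperf : commutator A = ⊤) {m : ℕ} (hm : ¬ r ∣ m)
    (hA : ∀ (Δ : Type u) [Group Δ] [Finite Δ] (C' : Central Δ A), commutator Δ = ⊤ → ∀ k, C'.π k = 1 → k ^ m = 1) :
    OK C ι.range := by
  have hS : ι.range ≤ ⁅ι.range, ι.range⁆ := by
    rw [MonoidHom.range_eq_map, ← Subgroup.map_commutator, ← commutator_def, hperf]
  let σ : ↥(dl C ι.range) →* ↥ι.range :=
    (C.π.comp (dl C ι.range).subtype).codRestrict _ fun x => dl_le_pre C _ x.2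
  let e := MonoidHom.ofInjective hι
  let C' : Central ↥(dl C ι.range) A :=
    ⟨e.symm.toMonoidHom.comp σ, e.symm.surjective.comp fun y => by
      obtain ⟨x, hx, hxy⟩ := exists_dl_lift C (hS y.2)
      exact ⟨⟨x, hx⟩, Subtype.ext hxy⟩,
    fun x hx => Subgroup.mem_center_iff.2 fun y => Subtype.ext (Subgroup.mem_center_iff.1
      (C.central (show C.π x.1 = 1 from congrArg Subtype.val (e.symm.injective (hx.trans (map_one e.symm).symm)))) y.1)⟩
  have hΔ : commutator ↥(dl C ι.range) = ⊤ := by
    rw [eq_top_iff, ← Subgroup.map_le_map_iff_of_injective (dl C ι.range).subtype_injective, commutator_def,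
      Subgroup.map_commutator, ← MonoidHom.range_eq_map, Subgroup.range_subtype]
    exact dl_le_of_lifts (hS.trans (map_dl C _).ge)
  intro x hx h1
  have hσ : σ ⟨x, hx⟩ = 1 := Subtype.ext h1
  have h2 := congrArg Subtype.val (hA _ C' hΔ ⟨x, hx⟩ (by
    show e.symm (σ ⟨x, hx⟩) = 1
    rw [hσ, map_one]))
  rw [Subgroup.coe_pow, Subgroup.coe_one] at h2
  obtain ⟨t, ht⟩ := hker x h1
  have h := Nat.dvd_gcd (orderOf_dvd_of_pow_eq_one h2) (orderOf_dvd_of_pow_eq_one ht)
  rw [(((Fact.out : r.Prime).coprime_iff_not_dvd.2 hm).symm.pow_right t).gcd_eq_one, Nat.dvd_one,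
    orderOf_eq_one_iff] at h
  exact h

/-- A bound for the kernel over a group from the bound for a perfect central quotient. -/
theorem perfect_central_comp {Δ A B : Type*} [Group Δ] [Group A] [Group B] (C : Central Δ A) (hΔ : commutator Δ = ⊤)
    (f : A →* B) (hf : f.ker ≤ Subgroup.center A) : (f.comp C.π).ker ≤ Subgroup.center Δ := by
  intro y hy
  rw [MonoidHom.mem_ker, MonoidHom.comp_apply] at hy
  have hc : ∀ x, ⁅x, y⁆ ∈ Subgroup.center Δ := fun x => C.comm_central
    ((Subgroup.mem_center_iff.1 (hf hy) (C.π x)))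
  let φ : Δ →* ↥(Subgroup.center Δ) :=
    { toFun := fun x => ⟨⁅x, y⁆, hc x⟩
      map_one' := Subtype.ext (commutatorElement_one_left y)
      map_mul' := fun a b => Subtype.ext (by
        show ⁅a * b, y⁆ = ⁅a, y⁆ * ⁅b, y⁆
        rw [show ⁅a * b, y⁆ = a * ⁅b, y⁆ * a⁻¹ * ⁅a, y⁆ by simp only [commutatorElement_def]; group,
          Subgroup.mem_center_iff.1 (hc b) a, mul_inv_cancel_right, Subgroup.mem_center_iff.1 (hc a) _]) }
  have htop : φ.ker = ⊤ := by
    rw [eq_top_iff, ← hΔ, commutator_def, Subgroup.commutator_le]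
    intro a _ b _
    rw [MonoidHom.mem_ker, map_commutatorElement, commutatorElement_eq_one_iff_mul_comm]
    exact Subtype.ext (Subgroup.mem_center_iff.1 (φ b).2 (φ a).1)
  refine Subgroup.mem_center_iff.2 fun x => commutatorElement_eq_one_iff_mul_comm.1 ?_
  have hx : x ∈ φ.ker := by rw [htop]; exact Subgroup.mem_top x
  exact congrArg Subtype.val (MonoidHom.mem_ker.1 hx)

variable {F : Type*} [Field F] [Fintype F] [StarRing F] {n k q : ℕ}

/-- The pointwise stabiliser of a set of vectors. -/
def fixS (q : ℕ) (s : Set (Fin n → F)) : Subgroup (Cfsg.SU n F q) where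
  carrier := {g | ∀ a ∈ s, act g a = a}
  one_mem' a _ := act_one a
  mul_mem' {g h} hg hh a ha := by rw [act_mul, hh a ha, hg a ha]
  inv_mem' {g} hg a ha := by conv_lhs => rw [← hg a ha, act_inv_act]

theorem mem_fixS {s : Set (Fin n → F)} {g : Cfsg.SU n F q} : g ∈ fixS q s ↔ ∀ a ∈ s, act g a = a := Iff.rfl

theorem fixS_anti {s t : Set (Fin n → F)} (h : s ⊆ t) : fixS q t ≤ fixS q s := fun _ hg a ha => hg a (h ha)

theorem fixS_image (g : Cfsg.SU n F q) (s : Set (Fin n → F)) :
    fixS q (act g '' s) = (fixS q s).map (MulAut.conj g).toMonoidHom := by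
  ext x
  constructor
  · intro hx
    refine ⟨g⁻¹ * x * g, fun a ha => ?_, by simp [mul_assoc]⟩
    rw [act_mul, act_mul, hx _ ⟨a, ha, rfl⟩, act_inv_act]
  · rintro ⟨y, hy, rfl⟩ _ ⟨a, ha, rfl⟩
    show act (g * y * g⁻¹) (act g a) = act g a
    rw [act_mul, act_mul, act_inv_act, hy a ha]

theorem diag1_mulVec (h : Matrix (Fin n) (Fin n) F) (x : Fin (n + 1) → F) :
    diag1 1 h *ᵥ x = Fin.cons (x 0) (h *ᵥ Fin.tail x) := by
  funext i
  induction i using Fin.cases with
  | zero => simp [Matrix.mulVec, dotProduct, Fin.sum_univ_succ, diag1_zero_zero, diag1_zero_succ]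
  | succ i => simp [Matrix.mulVec, dotProduct, Fin.sum_univ_succ, diag1_succ_zero, diag1_succ_succ, Fin.tail]

theorem herm_succ (u v : Fin (n + 1) → F) : herm u v = star (u 0) * v 0 + herm (Fin.tail u) (Fin.tail v) := by
  simp [herm, dotProduct, Fin.sum_univ_succ, Fin.tail]

variable (hstar : ∀ x : F, star x = x ^ q)

/-- The embedding fixing the first coordinate. -/
noncomputable def up : Cfsg.SU n F q →* Cfsg.SU (n + 1) F q where
  toFun g := mkSU hstar (diag1 1 g.1.1) (by
      refine ext_mulVec fun x => funext fun a => ?_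
      rw [← Matrix.mulVec_mulVec, diag1_mulVec, Matrix.one_mulVec]
      induction a using Fin.cases with
      | zero => simp [Matrix.mulVec, dotProduct, Fin.sum_univ_succ, diag1_zero_zero, diag1_succ_zero]
      | succ a =>
        have h := congrFun (congrArg (· *ᵥ Fin.tail x) (conjTranspose_mul_self hstar g)) a
        simp only [← Matrix.mulVec_mulVec, Matrix.one_mulVec] at h
        simp only [Matrix.mulVec, dotProduct, Fin.sum_univ_succ, Matrix.conjTranspose_apply, diag1_zero_succ,
          diag1_succ_succ, star_zero, zero_mul, zero_add, Fin.cons_succ]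
        exact h)
    (by rw [diag1_det, one_mul]; exact g.1.2)
  map_one' := by
    refine eq_of_act fun x => ?_
    show diag1 1 _ *ᵥ x = _
    rw [act_one, diag1_mulVec]
    simp
  map_mul' g h := by
    refine eq_of_act fun x => ?_
    show diag1 1 _ *ᵥ x = _
    rw [act_mul]
    show _ = diag1 1 g.1.1 *ᵥ (diag1 1 h.1.1 *ᵥ x)
    simp only [diag1_mulVec, Fin.cons_zero, Fin.tail_cons, Matrix.mulVec_mulVec]
    rfl

theorem act_up (g : Cfsg.SU n F q) (x : Fin (n + 1) → F) :
    act (up hstar g) x = Fin.cons (x 0) (act g (Fin.tail x)) := diag1_mulVec _ _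

theorem up_injective : Function.Injective (up (n := n) hstar) := by
  intro g h e
  refine eq_of_act fun x => ?_
  have := congrArg (fun z => act z (Fin.cons 0 x)) e
  simp only [act_up, Fin.tail_cons, Fin.cons_inj] at this
  exact this.2

theorem range_up : (up (n := n) hstar).range = fixS q {(Pi.single 0 1 : Fin (n + 1) → F)} := by
  ext g
  constructor
  · rintro ⟨h, rfl⟩ a ha
    rw [Set.mem_singleton_iff.1 ha, act_up]
    funext i
    induction i using Fin.cases with
    | zero => simp
    | succ i =>
      have : Fin.tail (Pi.single 0 1 : Fin (n + 1) → F) = 0 := funext fun j => by simp [Fin.tail, Fin.succ_ne_zero]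
      rw [this, Fin.cons_succ, act, Matrix.mulVec_zero, Pi.single_eq_of_ne (Fin.succ_ne_zero i)]
      rfl
  · intro hg
    have hg0 : act g (Pi.single 0 1) = Pi.single 0 1 := hg _ rfl
    have hcol : ∀ i, g.1.1 i 0 = (Pi.single 0 1 : Fin (n + 1) → F) i := fun i => by
      rw [← hg0, act, Matrix.mulVec_single_one]; rfl
    have hrow : ∀ x, act g x 0 = x 0 := fun x => by
      have := herm_act hstar g (Pi.single 0 1) x
      rwa [hg0, herm_single_left, herm_single_left, star_one, one_mul, one_mul] at this
    let h : Matrix (Fin n) (Fin n) F := g.1.1.submatrix Fin.succ Fin.succ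
    have hmat : g.1.1 = diag1 1 h := by
      ext i j
      induction j using Fin.cases with
      | zero =>
        rw [hcol]
        induction i using Fin.cases with
        | zero => simp [diag1_zero_zero]
        | succ i => simp [diag1_succ_zero, Fin.succ_ne_zero]
      | succ j =>
        induction i using Fin.cases with
        | zero =>
          have := hrow (Pi.single j.succ 1)
          rw [act, Matrix.mulVec_single_one, Pi.single_eq_of_ne (Fin.succ_ne_zero j).symm] at this
          rw [diag1_zero_succ]; exact this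
        | succ i => simp [diag1_succ_succ, h]
    have hu := conjTranspose_mul_self hstar g
    rw [hmat] at hu
    have hh : hᴴ * h = 1 := by
      ext a b
      have := congrFun (congrFun hu a.succ) b.succ
      simpa [Matrix.mul_apply, Fin.sum_univ_succ, diag1_zero_succ, diag1_succ_succ, Matrix.one_apply] using this
    have hd : h.det = 1 := by
      have := g.1.2
      rw [hmat, diag1_det, one_mul] at this
      exact this
    exact ⟨mkSU hstar h hh hd, Subtype.ext (Subtype.ext hmat.symm)⟩

variable (hF : Fintype.card F = q ^ 2)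
include hstar hF

theorem up_perfect (hn : 3 ≤ n) (hex : ¬(n = 3 ∧ q = 2)) :
    (up (n := n) hstar).range ≤ ⁅(up (n := n) hstar).range, (up (n := n) hstar).range⁆ := by
  rw [MonoidHom.range_eq_map, ← Subgroup.map_commutator, ← commutator_def,
    commutator_eq_top hstar hF hn hex]

omit hF in
theorem perfect_conj {H : Subgroup (Cfsg.SU n F q)} (h : H ≤ ⁅H, H⁆) (g : Cfsg.SU n F q) :
    H.map (MulAut.conj g).toMonoidHom ≤ ⁅H.map (MulAut.conj g).toMonoidHom, H.map (MulAut.conj g).toMonoidHom⁆ := by
  rw [← Subgroup.map_commutator]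
  exact Subgroup.map_mono h

/-- The stabiliser of a norm one vector is perfect. -/
theorem fix_one_perfect (hn : 3 ≤ n) (hex : ¬(n = 3 ∧ q = 2)) {a : Fin (n + 1) → F} (ha : herm a a = 1) :
    fixS q {a} ≤ ⁅fixS q {a}, fixS q {a}⁆ := by
  obtain ⟨g, hg⟩ := exists_move hstar hF (v := ![(Pi.single 0 1 : Fin (n + 1) → F)]) (w := ![a])
    (on_one (by simp [herm_single_left])) (on_one ha) (by omega)
  have e : ({a} : Set (Fin (n + 1) → F)) = act g '' {Pi.single 0 1} := by
    rw [Set.image_singleton]; exact congrArg _ (hg 0).symm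
  rw [e, fixS_image, ← range_up hstar]
  exact perfect_conj hstar (up_perfect hstar hF hn hex) g

/-- The stabiliser of an orthonormal pair is perfect. -/
theorem fix_two_perfect (hn : 3 ≤ n) (hex : ¬(n = 3 ∧ q = 2)) {a b : Fin (n + 2) → F} (ha : herm a a = 1)
    (hb : herm b b = 1) (hab : herm a b = 0) : fixS q {a, b} ≤ ⁅fixS q {a, b}, fixS q {a, b}⁆ := by
  obtain ⟨g, hg⟩ := exists_move hstar hF
    (v := ![(Pi.single 0 1 : Fin (n + 2) → F), Pi.single 1 1]) (w := ![a, b])
    (on_two (by simp [herm_single_left]) (by simp [herm_single_left]) (by simp [herm_single_left]))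
    (on_two ha hb hab) (by omega)
  have e : ({a, b} : Set (Fin (n + 2) → F)) = act g '' {Pi.single 0 1, Pi.single 1 1} := by
    rw [Set.image_pair]
    exact congrArg₂ (fun x y => ({x, y} : Set (Fin (n + 2) → F))) (hg 0).symm (hg 1).symm
  have h2 : fixS q {(Pi.single 0 1 : Fin (n + 2) → F), Pi.single 1 1} =
      (fixS q {(Pi.single 0 1 : Fin (n + 1) → F)}).map (up hstar) := by
    have e1 : (Pi.single 1 1 : Fin (n + 2) → F) = Fin.cons 0 (Pi.single 0 1 : Fin (n + 1) → F) := by
      funext j
      induction j using Fin.cases with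
      | zero => simp
      | succ j => rw [Fin.cons_succ, ← Fin.succ_zero_eq_one', Pi.single_apply, Pi.single_apply, if_congr Fin.succ_inj rfl rfl]
    have key : ∀ z : Cfsg.SU (n + 1) F q,
        act (up hstar z) (Pi.single 1 1 : Fin (n + 2) → F) = Fin.cons 0 (act z (Pi.single 0 1)) := fun z => by
      rw [act_up, e1, Fin.cons_zero, Fin.tail_cons]
    ext x
    constructor
    · intro hx
      obtain ⟨y, rfl⟩ := (range_up (n := n + 1) hstar).ge
        (fixS_anti (q := q) (Set.singleton_subset_iff.2 (Set.mem_insert _ _)) hx)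
      refine ⟨y, fun c hc => ?_, rfl⟩
      rw [Set.mem_singleton_iff.1 hc]
      have h := hx (Pi.single 1 1) (by simp)
      rw [key, e1, Fin.cons_inj] at h
      exact h.2
    · rintro ⟨y, hy, rfl⟩
      have h0 : up hstar y ∈ fixS q {(Pi.single 0 1 : Fin (n + 2) → F)} := range_up hstar ▸ ⟨y, rfl⟩
      intro c hc
      rcases hc with rfl | hc
      · exact h0 _ rfl
      · rw [Set.mem_singleton_iff.1 hc, key, hy _ rfl, ← e1]
  rw [e, fixS_image, h2]
  refine perfect_conj hstar ?_ g
  rw [← range_up hstar, ← Subgroup.map_commutator]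
  exact Subgroup.map_mono (up_perfect hstar hF hn hex)

end Cfsg.Agent.Small.UCover
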