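import Cfsg.Agent.Lib.Small.UCover.Four
import Cfsg.Agent.Lib.Small.UCover.Graph
import Cfsg.Agent.S2090
import Cfsg.Agent.S2091

/-!
`SU₅(2)`, `SU₅(3)` and `SU₇(2)`.
-/

set_option autoImplicit false
set_option linter.unusedSectionVars false
set_option linter.style.haveILetI false

namespace Cfsg.Agent.Small.UCover

open Matrix Cfsg.Agent.Small.Unitary Cfsg.Agent.Small.SchurLifts
open scoped commutatorElement

universe u

variable {F : Type u} [Field F] [Fintype F] [StarRing F] {n q : ℕ} {hstar : ∀ x : F, star x = x ^ q}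
  (hF : Fintype.card F = q ^ 2)
include hF hstar

/-- The kernel over `SU` from the multiplier of `PSU`. -/
theorem kernel_pow_of_multiplier (hn : 2 ≤ n) {A : Type*} [CommGroup A] [Finite A]
    (hM : Cfsg.HasSchurMultiplier (Cfsg.PSU n F q) A) {m : ℕ} (hm : Nat.gcd n (q + 1) * m = Nat.card A)
    {Δ : Type u} [Group Δ] [Finite Δ] (C : Central Δ (Cfsg.SU n F q)) (hΔ : commutator Δ = ⊤) {k : Δ}
    (hk : C.π k = 1) : k ^ m = 1 := by
  classical
  haveI : Finite (Cfsg.SU n F q) := Subtype.finite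
  obtain ⟨p, e, σ, hp, hchar, hqp, he, hσ⟩ := Classical.exists_usigma hF
  let f : Cfsg.SU n F q →* Cfsg.PSU n F q := QuotientGroup.mk' (Subgroup.center _)
  have hf : f.ker = Subgroup.center (Cfsg.SU n F q) := QuotientGroup.ker_mk' _
  have hcen := perfect_central_comp C hΔ f hf.le
  have hst : Cfsg.IsStemExtension (f.comp C.π) :=
    ⟨(QuotientGroup.mk'_surjective _).comp C.surj, hcen, hΔ.symm ▸ le_top⟩
  obtain ⟨π, hπ⟩ := hM.2 Δ (f.comp C.π) hst
  have hle : C.π.ker ≤ (f.comp C.π).ker := fun x hx => by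
    rw [MonoidHom.mem_ker, MonoidHom.comp_apply, (MonoidHom.mem_ker.1 hx), map_one]
  have hK : Nat.card (f.comp C.π).ker = Nat.gcd n (q + 1) * Nat.card C.π.ker := by
    rw [← MonoidHom.comap_ker, hf, ← Classical.UCount.card_center_SU hσ hn]
    have h1 := Subgroup.index_comap_of_surjective (H := Subgroup.center (Cfsg.SU n F q)) C.surj
    have h2 := Subgroup.index_mul_card ((Subgroup.center (Cfsg.SU n F q)).comap C.π)
    have h3 := Subgroup.index_mul_card (Subgroup.center (Cfsg.SU n F q))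
    have h4 := Subgroup.index_mul_card C.π.ker
    rw [h1] at h2
    rw [Subgroup.index_ker, MonoidHom.range_eq_top.2 C.surj, Subgroup.card_top, ← h3] at h4
    refine Nat.eq_of_mul_eq_mul_left (Nat.pos_of_ne_zero
      (Subgroup.index_ne_zero_of_finite (H := Subgroup.center (Cfsg.SU n F q)))) ?_
    rw [h2, ← h4, mul_assoc]
  have hdvd : Nat.card (f.comp C.π).ker ∣ Nat.card A := Subgroup.card_dvd_of_surjective π hπ
  rw [hK, ← hm] at hdvd
  have h5 : Nat.card C.π.ker ∣ m :=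
    (Nat.mul_dvd_mul_iff_left (Nat.gcd_pos_of_pos_left _ (by omega))).1 hdvd
  have h6 : (⟨k, hk⟩ : C.π.ker) ^ m = 1 :=
    orderOf_dvd_iff_pow_eq_one.1 ((orderOf_dvd_natCard _).trans h5)
  simpa using congrArg Subtype.val h6

/-- The stabiliser of a vector is good. -/
theorem ker_bot_of_stab_bound {d : ℕ} (hn : n = d + 2) (h3 : 3 ≤ d) (hex : ¬(d = 3 ∧ q = 2))
    (hq : 3 ≤ q ∨ 7 ≤ n) {Γ : Type u} [Group Γ] [Finite Γ] {r : ℕ} [Fact r.Prime] (C : Central Γ (Cfsg.SU n F q))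
    (hΓ : commutator Γ = ⊤) (hker : ∀ k : Γ, C.π k = 1 → ∃ e, k ^ r ^ e = 1) {m : ℕ} (hm : ¬ r ∣ m)
    (hA : ∀ (Δ : Type u) [Group Δ] [Finite Δ] (C' : Central Δ (Cfsg.SU (d + 1) F q)), commutator Δ = ⊤ →
      ∀ k, C'.π k = 1 → k ^ m = 1) : C.π.ker = ⊥ := by
  subst hn
  let a : UVec (d + 2) hstar := ⟨Pi.single 0 1, by simp [herm_single_left]⟩
  refine ker_bot_of_stab hstar hF rfl h3 hex hq C hΓ a ?_
  rw [show fixS q {a.1} = (up (n := d + 1) hstar).range from (range_up hstar).symm]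
  exact ok_of_embedded hker (up hstar) (up_injective hstar)
    (Unitary.commutator_eq_top hstar hF (by omega) (fun h => by omega)) hm hA

end Cfsg.Agent.Small.UCover

namespace Cfsg.Agent.Small.UCover

open Matrix Cfsg.Agent.Small.Unitary Cfsg.Agent.Small.SchurLifts

universe v

variable {F : Type v} [Field F] [Fintype F] [StarRing F]

/-- `SU₅(3)`. -/
theorem five_three {hstar : ∀ x : F, star x = x ^ 3} (hF : Fintype.card F = 3 ^ 2) {Γ : Type v} [Group Γ]
    [Finite Γ] (C : Central Γ (Cfsg.SU 5 F 3)) (hΓ : commutator Γ = ⊤) : C.π.ker = ⊥ := by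
  refine ker_eq_bot_of_primes C hΓ fun r hr Δ _ _ C' hΔ hk => ?_
  haveI := Fact.mk hr
  by_cases h3 : r = 3
  · subst h3
    have hc := card_SU hstar hF (n := 5) (by norm_num)
    simp [Finset.prod_range_succ, Nat.even_iff] at hc
    refine ker_bot_of_sylP C' hΔ hk (sylP_five_three hstar hF) (m := 4 * 8 * 28 * 80 * 244 / 4) ?_ ?_ (by norm_num)
    · norm_num
    · exact dvd_of_eq (mul_left_cancel₀ (show (4 : ℕ) ≠ 0 by norm_num) (hc.trans (by norm_num)))
  · refine ker_bot_of_stab_bound (hstar := hstar) hF (d := 3) rfl le_rfl (by norm_num) (Or.inl le_rfl) C' hΔ hk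
      (m := 9) (fun hd => h3 ((Nat.prime_dvd_prime_iff_eq hr Nat.prime_three).1
        (hr.dvd_of_dvd_pow (show r ∣ 3 ^ 2 from hd)))) ?_
    intro Θ _ _ C'' hΘ k hk1
    haveI : Finite (Multiplicative (ZMod 4 × ZMod 3 × ZMod 3)) := inferInstance
    refine kernel_pow_of_multiplier (hstar := hstar) hF (by norm_num) (Cfsg.Agent.S2090.result (F := F)
      (by rw [hF]; norm_num)) ?_ C'' hΘ hk1
    simp [Nat.card_prod, Nat.card_congr Multiplicative.toAdd]

/-- `SU₅(2)`. -/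
theorem five_two {hstar : ∀ x : F, star x = x ^ 2} (hF : Fintype.card F = 2 ^ 2) {Γ : Type v} [Group Γ]
    [Finite Γ] (C : Central Γ (Cfsg.SU 5 F 2)) (hΓ : commutator Γ = ⊤) : C.π.ker = ⊥ := by
  refine ker_eq_bot_of_primes C hΓ fun r hr Δ _ _ C' hΔ hk => ?_
  haveI := Fact.mk hr
  haveI : Finite (Cfsg.SU 5 F 2) := Subtype.finite
  have hc : Nat.card (Cfsg.SU 5 F 2) = 2 ^ 10 * (3 ^ 5 * 5 * 11) := by
    have h := card_SU hstar hF (n := 5) (by norm_num)
    simp [Finset.prod_range_succ, Nat.even_iff] at h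
    refine mul_left_cancel₀ (show (3 : ℕ) ≠ 0 by norm_num) (h.trans ?_)
    norm_num
  by_cases h2 : r = 2
  · subst h2
    exact ker_bot_of_sylP C' hΔ hk (sylP_five_two hstar hF) (m := 3 ^ 5 * 5 * 11) (by norm_num)
      (by rw [hc]; norm_num) (by norm_num)
  by_cases h3 : r = 3
  · subst h3
    exact ker_bot_perm (hstar := hstar) (n := 4) hF hΔ hk (by norm_num) (by norm_num) (m := 2 ^ 10 * 5 * 11)
      (by norm_num) (by rw [hc]; norm_num)
  by_cases hd : r ∣ Nat.card (Cfsg.SU 5 F 2)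
  · obtain ⟨g, hg⟩ := exists_prime_orderOf_dvd_card' r hd
    have h5 : r = 5 ∨ r = 11 := by
      rw [hc] at hd
      rcases hr.dvd_mul.1 hd with h | h
      · exact absurd ((Nat.prime_dvd_prime_iff_eq hr Nat.prime_two).1 (hr.dvd_of_dvd_pow h)) h2
      · rcases hr.dvd_mul.1 h with h | h
        · rcases hr.dvd_mul.1 h with h | h
          · exact absurd ((Nat.prime_dvd_prime_iff_eq hr Nat.prime_three).1 (hr.dvd_of_dvd_pow h)) h3
          · exact Or.inl ((Nat.prime_dvd_prime_iff_eq hr Nat.prime_five).1 h)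
        · exact Or.inr ((Nat.prime_dvd_prime_iff_eq hr (by norm_num)).1 h)
    rcases h5 with rfl | rfl
    · exact ker_bot_of_cyclic hΔ hk g (m := 2 ^ 10 * 3 ^ 5 * 11) (by norm_num) (by rw [hc, hg]; norm_num)
    · exact ker_bot_of_cyclic hΔ hk g (m := 2 ^ 10 * 3 ^ 5 * 5) (by norm_num) (by rw [hc, hg]; norm_num)
  · exact ker_bot_of_not_dvd hΔ hk hd

/-- `SU₇(2)`. -/
theorem seven_two {hstar : ∀ x : F, star x = x ^ 2} (hF : Fintype.card F = 2 ^ 2) {Γ : Type v} [Group Γ]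
    [Finite Γ] (C : Central Γ (Cfsg.SU 7 F 2)) (hΓ : commutator Γ = ⊤) : C.π.ker = ⊥ := by
  refine ker_eq_bot_of_primes C hΓ fun r hr Δ _ _ C' hΔ hk => ?_
  haveI := Fact.mk hr
  by_cases h2 : r = 2
  · subst h2
    have hc := card_SU hstar hF (n := 7) (by norm_num)
    simp [Finset.prod_range_succ, Nat.even_iff] at hc
    refine ker_bot_of_sylP C' hΔ hk (sylP_seven_two hstar hF) (m := 3 * 3 * 9 * 15 * 33 * 63 * 129 / 3) ?_ ?_
      (by norm_num)
    · norm_num
    · exact dvd_of_eq (mul_left_cancel₀ (show (3 : ℕ) ≠ 0 by norm_num) (hc.trans (by norm_num)))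
  · refine ker_bot_of_stab_bound (hstar := hstar) hF (d := 5) rfl (by norm_num) (by norm_num) (Or.inr le_rfl) C' hΔ hk
      (m := 4) (fun hd => h2 ((Nat.prime_dvd_prime_iff_eq hr Nat.prime_two).1
        (hr.dvd_of_dvd_pow (show r ∣ 2 ^ 2 from hd)))) ?_
    intro Θ _ _ C'' hΘ k hk1
    refine kernel_pow_of_multiplier (hstar := hstar) hF (by norm_num) (Cfsg.Agent.S2091.result (F := F)
      (by rw [hF]; norm_num)) ?_ C'' hΘ hk1
    simp [Nat.card_prod, Nat.card_congr Multiplicative.toAdd]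

end Cfsg.Agent.Small.UCover
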