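import Cfsg.Agent.Lib.Small.UCover.FourTwo

/-!
Central extensions of `SU₄(q)` for `q ≥ 4`.
-/

set_option autoImplicit false
set_option linter.unusedSectionVars false
set_option linter.style.haveILetI false

namespace Cfsg.Agent.Small.UCover

open Matrix Cfsg.Agent.Small.Unitary Cfsg.Agent.Small.SchurLifts
open scoped commutatorElement Pointwise

universe u

variable {F : Type u} [Field F] [Fintype F] [StarRing F] {q : ℕ} {hstar : ∀ x : F, star x = x ^ q}
  (hF : Fintype.card F = q ^ 2)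
include hF hstar

theorem card_SU_four {k : ℕ} (hk : q = k + 1) :
    Nat.card (Cfsg.SU 4 F q) =
      q ^ 6 * (k * k) * ((k + 2) * (k + 2) * (k + 2)) * (k ^ 2 + k + 1) * (k ^ 2 + 2 * k + 2) := by
  have h := card_SU hstar hF (n := 4) (by norm_num)
  simp [Finset.prod_range_succ, Nat.even_iff] at h
  have e : q ^ 2 - 1 = k * (k + 2) := by
    rw [hk, show (k + 1) ^ 2 = k * (k + 2) + 1 by ring, Nat.add_sub_cancel]
  have e' : q ^ 4 - 1 = k * (k + 2) * (k ^ 2 + 2 * k + 2) := by
    rw [hk, show (k + 1) ^ 4 = k * (k + 2) * (k ^ 2 + 2 * k + 2) + 1 by ring, Nat.add_sub_cancel]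
  rw [e, e'] at h
  refine mul_left_cancel₀ (show q + 1 ≠ 0 by omega) (h.trans ?_)
  rw [hk]; ring

variable {Γ : Type u} [Group Γ] [Finite Γ] (C : Central Γ (Cfsg.SU 4 F q)) {r : ℕ} [Fact r.Prime]

/-- Odd divisors of `q - 1`. -/
theorem four_split (hΓ : commutator Γ = ⊤) (hker : ∀ k : Γ, C.π k = 1 → ∃ e, k ^ r ^ e = 1) (hr : r ≠ 2)
    {k : ℕ} (hk : q = k + 1) (hrk : r ∣ k) : C.π.ker = ⊥ := by
  classical
  have hr' := (Fact.out : r.Prime)
  have hq := Hermitian.q_two_le hF
  haveI : Finite (Cfsg.SU 4 F q) := Subtype.finite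
  obtain ⟨e, f, P⟩ := exists_pair hstar hF (show (0 : Fin 4) ≠ 1 by decide)
  obtain ⟨ν, hν⟩ := exists_primitive hstar hF
  have hfac : q ^ 2 - 1 = (q + 1) * (q - 1) := Hermitian.sq_sub_one q
  set μ : F := (ν : F) ^ (q + 1) with hμd
  have hord : ∀ i : ℕ, μ ^ i = 1 ↔ k ∣ i := fun i => by
    rw [hμd, ← pow_mul, pow_eq_one_iff hstar hF hν, hfac, hk, Nat.add_sub_cancel]
    exact Nat.mul_dvd_mul_iff_left (by omega)
  have hμs : star μ = μ := by
    rw [hstar, hk, pow_succ, (hord k).2 dvd_rfl, one_mul]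
  have hμ0 : μ ≠ 0 := pow_ne_zero _ ν.ne_zero
  obtain ⟨a, hae, haf, haW, hac⟩ := exists_tor hstar P (μ := μ) (lam := 1)
    ⟨hμ0, by simp, by rw [hμs, mul_inv_cancel₀ hμ0]; simp⟩
  have hW1 : ∀ z ∈ Wsub (0 : Fin 4) 1, act a z = z := fun z hz => by rw [haW z hz, one_smul]
  let π : Equiv.Perm (Fin 4) := Equiv.swap 0 2 * Equiv.swap 1 3
  let g : Cfsg.SU 4 F q := mono hstar π fun _ => 1
  have hok : MOk π (fun _ => (1 : F)) := by
    refine ⟨fun _ => by rw [star_one, one_mul], ?_⟩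
    rw [Equiv.Perm.sign_mul, Equiv.Perm.sign_swap (by decide), Equiv.Perm.sign_swap (by decide)]
    simp
  have ag : ∀ x, act g x = ![x 2, x 3, x 0, x 1] := by
    intro x
    rw [act_mono hok]
    funext m
    fin_cases m <;> simp [π, Equiv.swap_apply_def]
  have hgg : g * g = 1 := eq_of_act fun x => by
    rw [act_mul, ag, ag, act_one]; funext m; fin_cases m <;> simp
  have hgi : g⁻¹ = g := inv_eq_of_mul_eq_one_right hgg
  let b := g * a * g⁻¹
  have hgW : ∀ x, Supp {0, 1} x → act g x ∈ Wsub (0 : Fin 4) 1 := fun x hx => by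
    rw [ag]
    exact ⟨by simpa using hx 2 (by decide), by simpa using hx 3 (by decide)⟩
  have hbfix : ∀ x, Supp {0, 1} x → act b x = x := fun x hx => by
    show act (g * a * g⁻¹) x = x
    rw [hgi, act_mul, act_mul, hW1 _ (hgW x hx), ← act_mul, hgg, act_one]
  have hab : Commute a b := hac b (hbfix e P.supp_e) (hbfix f P.supp_f)
  have hc : ⁅C.L a, C.L b⁆ ∈ Subgroup.center Γ := C.comm_central (by rw [C.π_L, C.π_L]; exact hab)
  have hcomm : Commute (C.L a) (C.L b) := by
    have h3 := C.conj_comm (g := C.L g) (a := C.L a) (b := C.L b) (a' := C.L b) (b' := C.L a)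
      (by simp only [map_mul, map_inv, C.π_L]; rfl)
      (by
        simp only [map_mul, map_inv, C.π_L]
        show g * (g * a * g⁻¹) * g⁻¹ = a
        rw [hgi, show g * (g * a * g) * g = (g * g) * a * (g * g) by group, hgg, one_mul, mul_one])
    rw [Subgroup.mem_center_iff.1 hc, mul_inv_cancel_right, ← commutatorElement_inv (C.L a)] at h3
    refine commutatorElement_eq_one_iff_mul_comm.1 (kernel_eq_one hker ?_ (m := 2) (fun hd =>
      hr ((Nat.prime_dvd_prime_iff_eq hr' Nat.prime_two).1 hd)) ?_)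
    · rw [map_commutatorElement, C.π_L, C.π_L, commutatorElement_eq_one_iff_mul_comm.2 hab.eq]
    · rw [pow_two]
      conv_lhs => arg 1; rw [h3]
      rw [inv_mul_cancel]
  have hT : ∀ x ∈ ({a, b} : Set (Cfsg.SU 4 F q)), ∀ y ∈ ({a, b} : Set (Cfsg.SU 4 F q)), Commute (C.L x) (C.L y) := by
    rintro x (rfl | rfl) y (rfl | rfl)
    exacts [Commute.refl _, hcomm, hcomm.symm, Commute.refl _]
  have hOK : OK C (Subgroup.closure {a, b}) := ok_closure _ hT
  have hpow : ∀ i : ℕ, act (a ^ i) e = μ ^ i • e ∧ ∀ z ∈ Wsub (0 : Fin 4) 1, act (a ^ i) z = z := by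
    intro i
    induction i with
    | zero => exact ⟨by rw [pow_zero, pow_zero, act_one, one_smul], fun z _ => by rw [pow_zero, act_one]⟩
    | succ i ih =>
      refine ⟨?_, fun z hz => by rw [pow_succ, act_mul, hW1 z hz, ih.2 z hz]⟩
      rw [pow_succ, act_mul, hae, act_smul, ih.1, smul_smul, pow_succ']
  have he0 : e ≠ 0 := fun h0 => by
    have := P.ef; rw [h0, herm_zero_left] at this; exact zero_ne_one this
  have hpf : ∀ i : ℕ, act (a ^ i) f = ((star μ)⁻¹) ^ i • f := by
    intro i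
    induction i with
    | zero => rw [pow_zero, pow_zero, act_one, one_smul]
    | succ i ih => rw [pow_succ, act_mul, haf, act_smul, ih, smul_smul, pow_succ']
  have hoa : orderOf a = k := by
    refine Nat.dvd_antisymm (orderOf_dvd_of_pow_eq_one ?_) ((hord _).1 ?_)
    · refine P.eq_one_of_fix ?_ ?_ (hpow k).2
      · rw [(hpow k).1, (hord k).2 dvd_rfl, one_smul]
      · rw [hpf, hμs, inv_pow, (hord k).2 dvd_rfl, inv_one, one_smul]
    · have h0 := (hpow (orderOf a)).1
      rw [pow_orderOf_eq_one, act_one] at h0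
      exact smul_left_injective F he0 (show μ ^ orderOf a • e = (1 : F) • e by rw [one_smul, ← h0])
  have hob : orderOf b = k := by
    rw [← hoa]
    exact MulEquiv.orderOf_eq (MulAut.conj g) a
  have hbp : ∀ i : ℕ, ∀ x, Supp {0, 1} x → act (b ^ i) x = x := by
    intro i x hx
    induction i with
    | zero => rw [pow_zero, act_one]
    | succ i ih => rw [pow_succ, act_mul, hbfix x hx, ih]
  have hdis : ∀ x ∈ Subgroup.zpowers a, x ∈ Subgroup.zpowers b → x = 1 := by
    intro x hxa hxb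
    obtain ⟨i, rfl⟩ := mem_powers_iff_mem_zpowers.2 hxa
    obtain ⟨j, hj⟩ := mem_powers_iff_mem_zpowers.2 hxb
    dsimp only at hj ⊢
    refine P.eq_one_of_fix ?_ ?_ (hpow i).2
    · rw [← hj, hbp j e P.supp_e]
    · rw [← hj, hbp j f P.supp_f]
  have hcard : Nat.card ↥(Subgroup.zpowers a ⊔ Subgroup.zpowers b) = k * k := by
    rw [card_sup_of_disjoint _ _ ?_ hdis, Nat.card_zpowers, Nat.card_zpowers, hoa, hob]
    intro y hy x hx
    have hxy : Commute x y := by
      obtain ⟨i, rfl⟩ := mem_powers_iff_mem_zpowers.2 hx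
      obtain ⟨j, rfl⟩ := mem_powers_iff_mem_zpowers.2 hy
      exact hab.pow_pow i j
    rw [← hxy.eq, mul_inv_cancel_right]; exact hx
  refine ker_eq_bot_of_ok hΓ hker (Subgroup.zpowers a ⊔ Subgroup.zpowers b) (fun hd => ?_)
    (hOK.mono (sup_le (Subgroup.zpowers_le.2 (Subgroup.subset_closure (Or.inl rfl)))
      (Subgroup.zpowers_le.2 (Subgroup.subset_closure (Or.inr rfl)))))
  have h5 := Subgroup.index_mul_card (Subgroup.zpowers a ⊔ Subgroup.zpowers b)
  rw [hcard, card_SU_four (hstar := hstar) hF hk] at h5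
  have hk0 : 0 < k := by omega
  have h6 : (Subgroup.zpowers a ⊔ Subgroup.zpowers b).index =
      q ^ 6 * ((k + 2) * (k + 2) * (k + 2)) * (k ^ 2 + k + 1) * (k ^ 2 + 2 * k + 2) :=
    Nat.eq_of_mul_eq_mul_right (m := k * k) (by positivity) (h5.trans (by ring))
  rw [h6] at hd
  have h2 : ¬ r ∣ 2 := fun h => hr ((Nat.prime_dvd_prime_iff_eq hr' Nat.prime_two).1 h)
  rcases hr'.dvd_mul.1 hd with h | h
  · rcases hr'.dvd_mul.1 h with h | h
    · rcases hr'.dvd_mul.1 h with h | h
      · have h1 := hr'.dvd_of_dvd_pow h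
        rw [hk] at h1
        exact hr'.not_dvd_one ((Nat.dvd_add_right hrk).1 h1)
      · have h1 : r ∣ k + 2 := by
          rcases hr'.dvd_mul.1 h with h | h
          · exact (hr'.dvd_mul.1 h).elim id id
          · exact h
        exact h2 ((Nat.dvd_add_right hrk).1 h1)
    · rw [show k ^ 2 + k + 1 = k * (k + 1) + 1 by ring] at h
      exact hr'.not_dvd_one ((Nat.dvd_add_right (hrk.mul_right (k + 1))).1 h)
  · rw [show k ^ 2 + 2 * k + 2 = k * (k + 2) + 2 by ring] at h
    exact h2 ((Nat.dvd_add_right (hrk.mul_right (k + 2))).1 h)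

/-- Every prime. -/
theorem four_prime (hΓ : commutator Γ = ⊤) (hq4 : 4 ≤ q) (hker : ∀ k : Γ, C.π k = 1 → ∃ e, k ^ r ^ e = 1) :
    C.π.ker = ⊥ := by
  classical
  have hr := (Fact.out : r.Prime)
  have hq := Hermitian.q_two_le hF
  obtain ⟨k, hk⟩ : ∃ k, q = k + 1 := ⟨q - 1, by omega⟩
  have hc := card_SU_four (hstar := hstar) hF hk
  obtain ⟨p, e, σ, hp, hchar, hqp, he, -⟩ := Classical.exists_usigma hF
  haveI := hchar
  haveI : Fact p.Prime := ⟨hp⟩
  haveI : Finite (Cfsg.SU 4 F q) := Subtype.finite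
  by_cases hrq : r ∣ q
  · obtain rfl : r = p := (Nat.prime_dvd_prime_iff_eq hr hp).1 (hr.dvd_of_dvd_pow (hqp ▸ hrq))
    have hrk1 : r ∣ k + 1 := hk ▸ hrq
    refine ker_bot_of_sylP C hΓ hker (sylP_four_all hstar hF r hq4)
      (m := (k * k) * ((k + 2) * (k + 2) * (k + 2)) * (k ^ 2 + k + 1) * (k ^ 2 + 2 * k + 2)) ?_
      (by rw [hc]; exact dvd_of_eq (by ring)) (by omega)
    intro hd
    have h1 : ¬ r ∣ k := fun h => hr.not_dvd_one ((Nat.dvd_add_right h).1 hrk1)
    have h2 : ¬ r ∣ k + 2 := fun h => hr.not_dvd_one ((Nat.dvd_add_right hrk1).1 (by rwa [add_assoc]))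
    have h3 : ¬ r ∣ k ^ 2 + k + 1 := fun h => by
      rw [show k ^ 2 + k + 1 = k * (k + 1) + 1 by ring] at h
      exact hr.not_dvd_one ((Nat.dvd_add_right (hrk1.mul_left k)).1 h)
    have h4 : ¬ r ∣ k ^ 2 + 2 * k + 2 := fun h => by
      rw [show k ^ 2 + 2 * k + 2 = (k + 1) * (k + 1) + 1 by ring] at h
      exact hr.not_dvd_one ((Nat.dvd_add_right (hrk1.mul_left (k + 1))).1 h)
    rcases hr.dvd_mul.1 hd with h | h
    · rcases hr.dvd_mul.1 h with h | h
      · rcases hr.dvd_mul.1 h with h | h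
        · exact (hr.dvd_mul.1 h).elim h1 h1
        · rcases hr.dvd_mul.1 h with h | h
          · exact (hr.dvd_mul.1 h).elim h2 h2
          · exact h2 h
      · exact h3 h
    · exact h4 h
  have hrq6 : ∀ i, ¬ r ∣ q ^ i := fun i h => hrq (hr.dvd_of_dvd_pow h)
  rcases eq_or_ne r 2 with rfl | hr2
  · exact four_two (hstar := hstar) hF C hΓ hker (Nat.odd_iff.2 (by omega))
  by_cases hqm : r ∣ k
  · exact four_split (hstar := hstar) hF C hΓ hker hr2 hk hqm
  have h2' : ¬ r ∣ 2 := fun h => hr2 ((Nat.prime_dvd_prime_iff_eq hr Nat.prime_two).1 h)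
  have hk1 : ¬ r ∣ k + 1 := hk ▸ hrq
  by_cases hq1 : r ∣ k + 2
  · have h4 : ¬ r ∣ k ^ 2 + 2 * k + 2 := fun h => by
      rw [show k ^ 2 + 2 * k + 2 = k * (k + 2) + 2 by ring] at h
      exact h2' ((Nat.dvd_add_right (hq1.mul_left k)).1 h)
    rcases eq_or_ne r 3 with rfl | hr3
    · obtain ⟨j, rfl⟩ : ∃ j, k = 3 * j + 1 := ⟨k / 3, by omega⟩
      refine ker_bot_perm (hstar := hstar) (n := 3) hF hΓ hker hr2 (by norm_num)
        (m := q ^ 6 * ((3 * j + 1) * (3 * j + 1)) * (3 * (j ^ 2 + j) + 1) * ((3 * j + 1) ^ 2 + 2 * (3 * j + 1) + 2))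
        ?_ ?_
      · intro h
        rcases hr.dvd_mul.1 h with h | h
        · rcases hr.dvd_mul.1 h with h | h
          · rcases hr.dvd_mul.1 h with h | h
            · exact hrq6 6 h
            · exact (hr.dvd_mul.1 h).elim hqm hqm
          · omega
        · exact h4 h
      · rw [hc, hk]
        exact dvd_of_eq (by ring)
    · refine ker_bot_perm (hstar := hstar) (n := 3) hF hΓ hker hr2 (by norm_num)
        (m := q ^ 6 * (k * k) * (k ^ 2 + k + 1) * (k ^ 2 + 2 * k + 2)) ?_ ?_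
      · intro h
        rcases hr.dvd_mul.1 h with h | h
        · rcases hr.dvd_mul.1 h with h | h
          · rcases hr.dvd_mul.1 h with h | h
            · exact hrq6 6 h
            · exact (hr.dvd_mul.1 h).elim hqm hqm
          · refine hr3 ((Nat.prime_dvd_prime_iff_eq hr Nat.prime_three).1 ?_)
            have h3 := dvd_add h hq1
            rw [show k ^ 2 + k + 1 + (k + 2) = (k + 2) * k + 3 by ring] at h3
            exact (Nat.dvd_add_right (hq1.mul_right k)).1 h3
        · exact h4 h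
      · rw [hc, hk]
        exact ⟨3, by ring⟩
  by_cases h3 : r ∣ k ^ 2 + k + 1
  · have hperf : commutator (Cfsg.SU 3 F q) = ⊤ :=
      Unitary.commutator_eq_top hstar hF le_rfl (fun h => by omega)
    have hok : OK C (up (n := 3) hstar).range :=
      ok_of_embedded hker (up (n := 3) hstar) (up_injective hstar) hperf (m := 1) hr.not_dvd_one
        (fun Δ _ _ C' hΔ x hx => by
          rw [pow_one]
          exact (Subgroup.eq_bot_iff_forall _).1 (three_triv (hstar := hstar) hF C' hΔ) x hx)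
    refine ker_eq_bot_of_ok hΓ hker _ (fun hd => ?_) hok
    have h5 := Subgroup.index_mul_card (up (n := 3) hstar).range (G := Cfsg.SU 4 F q)
    rw [← Nat.card_congr (MonoidHom.ofInjective (up_injective hstar)).toEquiv,
      card_SU_three (hstar := hstar) hF hk, hc] at h5
    have h6 : (up (n := 3) hstar).range.index (G := Cfsg.SU 4 F q) = q ^ 3 * (k * (k + 2)) * (k ^ 2 + 2 * k + 2) := by
      refine Nat.eq_of_mul_eq_mul_right (m := q ^ 3 * (k * (k + 2)) * ((k + 2) * (k ^ 2 + k + 1))) ?_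
        (h5.trans (by ring))
      have : 0 < k := by omega
      positivity
    rw [h6] at hd
    rcases hr.dvd_mul.1 hd with h | h
    · rcases hr.dvd_mul.1 h with h | h
      · exact hrq6 3 h
      · exact (hr.dvd_mul.1 h).elim hqm hq1
    · have h7 := Nat.dvd_sub h h3
      rw [show k ^ 2 + 2 * k + 2 = (k + 1) + (k ^ 2 + k + 1) by ring, Nat.add_sub_cancel] at h7
      exact hk1 h7
  · obtain ⟨v, hv1, hv2, hv3⟩ := Hermitian.exists_torus_even hstar hF 2 one_le_two
    let x : Cfsg.SU 4 F q := mkSU hstar (v : Matrix (Fin 4) (Fin 4) F) hv1 hv3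
    have hx : orderOf x = k * (k ^ 2 + 2 * k + 2) := by
      rw [show k * (k ^ 2 + 2 * k + 2) = (q ^ (2 * 2) - 1) / (q + 1) by
        symm
        refine Nat.div_eq_of_eq_mul_left (by omega) ?_
        rw [hk, show (k + 1) ^ (2 * 2) = k * (k ^ 2 + 2 * k + 2) * (k + 1 + 1) + 1 by ring, Nat.add_sub_cancel],
        ← hv2]
      refine orderOf_eq_orderOf_iff.2 fun i => ?_
      have hval : (x ^ i).1.1 = ((v ^ i : GL (Fin 4) F) : Matrix (Fin 4) (Fin 4) F) := by
        rw [Units.val_pow_eq_pow_val, SubmonoidClass.coe_pow, Matrix.SpecialLinearGroup.coe_pow]; rfl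
      refine ⟨fun e => Units.ext ?_, fun e => Subtype.ext (Subtype.ext ?_)⟩
      · rw [← hval, e]; rfl
      · rw [hval, e]; rfl
    refine ker_bot_of_cyclic hΓ hker x (m := q ^ 6 * k * ((k + 2) * (k + 2) * (k + 2)) * (k ^ 2 + k + 1)) ?_ ?_
    · intro h
      rcases hr.dvd_mul.1 h with h | h
      · rcases hr.dvd_mul.1 h with h | h
        · rcases hr.dvd_mul.1 h with h | h
          exacts [hrq6 6 h, hqm h]
        · rcases hr.dvd_mul.1 h with h | h
          · exact (hr.dvd_mul.1 h).elim hq1 hq1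
          · exact hq1 h
      · exact h3 h
    · rw [hc, hx]
      exact dvd_of_eq (by ring)

omit C r in
/-- `SU₄(q)` has no nontrivial perfect central extension for `q ≥ 4`. -/
theorem four_triv [Finite Γ] (C : Central Γ (Cfsg.SU 4 F q)) (hΓ : commutator Γ = ⊤) (hq4 : 4 ≤ q) :
    C.π.ker = ⊥ :=
  ker_eq_bot_of_primes C hΓ fun r hr Δ _ _ C' hΔ hk => by
    haveI := Fact.mk hr
    exact four_prime (hstar := hstar) hF C' hΔ hq4 hk

end Cfsg.Agent.Small.UCover
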