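import Cfsg.Agent.Lib.Small.UCover.Three

/-!
The prime two for `SU₄(q)` in odd characteristic.
-/

set_option autoImplicit false
set_option linter.unusedSectionVars false
set_option linter.style.haveILetI false

namespace Cfsg.Agent.Small.UCover

open Matrix Cfsg.Agent.Small.Unitary Cfsg.Agent.Small.SchurLifts
open scoped commutatorElement Pointwise

universe u

/-- Twice the order. -/
theorem card_sup_two {G : Type*} [Group G] [Finite G] (H : Subgroup G) (w : G)
    (hN : ∀ a ∈ H, w * a * w⁻¹ ∈ H) (hw : w ∉ H) (hw2 : w ^ 2 ∈ H) :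
    Nat.card ↥(H ⊔ Subgroup.zpowers w) = 2 * Nat.card H := by
  have hle : Subgroup.zpowers w ≤ Subgroup.normalizer (H : Set G) :=
    Subgroup.zpowers_le.2 (mem_normalizer_of_le hN)
  let φ : ↥H × Fin 2 → ↥(H ⊔ Subgroup.zpowers w) := fun x =>
    ⟨x.1.1 * w ^ (x.2 : ℕ), mul_mem (Subgroup.mem_sup_left x.1.2)
      (Subgroup.mem_sup_right (pow_mem (Subgroup.mem_zpowers w) _))⟩
  have hφ : Function.Bijective φ := by
    constructor
    · rintro ⟨⟨x, hx⟩, i⟩ ⟨⟨y, hy⟩, j⟩ e
      have h1 : x * w ^ (i : ℕ) = y * w ^ (j : ℕ) := congrArg Subtype.val e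
      fin_cases i <;> fin_cases j <;> simp at h1
      · subst h1; rfl
      · exact absurd ((eq_inv_mul_iff_mul_eq.2 h1.symm) ▸ mul_mem (inv_mem hy) hx) hw
      · exact absurd ((eq_inv_mul_iff_mul_eq.2 h1) ▸ mul_mem (inv_mem hx) hy) hw
      · subst h1; rfl
    · rintro ⟨g, hg⟩
      have : g ∈ ((H : Set G) * (Subgroup.zpowers w : Set G)) := by
        rw [← Subgroup.coe_mul_of_right_le_normalizer_left _ _ hle]; exact hg
      obtain ⟨x, hx, u, hu, rfl⟩ := this
      obtain ⟨k, rfl⟩ := mem_powers_iff_mem_zpowers.2 hu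
      refine ⟨(⟨x * (w ^ 2) ^ (k / 2), mul_mem hx (pow_mem hw2 _)⟩, ⟨k % 2, Nat.mod_lt _ two_pos⟩), Subtype.ext ?_⟩
      show x * (w ^ 2) ^ (k / 2) * w ^ (k % 2) = x * w ^ k
      rw [mul_assoc, ← pow_mul, ← pow_add, Nat.div_add_mod]
  rw [← Nat.card_congr (Equiv.ofBijective φ hφ), Nat.card_prod, Nat.card_fin, mul_comm]

variable {F : Type u} [Field F] [Fintype F] [StarRing F] {q : ℕ} {hstar : ∀ x : F, star x = x ^ q}
  (hF : Fintype.card F = q ^ 2)
include hF hstar

/-- The plane fixing two vectors. -/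
theorem exists_plane {a b : Fin 4 → F} (h : ON ![a, b]) :
    ∃ ι : Cfsg.SU 2 F q →* Cfsg.SU 4 F q, Function.Injective ι ∧ ι.range = fixS q {a, b} := by
  have h0 : ON (![(Pi.single 0 1 : Fin 4 → F), Pi.single 1 1] : Fin 2 → Fin 4 → F) :=
    on_two (by simp [herm_single_left]) (by simp [herm_single_left]) (by simp [herm_single_left])
  obtain ⟨g, hg⟩ := exists_move hstar hF h0 h (by norm_num)
  refine ⟨(MulAut.conj g).toMonoidHom.comp ((up (n := 3) hstar).comp (up (n := 2) hstar)),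
    (MulAut.conj g).injective.comp ((up_injective hstar).comp (up_injective hstar)), ?_⟩
  rw [MonoidHom.range_comp]
  have hr : ((up (n := 3) hstar).comp (up (n := 2) hstar)).range =
      fixS q {(Pi.single 0 1 : Fin 4 → F), Pi.single 1 1} := by
    ext x
    constructor
    · rintro ⟨y, rfl⟩
      intro v hv
      rw [MonoidHom.comp_apply, act_up, act_up]
      rcases hv with rfl | rfl
      · funext m
        refine Fin.cases (by simp) (fun m => ?_) m
        rw [Fin.cons_succ, show Fin.tail (Fin.tail (Pi.single 0 1 : Fin 4 → F)) = 0 by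
          funext i; fin_cases i <;> simp [Fin.tail], show act y (0 : Fin 2 → F) = 0 from Matrix.mulVec_zero _]
        refine Fin.cases (by simp [Fin.tail]) (fun m => ?_) m
        fin_cases m <;> rfl
      · funext m
        refine Fin.cases (by simp) (fun m => ?_) m
        rw [Fin.cons_succ, show Fin.tail (Fin.tail (Pi.single 1 1 : Fin 4 → F)) = 0 by
          funext i; fin_cases i <;> simp [Fin.tail], show act y (0 : Fin 2 → F) = 0 from Matrix.mulVec_zero _]
        refine Fin.cases (by simp [Fin.tail]) (fun m => ?_) m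
        fin_cases m <;> rfl
    · intro hx
      have h1 : x ∈ (up (n := 3) hstar).range := by
        rw [range_up]; exact fun v hv => hx v (Or.inl hv)
      obtain ⟨y, rfl⟩ := h1
      have h2 : y ∈ (up (n := 2) hstar).range := by
        rw [range_up]
        intro v hv
        rw [Set.mem_singleton_iff.1 hv]
        have h3 := congrArg Fin.tail (hx _ (Or.inr rfl))
        rw [act_up, Fin.tail_cons] at h3
        have h4 : Fin.tail (Pi.single 1 1 : Fin 4 → F) = Pi.single 0 1 := by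
          funext i; fin_cases i <;> simp [Fin.tail]
        rwa [h4] at h3
      obtain ⟨z, rfl⟩ := h2
      exact ⟨z, rfl⟩
  rw [hr, ← fixS_image, Set.image_pair]
  have e0 := hg 0
  have e1 := hg 1
  simp only [Matrix.cons_val_zero, Matrix.cons_val_one] at e0 e1
  rw [e0, e1]

set_option maxHeartbeats 1600000 in
/-- The prime two. -/
theorem four_two {Γ : Type u} [Group Γ] [Finite Γ] (C : Central Γ (Cfsg.SU 4 F q)) (hΓ : commutator Γ = ⊤)
    (hker : ∀ k : Γ, C.π k = 1 → ∃ e, k ^ 2 ^ e = 1) (hodd : Odd q) : C.π.ker = ⊥ := by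
  classical
  haveI : Fact (Nat.Prime 2) := ⟨Nat.prime_two⟩
  haveI : Finite (Cfsg.SU 4 F q) := Subtype.finite
  obtain ⟨j, hj⟩ : ∃ j, q = 2 * j + 1 := hodd
  have hq := Hermitian.q_two_le hF
  obtain ⟨g, hg, hgen⟩ := exists_norm_gen (hstar := hstar) hF
  have hgn : star (g : F) * g = 1 := (hgen _).2 ⟨1, pow_one _⟩
  let E : Fin 4 → Fin 4 → F := fun m => Pi.single m 1
  have hE : ∀ a b : Fin 4, a ≠ b → ON ![E a, E b] := fun a b hab =>
    on_two (by simp [E, herm_single_left]) (by simp [E, herm_single_left])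
      (by simp [E, herm_single_left, hab])
  let KA : Subgroup (Cfsg.SU 4 F q) := fixS q {E 2, E 3}
  let KB : Subgroup (Cfsg.SU 4 F q) := fixS q {E 0, E 1}
  let KC : Subgroup (Cfsg.SU 4 F q) := fixS q {E 1, E 3}
  obtain ⟨ιA, hιA, hrA⟩ := exists_plane (hstar := hstar) hF (hE 2 3 (by decide))
  obtain ⟨ιB, hιB, hrB⟩ := exists_plane (hstar := hstar) hF (hE 0 1 (by decide))
  obtain ⟨ιC, hιC, hrC⟩ := exists_plane (hstar := hstar) hF (hE 1 3 (by decide))
  obtain ⟨NA, hNA⟩ := exists_isSec_plane hstar hF ⟨j, hj⟩ ιA hιA (C := C) hker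
  obtain ⟨NC, hNC⟩ := exists_isSec_plane hstar hF ⟨j, hj⟩ ιC hιC (C := C) hker
  rw [hrA] at hNA
  rw [hrC] at hNC
  set r₀ := rot hstar (0 : Fin 4) 2 with hr0
  set r₁ := rot hstar (1 : Fin 4) 3 with hr1
  set σ := r₀ * r₁ with hσ
  set dv := coordTorus (0 : Fin 4) 2 (g : F) with hdv
  have hdok : DOk dv := coordTorus_ok (by decide) hgn
  set δ := dg hstar dv with hδ
  have aσ : ∀ x, act σ x = ![-x 2, -x 3, x 0, x 1] := by
    intro x
    rw [hσ, act_mul, hr0, hr1, act_rot (by decide), act_rot (by decide)]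
    funext m
    fin_cases m <;> simp [Equiv.swap_apply_def]
  have aδ : ∀ x, act δ x = ![(g : F) * x 0, x 1, (g : F)⁻¹ * x 2, x 3] := by
    intro x
    rw [hδ, act_dg' hdok]
    funext m
    fin_cases m <;> simp [hdv, coordTorus]
  have ar0 : ∀ x, act r₀ x = ![-x 2, x 1, x 0, x 3] := by
    intro x
    rw [hr0, act_rot (by decide)]
    funext m
    fin_cases m <;> simp [Equiv.swap_apply_def]
  have ar1 : ∀ x, act r₁ x = ![x 0, -x 3, x 2, x 1] := by
    intro x
    rw [hr1, act_rot (by decide)]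
    funext m
    fin_cases m <;> simp [Equiv.swap_apply_def]
  have hnorm : ∀ (w : Cfsg.SU 4 F q) (a b : Fin 4) (α β : F), α ≠ 0 → β ≠ 0 → act w (E a) = α • E a →
      act w (E b) = β • E b → ∀ s ∈ fixS q {E a, E b}, w * s * w⁻¹ ∈ fixS q {E a, E b} := by
    intro w a b α β hα hβ ha hb s hs
    have key : ∀ (v : Fin 4 → F) (γ : F), γ ≠ 0 → act w v = γ • v → act s v = v → act (w * s * w⁻¹) v = v := by
      intro v γ hγ hv hsv
      have h2 : act w⁻¹ v = γ⁻¹ • v := by
        apply act_injective w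
        rw [act_act_inv, act_smul, hv, smul_smul, inv_mul_cancel₀ hγ, one_smul]
      rw [act_mul, act_mul, h2, act_smul, hsv, act_smul, hv, smul_smul, inv_mul_cancel₀ hγ, one_smul]
    rintro v (rfl | rfl)
    · exact key _ α hα ha (hs _ (Or.inl rfl))
    · exact key _ β hβ hb (hs _ (Or.inr rfl))
  have hg0 : (g : F) ≠ 0 := g.ne_zero
  have hgi : (g : F)⁻¹ ≠ 0 := inv_ne_zero hg0
  have vE : ∀ a : Fin 4, E a = ![if a = 0 then 1 else 0, if a = 1 then 1 else 0, if a = 2 then 1 else 0,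
      if a = 3 then 1 else 0] := by
    intro a
    funext m
    fin_cases m <;> fin_cases a <;> simp [E]
  have nA : ∀ s ∈ KA, δ * s * δ⁻¹ ∈ KA := hnorm δ 2 3 (g : F)⁻¹ 1 hgi one_ne_zero
    (by rw [aδ, vE]; funext m; fin_cases m <;> simp) (by rw [aδ, vE]; funext m; fin_cases m <;> simp)
  have nB : ∀ s ∈ KB, δ * s * δ⁻¹ ∈ KB := hnorm δ 0 1 (g : F) 1 hg0 one_ne_zero
    (by rw [aδ, vE]; funext m; fin_cases m <;> simp) (by rw [aδ, vE]; funext m; fin_cases m <;> simp)
  have nC : ∀ s ∈ KC, δ * s * δ⁻¹ ∈ KC := hnorm δ 1 3 1 1 one_ne_zero one_ne_zero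
    (by rw [aδ, vE]; funext m; fin_cases m <;> simp) (by rw [aδ, vE]; funext m; fin_cases m <;> simp)
  have nσA : ∀ s ∈ KA, (σ * σ) * s * (σ * σ)⁻¹ ∈ KA := hnorm (σ * σ) 2 3 (-1) (-1) (neg_ne_zero.2 one_ne_zero)
    (neg_ne_zero.2 one_ne_zero) (by rw [act_mul, aσ, aσ, vE]; funext m; fin_cases m <;> simp)
    (by rw [act_mul, aσ, aσ, vE]; funext m; fin_cases m <;> simp)
  have hσAB : ∀ s, s ∈ KB ↔ σ⁻¹ * s * σ ∈ KA := by
    intro s
    have e2 : act σ (E 2) = -E 0 := by rw [aσ, vE, vE]; funext m; fin_cases m <;> simp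
    have e3 : act σ (E 3) = -E 1 := by rw [aσ, vE, vE]; funext m; fin_cases m <;> simp
    have key : ∀ v w : Fin 4 → F, act σ v = -w → (act (σ⁻¹ * s * σ) v = v ↔ act s w = w) := by
      intro v w hv
      have hneg : act s (-w) = -act s w := by
        rw [← neg_one_smul F w, act_smul, neg_one_smul]
      rw [act_mul, act_mul, hv, hneg]
      constructor
      · intro e
        have := congrArg (act σ) e
        rw [act_act_inv, hv] at this
        exact neg_injective this
      · intro e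
        rw [e, ← hv, act_inv_act]
    constructor
    · intro hs v hv
      rcases hv with rfl | rfl
      · exact (key _ _ e2).2 (hs _ (Or.inl rfl))
      · exact (key _ _ e3).2 (hs _ (Or.inr rfl))
    · intro hs v hv
      rcases hv with rfl | rfl
      · exact (key _ _ e2).1 (hs _ (Or.inl rfl))
      · exact (key _ _ e3).1 (hs _ (Or.inr rfl))
  set sl := C.L σ with hsl
  have hπs : C.π sl = σ := C.π_L σ
  let NB : Subgroup Γ := NA.map (MulAut.conj sl).toMonoidHom
  have hNB : IsSec C KB NB := by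
    refine ⟨?_, le_antisymm ?_ ?_, ?_⟩
    · rintro _ ⟨x, hx, rfl⟩ h1
      have h2 : C.π (sl * x * sl⁻¹) = 1 := h1
      rw [map_mul, map_mul, map_inv, mul_inv_eq_one, mul_eq_left] at h2
      show sl * x * sl⁻¹ = 1
      rw [hNA.inter x hx h2, mul_one, mul_inv_cancel]
    · rintro _ ⟨_, ⟨x, hx, rfl⟩, rfl⟩
      refine (hσAB _).2 ?_
      show σ⁻¹ * C.π (sl * x * sl⁻¹) * σ ∈ KA
      rw [map_mul, map_mul, map_inv, hπs, show σ⁻¹ * (σ * C.π x * σ⁻¹) * σ = C.π x by group]
      exact hNA.π_mem hx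
    · intro s hs
      obtain ⟨x, hx, e⟩ := hNA.exists_lift ((hσAB s).1 hs)
      refine ⟨sl * x * sl⁻¹, ⟨x, hx, rfl⟩, ?_⟩
      rw [map_mul, map_mul, map_inv, hπs, e]; group
    · rintro w hw _ ⟨x, hx, rfl⟩
      refine ⟨(sl⁻¹ * w * sl) * x * (sl⁻¹ * w * sl)⁻¹, hNA.conj _ (fun s hs => ?_) x hx, ?_⟩
      · simp only [map_mul, map_inv, hπs]
        have h1 := hw (σ * s * σ⁻¹) ((hσAB _).2 (by rw [show σ⁻¹ * (σ * s * σ⁻¹) * σ = s by group]; exact hs))
        have h2 := (hσAB _).1 h1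
        convert h2 using 1
        group
      · show sl * (sl⁻¹ * w * sl * x * (sl⁻¹ * w * sl)⁻¹) * sl⁻¹ = w * (sl * x * sl⁻¹) * w⁻¹
        group
  have hr0C : r₀ ∈ KC := by
    rintro v (rfl | rfl) <;> rw [ar0, vE] <;> funext m <;> fin_cases m <;> simp
  have hδC : δ ∈ KC := by
    rintro v (rfl | rfl) <;> rw [aδ, vE] <;> funext m <;> fin_cases m <;> simp
  have hr1fix : ∀ v : Fin 4 → F, v 1 = 0 → v 3 = 0 → act r₁ v = v := by
    intro v h1 h3
    rw [ar1]
    funext m; fin_cases m <;> simp [h1, h3]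
  have nr1C : ∀ s ∈ KC, r₁ * s * r₁⁻¹ ∈ KC := by
    intro s hs
    have e1 : act r₁ (E 1) = E 3 := by rw [ar1, vE, vE]; funext m; fin_cases m <;> simp
    have e3 : act r₁ (E 3) = -E 1 := by rw [ar1, vE, vE]; funext m; fin_cases m <;> simp
    have hneg : ∀ (w : Cfsg.SU 4 F q) (v : Fin 4 → F), act w (-v) = -act w v := fun w v => by
      rw [← neg_one_smul F v, act_smul, neg_one_smul]
    have i3 : act r₁⁻¹ (E 3) = E 1 := by rw [← e1, act_inv_act]
    have i1 : act r₁⁻¹ (E 1) = -E 3 := by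
      apply act_injective r₁
      rw [act_act_inv, hneg, e3, neg_neg]
    rintro v (rfl | rfl)
    · rw [act_mul, act_mul, i1, hneg, hs _ (Or.inr rfl), hneg, e3, neg_neg]
    · rw [act_mul, act_mul, i3, hs _ (Or.inl rfl), e1]
  obtain ⟨r0l, hr0l, hπ0⟩ := hNC.exists_lift hr0C
  obtain ⟨dl', hdl', hπd⟩ := hNC.exists_lift hδC
  have hcomm1 : Commute r₁ δ := by
    refine eq_of_act fun x => ?_
    rw [act_mul, act_mul, ar1, ar1, aδ, aδ]
    funext m; fin_cases m <;> simp
  set c := ⁅sl, dl'⁆ with hc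
  have hcmm : Commute (C.L r₁) dl' := hNC.commute (by rw [C.π_L]; exact nr1C) hdl' (by rw [C.π_L, hπd]; exact hcomm1)
  have hcC : c ∈ NC := by
    rw [hc, C.comm_left (a' := r0l * C.L r₁) (by rw [hπs, map_mul, hπ0, C.π_L]) dl',
      show ⁅r0l * C.L r₁, dl'⁆ = r0l * ⁅C.L r₁, dl'⁆ * r0l⁻¹ * ⁅r0l, dl'⁆ by
        simp only [commutatorElement_def]; group,
      commutatorElement_eq_one_iff_mul_comm.2 hcmm.eq, mul_one, mul_inv_cancel, one_mul, commutatorElement_def]
    exact mul_mem (mul_mem (mul_mem hr0l hdl') (inv_mem hr0l)) (inv_mem hdl')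
  have hπc : ∀ x, act (C.π c) x = ![((g : F)⁻¹) ^ 2 * x 0, x 1, (g : F) ^ 2 * x 2, x 3] := by
    intro x
    apply act_injective δ
    apply act_injective σ
    have hh : C.π c * δ * σ = σ * δ := by
      rw [hc, map_commutatorElement, hπs, hπd, commutatorElement_def]; group
    have hcomm : ∀ y, act (C.π c) (act δ (act σ y)) = act σ (act δ y) := fun y => by
      rw [← act_mul, ← act_mul, hh, act_mul]
    have e := hcomm (act σ⁻¹ (act δ⁻¹ x))
    rw [act_act_inv, act_act_inv] at e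
    rw [e]
    have y1 : act σ⁻¹ (act δ⁻¹ x) = ![(g : F) * x 2, x 3, -((g : F)⁻¹ * x 0), -x 1] := by
      apply act_injective σ
      rw [act_act_inv]
      apply act_injective δ
      rw [act_act_inv, aσ, aδ]
      funext m; fin_cases m <;> simp [hg0]
    rw [y1, aδ, aσ, aσ, aδ, aσ, aδ]
    funext m; fin_cases m <;> simp [hg0, pow_two, mul_assoc]
  have nc : ∀ (a b : Fin 4), (∀ s ∈ fixS q {E a, E b}, C.π c * s * (C.π c)⁻¹ ∈ fixS q {E a, E b}) := by
    intro a b
    have hval : ∀ m : Fin 4, act (C.π c) (E m) =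
        (![((g : F)⁻¹) ^ 2, 1, (g : F) ^ 2, 1] : Fin 4 → F) m • E m := by
      intro m
      rw [hπc, vE]
      funext l
      fin_cases m <;> fin_cases l <;> simp
    refine hnorm _ a b _ _ ?_ ?_ (hval a) (hval b)
    · fin_cases a <;> simp [hg0]
    · fin_cases b <;> simp [hg0]
  have hAB : ∀ a ∈ NA, ∀ b ∈ NB, Commute a b := by
    intro a ha b hb
    have h1 := hNA.π_mem ha
    have h2 := hNB.π_mem hb
    have hsupA : ∀ v : Fin 4 → F, v 0 = 0 → v 1 = 0 → act (C.π a) v = v := by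
      intro v h0 h1'
      have ev : v = v 2 • E 2 + v 3 • E 3 := by funext m; fin_cases m <;> simp [E, h0, h1']
      rw [ev, act_add, act_smul, act_smul, h1 _ (Or.inl rfl), h1 _ (Or.inr rfl)]
    have hsupB : ∀ v : Fin 4 → F, v 2 = 0 → v 3 = 0 → act (C.π b) v = v := by
      intro v h0 h1'
      have ev : v = v 0 • E 0 + v 1 • E 1 := by funext m; fin_cases m <;> simp [E, h0, h1']
      rw [ev, act_add, act_smul, act_smul, h2 _ (Or.inl rfl), h2 _ (Or.inr rfl)]
    have hpA : ∀ v : Fin 4 → F, v 2 = 0 → v 3 = 0 → act (C.π a) v 2 = 0 ∧ act (C.π a) v 3 = 0 := by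
      intro v v2 v3
      constructor
      · have := herm_act hstar (C.π a) (E 2) v
        rw [h1 _ (Or.inl rfl)] at this
        simpa [E, herm_single_left, v2] using this
      · have := herm_act hstar (C.π a) (E 3) v
        rw [h1 _ (Or.inr rfl)] at this
        simpa [E, herm_single_left, v3] using this
    have hpB : ∀ v : Fin 4 → F, v 0 = 0 → v 1 = 0 → act (C.π b) v 0 = 0 ∧ act (C.π b) v 1 = 0 := by
      intro v v2 v3
      constructor
      · have := herm_act hstar (C.π b) (E 0) v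
        rw [h2 _ (Or.inl rfl)] at this
        simpa [E, herm_single_left, v2] using this
      · have := herm_act hstar (C.π b) (E 1) v
        rw [h2 _ (Or.inr rfl)] at this
        simpa [E, herm_single_left, v3] using this
    have hπab : Commute (C.π a) (C.π b) := by
      refine eq_of_act fun x => ?_
      set u : Fin 4 → F := ![x 0, x 1, 0, 0] with hu
      set w : Fin 4 → F := ![0, 0, x 2, x 3] with hw
      have ex : x = u + w := by funext m; fin_cases m <;> simp [hu, hw]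
      have hu2 := hpA u (by simp [hu]) (by simp [hu])
      have hw2 := hpB w (by simp [hw]) (by simp [hw])
      have main : act (C.π a) (act (C.π b) (u + w)) = act (C.π b) (act (C.π a) (u + w)) := by
        simp only [act_add]
        rw [hsupB u (by simp [hu]) (by simp [hu]), hsupA w (by simp [hw]) (by simp [hw]),
          hsupA _ hw2.1 hw2.2, hsupB _ hu2.1 hu2.2]
      rw [act_mul, act_mul]
      rw [← ex] at main
      exact main
    refine hNB.commute ?_ hb hπab
    have key : ∀ v : Fin 4 → F, v 2 = 0 → v 3 = 0 → act (C.π a) v 2 = 0 ∧ act (C.π a) v 3 = 0 := hpA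
    intro s hs
    rintro v hv
    have hv' : v 2 = 0 ∧ v 3 = 0 := by rcases hv with rfl | rfl <;> simp [E]
    have hi : act (C.π a)⁻¹ v 2 = 0 ∧ act (C.π a)⁻¹ v 3 = 0 := by
      constructor
      · have := herm_act hstar (C.π a)⁻¹ (E 2) v
        rw [show act (C.π a)⁻¹ (E 2) = E 2 by
          conv_lhs => rw [← h1 _ (Or.inl rfl)]
          exact act_inv_act _ _] at this
        simpa [E, herm_single_left, hv'.1] using this
      · have := herm_act hstar (C.π a)⁻¹ (E 3) v
        rw [show act (C.π a)⁻¹ (E 3) = E 3 by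
          conv_lhs => rw [← h1 _ (Or.inr rfl)]
          exact act_inv_act _ _] at this
        simpa [E, herm_single_left, hv'.2] using this
    have hs' : act s (act (C.π a)⁻¹ v) = act (C.π a)⁻¹ v := by
      have ev : act (C.π a)⁻¹ v = act (C.π a)⁻¹ v 0 • E 0 + act (C.π a)⁻¹ v 1 • E 1 := by
        funext m; fin_cases m <;> simp [E, hi.1, hi.2]
      rw [ev, act_add, act_smul, act_smul, hs _ (Or.inl rfl), hs _ (Or.inr rfl)]
    rw [act_mul, act_mul, hs', act_act_inv]
  let M : Subgroup Γ := NA ⊔ NB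
  have hMn : ∀ (w : Γ), (∀ s ∈ KA, C.π w * s * (C.π w)⁻¹ ∈ KA) → (∀ s ∈ KB, C.π w * s * (C.π w)⁻¹ ∈ KB) →
      ∀ x ∈ M, w * x * w⁻¹ ∈ M := by
    intro w hA hB x hx
    have hle : M.map (MulAut.conj w).toMonoidHom ≤ M := by
      rw [Subgroup.map_sup]
      refine sup_le_sup ?_ ?_ <;> rintro _ ⟨y, hy, rfl⟩
      · exact hNA.conj w hA y hy
      · exact hNB.conj w hB y hy
    exact hle ⟨x, hx, rfl⟩
  have hMel : ∀ x ∈ M, ∃ a ∈ NA, ∃ b ∈ NB, x = a * b := by
    intro x hx
    have hle : NB ≤ Subgroup.normalizer (NA : Set Γ) := fun b hb => mem_normalizer_of_le fun a ha => by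
      rw [← (hAB a ha b hb).eq, mul_inv_cancel_right]; exact ha
    rw [← SetLike.mem_coe, Subgroup.coe_mul_of_right_le_normalizer_left _ _ hle] at hx
    obtain ⟨a, ha, b, hb, rfl⟩ := hx
    exact ⟨a, ha, b, hb, rfl⟩
  let N : Subgroup Γ := M ⊔ Subgroup.zpowers c
  have hcM : ∀ x ∈ M, c * x * c⁻¹ ∈ M := hMn c (nc 2 3) (nc 0 1)
  have hdetA : ∀ A ∈ KA, ∀ α : F, act A (E 1) = E 1 → act A (E 0) = α • E 0 → α = 1 ∧ A = 1 := by
    intro A hA α h1 h0
    have hm : A.1.1 = Matrix.diagonal ![α, 1, 1, 1] := by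
      refine ext_mulVec fun x => ?_
      show act A x = _
      have ex : x = x 0 • E 0 + x 1 • E 1 + x 2 • E 2 + x 3 • E 3 := by funext m; fin_cases m <;> simp [E]
      conv_lhs => rw [ex]
      rw [act_add, act_add, act_add, act_smul, act_smul, act_smul, act_smul, h0, h1, hA _ (Or.inl rfl),
        hA _ (Or.inr rfl)]
      funext m
      fin_cases m <;> simp [E, Matrix.mulVec_diagonal, mul_comm]
    have hd := A.1.2
    rw [hm, Matrix.det_diagonal] at hd
    simp [Fin.prod_univ_four] at hd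
    subst hd
    refine ⟨rfl, eq_of_act fun x => ?_⟩
    rw [act_one]
    show A.1.1 *ᵥ x = x
    rw [hm]
    funext m
    fin_cases m <;> simp [Matrix.mulVec_diagonal]
  have hpowc : ∀ i : ℕ, ∀ x, act (C.π c ^ i) x =
      ![(((g : F)⁻¹) ^ 2) ^ i * x 0, x 1, ((g : F) ^ 2) ^ i * x 2, x 3] := by
    intro i
    induction i with
    | zero => intro x; rw [pow_zero, act_one]; funext m; fin_cases m <;> simp
    | succ i ih =>
      intro x
      rw [pow_succ, act_mul, ih, hπc]
      funext m; fin_cases m <;> simp [pow_succ] <;> ring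
  have hsplit : ∀ A ∈ KA, ∀ B ∈ KB, ∀ D : Cfsg.SU 4 F q, (∀ α : F, act D (E 0) = α • E 0 → α = 1 → D = 1) →
      act D (E 1) = E 1 → (∃ α : F, act D (E 0) = α • E 0) → A * B * D = 1 → A = 1 ∧ B = 1 ∧ D = 1 := by
    intro A hA B hB D hD h1 ⟨α, h0⟩ e
    have e0 := congrArg (fun w => act w (E 0)) e
    have e1 := congrArg (fun w => act w (E 1)) e
    simp only [act_mul, act_one, h0, h1, act_smul, hB _ (Or.inl rfl), hB _ (Or.inr rfl)] at e0 e1
    have hα : α ≠ 0 := fun h => by
      rw [h, zero_smul] at e0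
      exact one_ne_zero (α := F) (by simpa [E] using congrFun e0.symm 0)
    have hA0 : act A (E 0) = α⁻¹ • E 0 := by
      rw [← inv_smul_smul₀ hα (act A (E 0)), e0]
    obtain ⟨hα1, hA1⟩ := hdetA A hA _ e1 hA0
    have hD1 := hD α h0 (inv_eq_one.1 hα1)
    subst hA1 hD1
    simp at e
    exact ⟨rfl, e, rfl⟩
  have hNint : ∀ x ∈ N, C.π x = 1 → x = 1 := by
    intro x hx h1
    have hle : Subgroup.zpowers c ≤ Subgroup.normalizer (M : Set Γ) :=
      Subgroup.zpowers_le.2 (mem_normalizer_of_le hcM)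
    rw [← SetLike.mem_coe, Subgroup.coe_mul_of_right_le_normalizer_left _ _ hle] at hx
    obtain ⟨y, hy, z, hz, rfl⟩ := hx
    obtain ⟨i, rfl⟩ := mem_powers_iff_mem_zpowers.2 hz
    obtain ⟨a, ha, b, hb, rfl⟩ := hMel y hy
    rw [map_mul, map_mul, map_pow] at h1
    obtain ⟨eA, eB, eD⟩ : C.π a = 1 ∧ C.π b = 1 ∧ C.π c ^ i = 1 := by
     refine hsplit _ (hNA.π_mem ha) _ (hNB.π_mem hb) _ ?_ ?_ ?_ h1
     · intro α h0 hα
       subst hα
       rw [hpowc, vE] at h0
       have e := congrFun h0 0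
       simp at e
       refine eq_of_act fun x => ?_
       rw [hpowc, act_one]
       funext m
       fin_cases m <;> simp [e]
     · rw [hpowc, vE]; funext m; fin_cases m <;> simp
     · exact ⟨(((g : F)⁻¹) ^ 2) ^ i, by rw [hpowc, vE]; funext m; fin_cases m <;> simp⟩
    dsimp only
    rw [hNA.inter a ha eA, hNB.inter b hb eB, hNC.inter (c ^ i) (pow_mem hcC i) (by rw [map_pow]; exact eD),
      one_mul, one_mul]
  have hcd : Commute dl' c := by
    refine hNC.commute (by rw [hπd]; exact nC) hcC ?_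
    refine eq_of_act fun x => ?_
    rw [hπd, act_mul, act_mul, hπc, hπc, aδ, aδ]
    funext m; fin_cases m <;> simp <;> ring
  have hsc : sl * c * sl⁻¹ = c⁻¹ := by
    have hcr : Commute (C.L r₁) c := by
      refine hNC.commute (by rw [C.π_L]; exact nr1C) hcC ?_
      refine eq_of_act fun x => ?_
      rw [C.π_L, act_mul, act_mul, hπc, hπc, ar1, ar1]
      funext m; fin_cases m <;> simp
    have hz : ∃ z ∈ Subgroup.center Γ, sl = r0l * C.L r₁ * z := by
      refine ⟨(r0l * C.L r₁)⁻¹ * sl, C.div_mem (by rw [hπs, map_mul, hπ0, C.π_L]), by group⟩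
    obtain ⟨z, hz, ez⟩ := hz
    have e1 : sl * c * sl⁻¹ = r0l * c * r0l⁻¹ := by
      rw [ez, show r0l * C.L r₁ * z * c * (r0l * C.L r₁ * z)⁻¹ =
        r0l * (C.L r₁ * (z * c * z⁻¹) * (C.L r₁)⁻¹) * r0l⁻¹ by group,
        ← Subgroup.mem_center_iff.1 hz c, mul_inv_cancel_right, hcr.eq, mul_inv_cancel_right]
    rw [e1]
    refine hNC.unique (mul_mem (mul_mem hr0l hcC) (inv_mem hr0l)) (inv_mem hcC) ?_
    rw [map_mul, map_mul, map_inv, map_inv, hπ0, mul_inv_eq_iff_eq_mul]
    refine eq_of_act fun x => ?_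
    apply act_injective (C.π c)
    rw [← act_mul (C.π c) ((C.π c)⁻¹ * r₀), mul_inv_cancel_left, act_mul, hπc, hπc, ar0, ar0]
    funext m
    fin_cases m <;> simp [hg0]
    all_goals field_simp
  have hTN : ∀ t ∈ ({dl', sl} : Set Γ), ∀ x ∈ N, t * x * t⁻¹ ∈ N := by
    intro t ht
    suffices h : N.map (MulAut.conj t).toMonoidHom ≤ N from fun x hx => h ⟨x, hx, rfl⟩
    rcases ht with ht | ht <;> rw [ht]
    · rw [Subgroup.map_sup, MonoidHom.map_zpowers]
      refine sup_le_sup ?_ (Subgroup.zpowers_le.2 ?_)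
      · rintro _ ⟨y, hy, rfl⟩
        exact hMn _ (by rw [hπd]; exact nA) (by rw [hπd]; exact nB) y hy
      · show dl' * c * dl'⁻¹ ∈ Subgroup.zpowers c
        rw [hcd.eq, mul_inv_cancel_right]; exact Subgroup.mem_zpowers c
    · rw [Subgroup.map_sup, MonoidHom.map_zpowers]
      refine sup_le_sup ?_ (Subgroup.zpowers_le.2 ?_)
      · rw [Subgroup.map_sup]
        refine sup_le ?_ ?_
        · exact le_sup_right
        · rintro _ ⟨_, ⟨y, hy, rfl⟩, rfl⟩
          refine Subgroup.mem_sup_left ?_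
          show sl * (sl * y * sl⁻¹) * sl⁻¹ ∈ NA
          rw [show sl * (sl * y * sl⁻¹) * sl⁻¹ = (sl * sl) * y * (sl * sl)⁻¹ by group]
          exact hNA.conj _ (by rw [map_mul, hπs]; exact nσA) y hy
      · show sl * c * sl⁻¹ ∈ Subgroup.zpowers c
        rw [hsc]; exact inv_mem (Subgroup.mem_zpowers c)
  have hTT : ∀ t ∈ ({dl', sl} : Set Γ), ∀ t' ∈ ({dl', sl} : Set Γ), ⁅t, t'⁆ ∈ N := by
    have hcN : c ∈ N := Subgroup.mem_sup_right (Subgroup.mem_zpowers c)
    rintro t (ht | ht) t' (ht' | ht') <;> rw [ht, ht']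
    · rw [commutatorElement_self]; exact one_mem _
    · rw [← commutatorElement_inv]; exact inv_mem hcN
    · exact hcN
    · rw [commutatorElement_self]; exact one_mem _
  let S : Subgroup (Cfsg.SU 4 F q) := (N ⊔ Subgroup.closure {dl', sl}).map C.π
  have hok : OK C S := ok_of_gens N hNint _ hTN hTT le_rfl
  let H₁ : Subgroup (Cfsg.SU 4 F q) := KA ⊔ KB
  let H₂ : Subgroup (Cfsg.SU 4 F q) := H₁ ⊔ Subgroup.zpowers δ
  let H₃ : Subgroup (Cfsg.SU 4 F q) := H₂ ⊔ Subgroup.zpowers σ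
  have hle : H₃ ≤ S := by
    refine sup_le (sup_le (sup_le ?_ ?_) (Subgroup.zpowers_le.2 ?_)) (Subgroup.zpowers_le.2 ?_)
    · calc KA = NA.map C.π := hNA.map.symm
        _ ≤ S := Subgroup.map_mono (le_trans le_sup_left (le_trans le_sup_left le_sup_left))
    · calc KB = NB.map C.π := hNB.map.symm
        _ ≤ S := Subgroup.map_mono (le_trans le_sup_right (le_trans le_sup_left le_sup_left))
    · exact ⟨dl', Subgroup.mem_sup_right (Subgroup.subset_closure (Or.inl rfl)), hπd⟩
    · exact ⟨sl, Subgroup.mem_sup_right (Subgroup.subset_closure (Or.inr rfl)), hπs⟩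
  have hKcomm : ∀ b ∈ KB, ∀ a ∈ KA, b * a * b⁻¹ ∈ KA := by
    intro b hb a ha
    obtain ⟨x, hx, ex⟩ := hNA.exists_lift ha
    obtain ⟨y, hy, ey⟩ := hNB.exists_lift hb
    rw [← ex, ← ey, ← map_mul, ← (hAB x hx y hy).eq, ← map_inv, ← map_mul, mul_inv_cancel_right]
    exact hNA.π_mem hx
  have hH1 : ∀ x ∈ H₁, ∃ a ∈ KA, ∃ b ∈ KB, x = a * b := by
    intro x hx
    have hle : KB ≤ Subgroup.normalizer (KA : Set (Cfsg.SU 4 F q)) := fun b hb =>
      mem_normalizer_of_le (hKcomm b hb)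
    rw [← SetLike.mem_coe, Subgroup.coe_mul_of_right_le_normalizer_left _ _ hle] at hx
    obtain ⟨a, ha, b, hb, rfl⟩ := hx
    exact ⟨a, ha, b, hb, rfl⟩
  have hδH1 : ∀ x ∈ H₁, δ * x * δ⁻¹ ∈ H₁ := by
    intro x hx
    obtain ⟨a, ha, b, hb, rfl⟩ := hH1 x hx
    rw [show δ * (a * b) * δ⁻¹ = (δ * a * δ⁻¹) * (δ * b * δ⁻¹) by group]
    exact mul_mem (Subgroup.mem_sup_left (nA a ha)) (Subgroup.mem_sup_right (nB b hb))
  have hpd : ∀ i : ℕ, ∀ x, act (δ ^ i) x = ![(g : F) ^ i * x 0, x 1, ((g : F)⁻¹) ^ i * x 2, x 3] := by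
    intro i
    induction i with
    | zero => intro x; rw [pow_zero, act_one]; funext m; fin_cases m <;> simp
    | succ i ih =>
      intro x
      rw [pow_succ, act_mul, ih, aδ]
      funext m; fin_cases m <;> simp [pow_succ] <;> ring
  have hordδ : orderOf δ = q + 1 := by
    rw [← hg]
    refine orderOf_eq_orderOf_iff.2 fun i => ⟨fun e => ?_, fun e => ?_⟩
    · have h := congrFun (hpd i (E 0)) 0
      rw [e, act_one] at h
      simp [E] at h
      exact Units.ext (by simpa using h.symm)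
    · have e' : (g : F) ^ i = 1 := by rw [← Units.val_pow_eq_pow_val, e, Units.val_one]
      refine eq_of_act fun x => ?_
      rw [hpd, act_one]
      funext m; fin_cases m <;> simp [e']
  have hc1 : Nat.card ↥H₁ = Nat.card KA * Nat.card KB := by
    refine card_sup_of_disjoint KA KB hKcomm fun x hxA hxB => ?_
    exact (hdetA x hxA 1 (hxB _ (Or.inr rfl)) (by rw [one_smul]; exact hxB _ (Or.inl rfl))).2
  have hc2 : Nat.card ↥H₂ = Nat.card ↥H₁ * (q + 1) := by
    rw [← hordδ, ← Nat.card_zpowers]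
    refine card_sup_of_disjoint H₁ _ (fun b hb a ha => ?_) fun x hx hxd => ?_
    · obtain ⟨i, rfl⟩ := mem_powers_iff_mem_zpowers.2 hb
      dsimp only
      induction i with
      | zero => simpa using ha
      | succ i ih =>
        rw [show δ ^ (i + 1) * a * (δ ^ (i + 1))⁻¹ = δ * (δ ^ i * a * (δ ^ i)⁻¹) * δ⁻¹ by rw [pow_succ']; group]
        exact hδH1 _ (ih (mem_powers_iff_mem_zpowers.1 ⟨i, rfl⟩))
    · obtain ⟨i, rfl⟩ := mem_powers_iff_mem_zpowers.2 hxd
      obtain ⟨a, ha, b, hb, e⟩ := hH1 _ hx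
      dsimp only at e ⊢
      refine inv_eq_one.1 (hsplit a ha b hb (δ ^ i)⁻¹ ?_ ?_ ?_ (by rw [← e, mul_inv_cancel])).2.2
      · intro α h0 hα
        subst hα
        rw [one_smul] at h0
        have h1 := congrArg (act (δ ^ i)) h0
        rw [act_act_inv, hpd] at h1
        have h2 := congrFun h1 0
        simp [E] at h2
        rw [inv_eq_one]
        refine eq_of_act fun x => ?_
        rw [hpd, act_one]
        funext m; fin_cases m <;> simp [← h2]
      · apply act_injective (δ ^ i)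
        rw [act_act_inv, hpd, vE]; funext m; fin_cases m <;> simp
      · refine ⟨((g : F) ^ i)⁻¹, ?_⟩
        apply act_injective (δ ^ i)
        rw [act_act_inv, act_smul, hpd, vE]
        funext m; fin_cases m <;> simp [hg0]
  have hblock : ∀ x ∈ H₂, act x (E 0) 2 = 0 ∧ act x (E 0) 3 = 0 := by
    intro x hx
    have hle : Subgroup.zpowers δ ≤ Subgroup.normalizer (H₁ : Set (Cfsg.SU 4 F q)) :=
      Subgroup.zpowers_le.2 (mem_normalizer_of_le hδH1)
    rw [← SetLike.mem_coe, Subgroup.coe_mul_of_right_le_normalizer_left _ _ hle] at hx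
    obtain ⟨y, hy, z, hz, rfl⟩ := hx
    obtain ⟨i, rfl⟩ := mem_powers_iff_mem_zpowers.2 hz
    obtain ⟨a, ha, b, hb, rfl⟩ := hH1 y hy
    have e : act (δ ^ i) (E 0) = (g : F) ^ i • E 0 := by
      rw [hpd, vE]; funext m; fin_cases m <;> simp
    dsimp only
    rw [act_mul, e, act_smul, act_mul, hb _ (Or.inl rfl)]
    constructor
    · have h := herm_act hstar a (E 2) (E 0)
      rw [ha _ (Or.inl rfl)] at h
      simp [E, herm_single_left] at h
      simp [E, h]
    · have h := herm_act hstar a (E 3) (E 0)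
      rw [ha _ (Or.inr rfl)] at h
      simp [E, herm_single_left] at h
      simp [E, h]
  have hσH : ∀ x ∈ H₂, σ * x * σ⁻¹ ∈ H₂ := by
    intro x hx
    have hle : H₂.map (MulAut.conj σ).toMonoidHom ≤ H₂ := by
      rw [Subgroup.map_sup, MonoidHom.map_zpowers, Subgroup.map_sup]
      refine sup_le (sup_le ?_ ?_) (Subgroup.zpowers_le.2 ?_)
      · rintro _ ⟨y, hy, rfl⟩
        refine Subgroup.mem_sup_left (Subgroup.mem_sup_right ((hσAB _).2 ?_))
        show σ⁻¹ * (σ * y * σ⁻¹) * σ ∈ KA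
        rw [show σ⁻¹ * (σ * y * σ⁻¹) * σ = y by group]; exact hy
      · rintro _ ⟨y, hy, rfl⟩
        refine Subgroup.mem_sup_left (Subgroup.mem_sup_left ?_)
        have h1 := nσA _ ((hσAB y).1 hy)
        show σ * y * σ⁻¹ ∈ KA
        convert h1 using 1
        group
      · refine Subgroup.mem_sup_right ?_
        show σ * δ * σ⁻¹ ∈ Subgroup.zpowers δ
        rw [show σ * δ * σ⁻¹ = δ⁻¹ by
          rw [mul_inv_eq_iff_eq_mul]
          refine eq_of_act fun x => ?_
          apply act_injective δ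
          rw [← act_mul δ (δ⁻¹ * σ), mul_inv_cancel_left, act_mul, aδ, aδ, aσ, aσ]
          funext m; fin_cases m <;> simp [hg0]]
        exact inv_mem (Subgroup.mem_zpowers δ)
    exact hle ⟨x, hx, rfl⟩
  have hc3 : Nat.card ↥H₃ = 2 * Nat.card ↥H₂ := by
    refine card_sup_two H₂ σ hσH (fun h => ?_) ?_
    · have := (hblock σ h).1
      rw [aσ] at this
      simp [E] at this
    · refine Subgroup.mem_sup_left ?_
      have hfac : σ ^ 2 = (σ ^ 2 : Cfsg.SU 4 F q) := rfl
      let u : Cfsg.SU 4 F q := mono hstar 1 ![(-1 : F), -1, 1, 1]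
      let v : Cfsg.SU 4 F q := mono hstar 1 ![(1 : F), 1, -1, -1]
      have hu : MOk (1 : Equiv.Perm (Fin 4)) ![(-1 : F), -1, 1, 1] :=
        ⟨fun m => by fin_cases m <;> simp, by simp [Fin.prod_univ_four]⟩
      have hv : MOk (1 : Equiv.Perm (Fin 4)) ![(1 : F), 1, -1, -1] :=
        ⟨fun m => by fin_cases m <;> simp, by simp [Fin.prod_univ_four]⟩
      have e : σ ^ 2 = u * v := by
        refine eq_of_act fun x => ?_
        rw [pow_two, act_mul σ σ, act_mul u v, act_mono hu, act_mono hv, aσ, aσ]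
        funext m; fin_cases m <;> simp
      rw [e]
      refine mul_mem (Subgroup.mem_sup_left ?_) (Subgroup.mem_sup_right ?_)
      · rintro w (rfl | rfl) <;> rw [act_mono hu] <;> funext m <;> fin_cases m <;> simp [E]
      · rintro w (rfl | rfl) <;> rw [act_mono hv] <;> funext m <;> fin_cases m <;> simp [E]
  have hcardA : Nat.card KA = q * (2 * j * (2 * j + 2)) := by
    show Nat.card ↥(fixS q {E 2, E 3}) = _
    rw [← hrA, ← Nat.card_congr (MonoidHom.ofInjective hιA).toEquiv, card_SU_two (hstar := hstar) hF hj]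
  have hcardB : Nat.card KB = q * (2 * j * (2 * j + 2)) := by
    show Nat.card ↥(fixS q {E 0, E 1}) = _
    rw [← hrB, ← Nat.card_congr (MonoidHom.ofInjective hιB).toEquiv, card_SU_two (hstar := hstar) hF hj]
  have hcard : Nat.card (Cfsg.SU 4 F q) =
      (q ^ 4 * (4 * j ^ 2 + 2 * j + 1) * (2 * j ^ 2 + 2 * j + 1)) * Nat.card ↥H₃ := by
    rw [hc3, hc2, hc1, hcardA, hcardB]
    have h := card_SU hstar hF (n := 4) (by norm_num)
    simp [Finset.prod_range_succ, Nat.even_iff] at h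
    rw [← Nat.card_eq_fintype_card] at h
    have e : q ^ 2 - 1 = 2 * j * (2 * j + 2) := by
      rw [hj, show (2 * j + 1) ^ 2 = 2 * j * (2 * j + 2) + 1 by ring, Nat.add_sub_cancel]
    have e' : q ^ 4 - 1 = 2 * j * (2 * j + 2) * ((2 * j + 1) ^ 2 + 1) := by
      rw [hj, show (2 * j + 1) ^ 4 = 2 * j * (2 * j + 2) * ((2 * j + 1) ^ 2 + 1) + 1 by ring, Nat.add_sub_cancel]
    rw [e, e'] at h
    refine mul_left_cancel₀ (show q + 1 ≠ 0 by omega) (h.trans ?_)
    rw [hj]; ring
  refine ker_eq_bot_of_ok hΓ hker S (fun hd => ?_) hok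
  have hdvd : S.index ∣ q ^ 4 * (4 * j ^ 2 + 2 * j + 1) * (2 * j ^ 2 + 2 * j + 1) := by
    refine (Subgroup.index_dvd_of_le hle).trans (dvd_of_eq ?_)
    refine Nat.eq_of_mul_eq_mul_right (Nat.card_pos (α := ↥H₃)) ?_
    rw [Subgroup.index_mul_card, hcard]
  have h2 := hd.trans hdvd
  rcases Nat.prime_two.dvd_mul.1 h2 with h2 | h2
  · rcases Nat.prime_two.dvd_mul.1 h2 with h2 | h2
    · have := Nat.prime_two.dvd_of_dvd_pow h2
      omega
    · omega
  · omega

end Cfsg.Agent.Small.UCover
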