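import Cfsg.Agent.Lib.Small.UCover.Step

/-!
The defining characteristic in small dimensions.
-/

set_option autoImplicit false
set_option linter.unusedSectionVars false
set_option linter.style.haveILetI false

namespace Cfsg.Agent.Small.UCover

open Matrix Cfsg.Agent.Small.Unitary Cfsg.Agent.Small.SchurLifts
open scoped commutatorElement

universe u

/-- A subgroup of the order of a Sylow subgroup with a good derived preimage, for every extension. -/
def SylP (n : ℕ) (F : Type u) [Field F] [Fintype F] (q : ℕ) : Prop :=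
  ∀ (Γ : Type u) [Group Γ] [Finite Γ] (C : Central Γ (Cfsg.SU n F q)),
    ∃ S : Subgroup (Cfsg.SU n F q), OK C S ∧ Nat.card S = q ^ (n * (n - 1) / 2)

variable {F : Type u} [Field F] [Fintype F] [StarRing F] {n q : ℕ}
  (hstar : ∀ x : F, star x = x ^ q) (hF : Fintype.card F = q ^ 2)
include hstar hF

theorem rad_ok_of_weights (p : ℕ) [Fact p.Prime] [CharP F p] {μ lam : F} (h : Weights n p μ lam)
    {i j : Fin n} {e f : Fin n → F} (P : Pair i j e f) {k : Fin n} (hki : k ≠ i) (hkj : k ≠ j)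
    {Γ : Type*} [Group Γ] (C : Central Γ (Cfsg.SU n F q)) : OK C (rad hstar P) := by
  obtain ⟨t, hte, -, htW, -⟩ := exists_tor hstar P h.1
  exact ok_rad hF C P p hki hkj hte htW h.1.1 h.1.2.1 h.2.1 h.2.2.1 h.2.2.2

theorem sylP_three (hrad : ∀ {e f : Fin 3 → F} (P : Pair (0 : Fin 3) 1 e f) (Γ : Type u) [Group Γ] [Finite Γ]
    (C : Central Γ (Cfsg.SU 3 F q)), OK C (rad hstar P)) : SylP 3 F q := by
  intro Γ _ _ C
  obtain ⟨e, f, P⟩ := exists_pair hstar hF (show (0 : Fin 3) ≠ 1 by decide)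
  refine ⟨_, hrad P Γ C, ?_⟩
  rw [card_rad hstar hF P]
  ring

theorem sylP_three_weights (p : ℕ) [Fact p.Prime] [CharP F p] {μ lam : F} (h : Weights 3 p μ lam) : SylP 3 F q :=
  sylP_three hstar hF fun P _ _ _ C =>
    rad_ok_of_weights hstar hF p h P (k := 2) (by decide) (by decide) C

theorem sylP_four (p : ℕ) [Fact p.Prime] [CharP F p] {μ lam : F} (h : Weights 4 p μ lam) : SylP 4 F q := by
  intro Γ _ _ C
  obtain ⟨e, f, P⟩ := exists_pair hstar hF (show (0 : Fin 4) ≠ 1 by decide)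
  have hQ : OK C (rad hstar P) := rad_ok_of_weights hstar hF p h P (k := 2) (by decide) (by decide) C
  obtain ⟨g, hge⟩ : ∃ g : Cfsg.SU 4 F q, herm (act g e) e = 0 ∧ herm (act g e) f = 0 := by
    let π : Equiv.Perm (Fin 4) := Equiv.swap 0 2 * Equiv.swap 1 3
    have hok : MOk π (fun _ => (1 : F)) := by
      refine ⟨fun _ => by rw [star_one, one_mul], ?_⟩
      rw [Equiv.Perm.sign_mul, Equiv.Perm.sign_swap (by decide), Equiv.Perm.sign_swap (by decide)]
      simp
    have hz : ∀ x : Fin 4 → F, Supp {0, 1} x → herm (act (mono hstar π fun _ => 1) e) x = 0 := by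
      intro x hx
      rw [act_mono hok]
      have e0 : e (π 0) = 0 := P.supp_e _ (by decide)
      have e1 : e (π 1) = 0 := P.supp_e _ (by decide)
      have x2 : x 2 = 0 := hx _ (by decide)
      have x3 : x 3 = 0 := hx _ (by decide)
      simp [herm, dotProduct, Fin.sum_univ_four, e0, e1, x2, x3]
    exact ⟨_, hz e P.supp_e, hz f P.supp_f⟩
  let Z : Subgroup (Cfsg.SU 4 F q) :=
    Subgroup.closure {x | ∃ u, star u = -u ∧ x = g * zel hstar e u * g⁻¹}
  have hok : OK C Z := by
    refine ok_closure _ ?_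
    rintro _ ⟨u, hu, rfl⟩ _ ⟨v, hv, rfl⟩
    have h := commute_lifts_of_ok_abelian hQ (zel_mem P hu) (zel_mem P hv) (zel_commute P hu (zel_mem P hv))
    refine C.commute_indep (a' := C.L g * C.L (zel hstar e u) * (C.L g)⁻¹)
      (b' := C.L g * C.L (zel hstar e v) * (C.L g)⁻¹) ?_ ?_ ((Commute.conj_iff _).2 h)
    all_goals simp only [map_mul, map_inv, C.π_L]
  have hfix0 : ∀ u, star u = -u → act (g * zel hstar e u * g⁻¹) e = e ∧ act (g * zel hstar e u * g⁻¹) f = f := by
    intro u hu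
    have h' := (EOk_zero_iff P.ee).2 hu
    rw [zel, eich_conj hstar g h', show act g (0 : Fin 4 → F) = 0 from Matrix.mulVec_zero _]
    have hee : herm (act g e) (act g e) = 0 := by rw [herm_act hstar]; exact P.ee
    constructor <;> rw [act_eich_zero hstar hee hu]
    · rw [hge.1, mul_zero, zero_smul, add_zero]
    · rw [hge.2, mul_zero, zero_smul, add_zero]
  have hfix : ∀ x ∈ Z, act x e = e ∧ act x f = f := by
    intro x hx
    induction hx using Subgroup.closure_induction with
    | mem x hx => obtain ⟨u, hu, rfl⟩ := hx; exact hfix0 u hu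
    | one => exact ⟨act_one e, act_one f⟩
    | mul a b _ _ iha ihb =>
      exact ⟨by rw [act_mul, ihb.1, iha.1], by rw [act_mul, ihb.2, iha.2]⟩
    | inv a _ iha =>
      constructor
      · conv_lhs => rw [← iha.1]
        exact act_inv_act a e
      · conv_lhs => rw [← iha.2]
        exact act_inv_act a f
  have hα : star μ * lam ≠ 1 := fun hα => h.2.2.2 0 (by rw [hα]; simp)
  obtain ⟨h1, h2⟩ := ok_step hF C P (k := 2) (by decide) (by decide) h.1 hα hQ Z hok hfix
  refine ⟨_, h1, ?_⟩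
  have hcard : Nat.card Z = q := by
    have hmem : ∀ x, x ∈ Z ↔ ∃ u, star u = -u ∧ x = g * zel hstar e u * g⁻¹ := by
      intro x
      refine ⟨fun hx => ?_, fun hx => Subgroup.subset_closure hx⟩
      induction hx using Subgroup.closure_induction with
      | mem x hx => exact hx
      | one =>
        refine ⟨0, by simp, ?_⟩
        rw [zel, eich_zero_zero hstar P.ee, mul_one, mul_inv_cancel]
      | mul a b _ _ iha ihb =>
        obtain ⟨u, hu, rfl⟩ := iha
        obtain ⟨v, hv, rfl⟩ := ihb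
        exact ⟨u + v, by rw [star_add, hu, hv, neg_add], by rw [← zel_mul P hu hv]; group⟩
      | inv a _ iha =>
        obtain ⟨u, hu, rfl⟩ := iha
        refine ⟨-u, by rw [star_neg, hu], inv_eq_of_mul_eq_one_right ?_⟩
        rw [show g * zel hstar e u * g⁻¹ * (g * zel hstar e (-u) * g⁻¹) =
          g * (zel hstar e u * zel hstar e (-u)) * g⁻¹ by group, zel_mul P hu (by rw [star_neg, hu]),
          add_neg_cancel, zel, eich_zero_zero hstar P.ee, mul_one, mul_inv_cancel]
    let φ : {s : F // star s = -s} → ↥Z := fun u => ⟨_, (hmem _).2 ⟨u.1, u.2, rfl⟩⟩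
    have hφ : Function.Bijective φ := by
      constructor
      · rintro ⟨u, hu⟩ ⟨v, hv⟩ huv
        have h3 := mul_left_cancel (mul_right_cancel (congrArg Subtype.val huv))
        exact Subtype.ext (rad_params (hstar := hstar) P (Submodule.zero_mem _) (Submodule.zero_mem _)
          ((EOk_zero_iff P.ee).2 hu) ((EOk_zero_iff P.ee).2 hv) h3).2
      · rintro ⟨x, hx⟩
        obtain ⟨u, hu, rfl⟩ := (hmem x).1 hx
        exact ⟨⟨u, hu⟩, rfl⟩
    rw [← Nat.card_congr (Equiv.ofBijective φ hφ), card_skew hstar hF]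
  rw [h2, card_rad hstar hF P, hcard]
  ring

theorem sylP_add_two (hn : 3 ≤ n) (hs : SylP n F q) {μ lam : F} (ht : TOk (n + 2) μ lam)
    (hα : star μ * lam ≠ 1)
    (hrad : ∀ {e f : Fin (n + 2) → F} (P : Pair (0 : Fin (n + 2)) 1 e f) (Γ : Type u) [Group Γ] [Finite Γ]
      (C : Central Γ (Cfsg.SU (n + 2) F q)), OK C (rad hstar P)) : SylP (n + 2) F q := by
  intro Γ _ _ C
  obtain ⟨e, f, P⟩ := exists_pair hstar hF (show (0 : Fin (n + 2)) ≠ 1 from Fin.ne_of_val_ne (by simp))
  let ι : Cfsg.SU n F q →* Cfsg.SU (n + 2) F q := (up hstar).comp (up hstar)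
  have hι : Function.Injective ι := (up_injective hstar).comp (up_injective hstar)
  obtain ⟨S, hS, hcard⟩ := hs _ (restr C ι hι)
  obtain ⟨h1, h2⟩ := ok_step hF C P (k := ⟨2, by omega⟩) (Fin.ne_of_val_ne (by simp))
    (Fin.ne_of_val_ne (by simp)) ht hα (hrad P Γ C) (S.map ι) (ok_map C ι hι hS)
    (by rintro _ ⟨g, -, rfl⟩; exact up_two_fix hF P g)
  refine ⟨_, h1, ?_⟩
  rw [h2, card_rad hstar hF P, Nat.card_congr (S.equivMapOfInjective ι hι).symm.toEquiv, hcard, ← pow_mul,
    ← pow_succ, ← pow_add]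
  congr 1
  rw [show (n + 2) * (n + 2 - 1) = n * (n - 1) + 2 * (2 * (n + 2 - 2) + 1) by
    obtain ⟨m, rfl⟩ : ∃ m, n = m + 1 := ⟨n - 1, by omega⟩
    simp only [Nat.add_sub_cancel, show m + 1 + 2 - 1 = m + 2 by omega]
    ring, Nat.add_mul_div_left _ _ two_pos, add_comm]

/-- Dimension three. -/
theorem sylP_three_all (p : ℕ) [Fact p.Prime] [CharP F p] : SylP 3 F q := by
  have hq := Hermitian.q_two_le hF
  rcases Nat.lt_or_ge q 5 with hlt | hge
  · obtain ⟨ν, hν⟩ := exists_primitive hstar hF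
    obtain ⟨p', k, σ, hp', hc, hqk, hk, -⟩ := Classical.exists_usigma hF
    obtain rfl := CharP.eq F hc ‹CharP F p›
    interval_cases q
    · exact sylP_three hstar hF fun P _ _ _ C => ok_rad_two hF C P 2 (by decide) (by decide)
        (fun k m h1 h2 h3 h4 h5 => by fin_cases k <;> fin_cases m <;> simp_all)
    · obtain rfl : p' = 3 :=
        ((Nat.prime_dvd_prime_iff_eq hp' Nat.prime_three).1 (hqk ▸ dvd_pow_self p' hk.ne'))
      exact sylP_three_weights hstar hF 3 (weights_pow hstar hF 3 1 2 3 hν (by decide) (by decide) (by decide)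
        [1, 3] (by decide) (by decide) (by decide) (by decide))
    · obtain rfl : p' = 2 := by
        have h4 : p' ∣ 2 ^ 2 := show p' ∣ 4 from hqk ▸ dvd_pow_self p' hk.ne'
        exact (Nat.prime_dvd_prime_iff_eq hp' Nat.prime_two).1 (hp'.dvd_of_dvd_pow h4)
      exact sylP_three_weights hstar hF 2 (weights_pow hstar hF 2 1 3 3 hν (by decide) (by decide) (by decide)
        [1, 2, 4, 8] (by decide) (by decide) (by decide) (by decide))
  · obtain ⟨μ, h⟩ := weights_large hstar hF p hge 3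
    exact sylP_three_weights hstar hF p h

/-- Dimension four. -/
theorem sylP_four_all (p : ℕ) [Fact p.Prime] [CharP F p] (hq : 4 ≤ q) : SylP 4 F q := by
  rcases Nat.lt_or_ge q 5 with hlt | hge
  · obtain ⟨ν, hν⟩ := exists_primitive hstar hF
    obtain ⟨p', k, σ, hp', hc, hqk, hk, -⟩ := Classical.exists_usigma hF
    obtain rfl := CharP.eq F hc ‹CharP F p›
    obtain rfl : q = 4 := by omega
    obtain rfl : p' = 2 := by
      have h4 : p' ∣ 2 ^ 2 := show p' ∣ 4 from hqk ▸ dvd_pow_self p' hk.ne'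
      exact (Nat.prime_dvd_prime_iff_eq hp' Nat.prime_two).1 (hp'.dvd_of_dvd_pow h4)
    exact sylP_four hstar hF 2 (weights_pow hstar hF 2 2 3 4 hν (by decide) (by decide) (by decide)
      [1, 2, 4, 8] (by decide) (by decide) (by decide) (by decide))
  · obtain ⟨μ, h⟩ := weights_large hstar hF p hge 4
    exact sylP_four hstar hF p h

end Cfsg.Agent.Small.UCover

namespace Cfsg.Agent.Small.UCover

open Matrix Cfsg.Agent.Small.Unitary Cfsg.Agent.Small.SchurLifts

universe v

variable {F : Type v} [Field F] [Fintype F] [StarRing F]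

/-- `SU₅(3)`. -/
theorem sylP_five_three (hstar : ∀ x : F, star x = x ^ 3) (hF : Fintype.card F = 3 ^ 2) : SylP 5 F 3 := by
  obtain ⟨ν, hν⟩ := exists_primitive hstar hF
  obtain ⟨p', k, σ, hp', hc, hqk, hk, -⟩ := Classical.exists_usigma hF
  obtain rfl : p' = 3 :=
    ((Nat.prime_dvd_prime_iff_eq hp' Nat.prime_three).1 (hqk ▸ dvd_pow_self p' hk.ne'))
  haveI := hc
  have h := weights_pow hstar hF 3 1 6 5 hν (by decide) (by decide) (by decide) [1, 3] (by decide) (by decide)
    (by decide) (by decide)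
  exact sylP_add_two (n := 3) hstar hF le_rfl (sylP_three_all hstar hF 3) h.1
    (fun hα => h.2.2.2 0 (by rw [hα]; simp))
    (fun P _ _ _ C => rad_ok_of_weights hstar hF 3 h P (k := 2) (by decide) (by decide) C)

theorem tok_two (hstar : ∀ x : F, star x = x ^ 2) (hF : Fintype.card F = 2 ^ 2) :
    ∃ ω : F, ω ≠ 1 ∧ TOk 5 1 ω ∧ TOk 7 ω (ω ^ 2) := by
  obtain ⟨ν, hν⟩ := exists_primitive hstar hF
  have hp := pow_eq_one_iff hstar hF hν
  have h3 : (ν : F) ^ 3 = 1 := (hp 3).2 (by decide)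
  refine ⟨ν, fun h => ?_, ⟨one_ne_zero, ?_, ?_⟩, ⟨ν.ne_zero, ?_, ?_⟩⟩
  · exact absurd ((hp 1).1 (by rw [pow_one, h])) (by decide)
  · rw [hstar]; linear_combination h3
  · rw [star_one, inv_one, mul_one, mul_one]
    linear_combination ((ν : F) ^ 2) * h3
  · rw [hstar]; linear_combination ((ν : F) ^ 3 + 1) * h3
  · rw [hstar, inv_eq_of_mul_eq_one_right (b := (ν : F)) (by linear_combination h3)]
    linear_combination ((ν : F) ^ 13 + (ν : F) ^ 10 + (ν : F) ^ 7 + (ν : F) ^ 4) * h3

/-- `SU₅(2)`. -/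
theorem sylP_five_two (hstar : ∀ x : F, star x = x ^ 2) (hF : Fintype.card F = 2 ^ 2) : SylP 5 F 2 := by
  haveI : Fact (Nat.Prime 2) := ⟨Nat.prime_two⟩
  haveI := char_two (hstar := hstar) hF
  obtain ⟨ω, hω, h5, -⟩ := tok_two hstar hF
  exact sylP_add_two (n := 3) hstar hF le_rfl (sylP_three_all hstar hF 2) h5 (by rw [star_one, one_mul]; exact hω)
    (fun P _ _ _ C => ok_rad_two hF C P 2 (by decide) (by decide)
      (fun k m h1 h2 h3 h4 h5 => by revert k m; decide))

/-- `SU₇(2)`. -/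
theorem sylP_seven_two (hstar : ∀ x : F, star x = x ^ 2) (hF : Fintype.card F = 2 ^ 2) : SylP 7 F 2 := by
  obtain ⟨ω, hω, -, h7⟩ := tok_two hstar hF
  refine sylP_add_two (n := 5) hstar hF (by norm_num) (sylP_five_two hstar hF) h7 ?_
    (fun P _ _ _ C => ok_rad_two hF C P 2 (by decide) (by decide)
      (fun k m h1 h2 h3 h4 h5 => by revert k m; decide))
  rw [hstar]
  intro h
  refine hω ?_
  have h3 : ω ^ 3 = 1 := cube_eq_one (hstar := hstar) hF h7.1
  linear_combination h - ω * h3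

end Cfsg.Agent.Small.UCover
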