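import Mathlib
import Cfsg.Prelude.Def_KGroupFacts
import Cfsg.Agent.Lib.Small.SchurLifts

/-!
Subgroups over which a central extension splits on derived subgroups, and criteria for this.
-/

set_option autoImplicit false
set_option linter.unusedSectionVars false
set_option linter.style.haveILetI false

namespace Cfsg.Agent.Small.UCover

open Cfsg.Agent.Small.SchurLifts
open scoped commutatorElement

universe u v

variable {Γ G : Type*} [Group Γ] [Group G]

/-- One-sided normalisation suffices in a finite group. -/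
theorem mem_normalizer_of_le {H : Type*} [Group H] [Finite H] {N : Subgroup H} {g : H}
    (h : ∀ x ∈ N, g * x * g⁻¹ ∈ N) : g ∈ Subgroup.normalizer (N : Set H) := by
  refine Subgroup.mem_normalizer_iff.2 fun x => ⟨h x, fun hx => ?_⟩
  have hmap : N.map (MulAut.conj g).toMonoidHom = N := by
    refine Subgroup.eq_of_le_of_card_ge ?_ ?_
    · rintro _ ⟨y, hy, rfl⟩
      exact h y hy
    · rw [Subgroup.card_map_of_injective (MulAut.conj g).injective]
  obtain ⟨y, hy, e⟩ := hmap.ge hx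
  rwa [(MulAut.conj g).injective e] at hy

variable (C : Central Γ G)

/-- The preimage. -/
abbrev pre (S : Subgroup G) : Subgroup Γ := S.comap C.π

/-- The derived group of the preimage. -/
def dl (S : Subgroup G) : Subgroup Γ := ⁅pre C S, pre C S⁆

/-- The derived group of the preimage misses the kernel. -/
def OK (S : Subgroup G) : Prop := ∀ x ∈ dl C S, C.π x = 1 → x = 1

/-- A canonical complement of the kernel over `S`. -/
structure IsSec (S : Subgroup G) (N : Subgroup Γ) : Prop where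
  inter : ∀ x ∈ N, C.π x = 1 → x = 1
  map : N.map C.π = S
  conj : ∀ g, (∀ s ∈ S, C.π g * s * (C.π g)⁻¹ ∈ S) → ∀ x ∈ N, g * x * g⁻¹ ∈ N

theorem dl_mono {S T : Subgroup G} (h : S ≤ T) : dl C S ≤ dl C T :=
  Subgroup.commutator_mono (Subgroup.comap_mono h) (Subgroup.comap_mono h)

theorem map_dl (S : Subgroup G) : (dl C S).map C.π = ⁅S, S⁆ := by
  rw [dl, Subgroup.map_commutator, Subgroup.map_comap_eq_self_of_surjective C.surj]

theorem exists_dl_lift {S : Subgroup G} {g : G} (hg : g ∈ ⁅S, S⁆) : ∃ x ∈ dl C S, C.π x = g := by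
  rw [← map_dl C S] at hg
  obtain ⟨x, hx, e⟩ := hg
  exact ⟨x, hx, e⟩

theorem dl_le_pre (S : Subgroup G) : dl C S ≤ pre C S := Subgroup.commutator_le_self _

theorem dl_conj {S : Subgroup G} {g : Γ} (hg : ∀ s ∈ S, C.π g * s * (C.π g)⁻¹ ∈ S) {x : Γ}
    (hx : x ∈ dl C S) : g * x * g⁻¹ ∈ dl C S := by
  have h : g * x * g⁻¹ ∈ (dl C S).map (MulAut.conj g).toMonoidHom := ⟨x, hx, rfl⟩
  rw [dl, Subgroup.map_commutator] at h
  refine Subgroup.commutator_mono ?_ ?_ h <;>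
  · rintro _ ⟨z, hz, rfl⟩
    show C.π (g * z * g⁻¹) ∈ S
    rw [map_mul, map_mul, map_inv]
    exact hg _ hz

variable {C}

theorem OK.mono {S T : Subgroup G} (h : S ≤ T) (hT : OK C T) : OK C S :=
  fun x hx => hT x (dl_mono C h hx)

theorem OK.unique {S : Subgroup G} (h : OK C S) {x y : Γ} (hx : x ∈ dl C S) (hy : y ∈ dl C S)
    (e : C.π x = C.π y) : x = y :=
  inv_mul_eq_one.1 (h _ (mul_mem (inv_mem hx) hy) (by rw [map_mul, map_inv, e, inv_mul_cancel]))

theorem IsSec.unique {S : Subgroup G} {N : Subgroup Γ} (h : IsSec C S N) {x y : Γ} (hx : x ∈ N) (hy : y ∈ N)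
    (e : C.π x = C.π y) : x = y :=
  inv_mul_eq_one.1 (h.inter _ (mul_mem (inv_mem hx) hy) (by rw [map_mul, map_inv, e, inv_mul_cancel]))

theorem IsSec.exists_lift {S : Subgroup G} {N : Subgroup Γ} (h : IsSec C S N) {s : G} (hs : s ∈ S) :
    ∃ x ∈ N, C.π x = s := by
  obtain ⟨x, hx, e⟩ := h.map.ge hs
  exact ⟨x, hx, e⟩

theorem IsSec.π_mem {S : Subgroup G} {N : Subgroup Γ} (h : IsSec C S N) {x : Γ} (hx : x ∈ N) : C.π x ∈ S :=
  h.map.le ⟨x, hx, rfl⟩

/-- An element normalising `S` and fixing the image fixes the lift. -/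
theorem IsSec.commute {S : Subgroup G} {N : Subgroup Γ} (h : IsSec C S N) {g x : Γ}
    (hg : ∀ s ∈ S, C.π g * s * (C.π g)⁻¹ ∈ S) (hx : x ∈ N) (hc : Commute (C.π g) (C.π x)) : Commute g x := by
  refine mul_inv_eq_iff_eq_mul.1 (h.unique (h.conj g hg x hx) hx ?_)
  rw [map_mul, map_mul, map_inv, hc.eq, mul_inv_cancel_right]

theorem dl_le_of_lifts {S : Subgroup G} {A : Subgroup Γ} (h : S ≤ A.map C.π) : dl C S ≤ ⁅A, A⁆ := by
  refine Subgroup.commutator_le.2 fun x hx y hy => ?_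
  obtain ⟨a, ha, ea⟩ := h hx
  obtain ⟨b, hb, eb⟩ := h hy
  rw [C.comm_indep ea.symm eb.symm]
  exact Subgroup.commutator_mem_commutator ha hb

theorem IsSec.ok {S : Subgroup G} {N : Subgroup Γ} (h : IsSec C S N) : OK C S :=
  fun x hx => h.inter x (Subgroup.commutator_le_self N (dl_le_of_lifts h.map.ge hx))

/-- A subgroup generated modulo `N` by elements which commute modulo `N`. -/
theorem ok_of_gens [Finite Γ] {S : Subgroup G} (N : Subgroup Γ) (hN : ∀ x ∈ N, C.π x = 1 → x = 1)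
    (T : Set Γ) (hTN : ∀ t ∈ T, ∀ x ∈ N, t * x * t⁻¹ ∈ N) (hTT : ∀ t ∈ T, ∀ t' ∈ T, ⁅t, t'⁆ ∈ N)
    (hS : S ≤ (N ⊔ Subgroup.closure T).map C.π) : OK C S := by
  set M := Subgroup.normalizer (N : Set Γ) with hM
  have hTM : T ⊆ M := fun t ht => mem_normalizer_of_le (hTN t ht)
  have hAM : N ⊔ Subgroup.closure T ≤ M := sup_le Subgroup.le_normalizer ((Subgroup.closure_le _).2 hTM)
  have hn : ∀ g ∈ M, ∀ x ∈ N, g * x * g⁻¹ ∈ N := fun g hg x hx => (Subgroup.mem_normalizer_iff.1 hg x).1 hx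
  have hn' : ∀ g ∈ M, ∀ x ∈ N, ⁅g, x⁆ ∈ N := fun g hg x hx => by
    rw [commutatorElement_def]
    exact mul_mem (hn g hg x hx) (inv_mem hx)
  -- for fixed `a` in `M`, the elements of `M` commuting with `a` modulo `N`
  let Z : Γ → Subgroup Γ := fun a =>
    { carrier := {g | g ∈ M ∧ a ∈ M ∧ ⁅a, g⁆ ∈ N} ∪ {g | g ∈ M ∧ a ∉ M}
      one_mem' := by
        by_cases ha : a ∈ M
        · exact Or.inl ⟨one_mem _, ha, by rw [commutatorElement_one_right]; exact one_mem _⟩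
        · exact Or.inr ⟨one_mem _, ha⟩
      mul_mem' := by
        rintro g g' (⟨h1, h2, h3⟩ | ⟨h1, h2⟩) (⟨h1', h2', h3'⟩ | ⟨h1', h2'⟩)
        · refine Or.inl ⟨mul_mem h1 h1', h2, ?_⟩
          rw [show ⁅a, g * g'⁆ = ⁅a, g⁆ * (g * ⁅a, g'⁆ * g⁻¹) by simp only [commutatorElement_def]; group]
          exact mul_mem h3 (hn g h1 _ h3')
        · exact absurd h2 h2'
        · exact absurd h2' h2
        · exact Or.inr ⟨mul_mem h1 h1', h2⟩
      inv_mem' := by
        rintro g (⟨h1, h2, h3⟩ | ⟨h1, h2⟩)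
        · refine Or.inl ⟨inv_mem h1, h2, ?_⟩
          rw [show ⁅a, g⁻¹⁆ = g⁻¹ * (⁅a, g⁆)⁻¹ * g⁻¹⁻¹ by simp only [commutatorElement_def]; group]
          exact hn _ (inv_mem h1) _ (inv_mem h3)
        · exact Or.inr ⟨inv_mem h1, h2⟩ }
  have mk : ∀ a ∈ M, ∀ g ∈ M, ⁅a, g⁆ ∈ N → g ∈ Z a := fun a ha g hg h => Or.inl ⟨hg, ha, h⟩
  have out : ∀ a ∈ M, ∀ g ∈ Z a, ⁅a, g⁆ ∈ N := by
    rintro a ha g (⟨_, _, h⟩ | ⟨_, h⟩)
    · exact h
    · exact absurd ha h
  have s1 : ∀ t ∈ T, N ⊔ Subgroup.closure T ≤ Z t := fun t ht =>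
    sup_le (fun x hx => mk t (hTM ht) x (Subgroup.le_normalizer hx) (hn' t (hTM ht) x hx))
      ((Subgroup.closure_le _).2 fun t' ht' => mk t (hTM ht) t' (hTM ht') (hTT t ht t' ht'))
  have s2 : ∀ a ∈ N ⊔ Subgroup.closure T, N ⊔ Subgroup.closure T ≤ Z a := fun a ha =>
    sup_le (fun x hx => mk a (hAM ha) x (Subgroup.le_normalizer hx) (hn' a (hAM ha) x hx))
      ((Subgroup.closure_le _).2 fun t ht => mk a (hAM ha) t (hTM ht) (by
        rw [← commutatorElement_inv]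
        exact inv_mem (out t (hTM ht) a (s1 t ht ha))))
  intro x hx
  refine hN x (Subgroup.commutator_le.2 (fun a ha b hb => out a (hAM ha) b (s2 a ha hb)) (dl_le_of_lifts hS hx))

/-- A cyclic subgroup. -/
theorem ok_zpowers [Finite Γ] (g : G) : OK C (Subgroup.zpowers g) :=
  ok_of_gens ⊥ (fun x hx _ => Subgroup.mem_bot.1 hx) {C.L g}
    (fun t _ x hx => by rw [Subgroup.mem_bot.1 hx, mul_one, mul_inv_cancel]; exact one_mem _)
    (fun t ht t' ht' => by
      rw [Set.mem_singleton_iff.1 ht, Set.mem_singleton_iff.1 ht', commutatorElement_self]; exact one_mem _)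
    (Subgroup.zpowers_le.2 ⟨C.L g, Subgroup.mem_sup_right (Subgroup.subset_closure rfl), C.π_L g⟩)

/-- A subgroup on whose generators the lifts commute. -/
theorem ok_closure [Finite Γ] (T : Set G) (h : ∀ a ∈ T, ∀ b ∈ T, Commute (C.L a) (C.L b)) :
    OK C (Subgroup.closure T) :=
  ok_of_gens ⊥ (fun x hx _ => Subgroup.mem_bot.1 hx) (C.L '' T)
    (fun t _ x hx => by rw [Subgroup.mem_bot.1 hx, mul_one, mul_inv_cancel]; exact one_mem _)
    (by
      rintro _ ⟨a, ha, rfl⟩ _ ⟨b, hb, rfl⟩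
      rw [commutatorElement_eq_one_iff_mul_comm.2 (h a ha b hb).eq]
      exact one_mem _)
    ((Subgroup.closure_le _).2 fun a ha =>
      ⟨C.L a, Subgroup.mem_sup_right (Subgroup.subset_closure ⟨a, ha, rfl⟩), C.π_L a⟩)

theorem commute_lifts_of_ok_abelian {S : Subgroup G} (h : OK C S) {a b : G} (ha : a ∈ S) (hb : b ∈ S)
    (hab : Commute a b) : Commute (C.L a) (C.L b) := by
  refine commutatorElement_eq_one_iff_mul_comm.1 (h _ (Subgroup.commutator_mem_commutator ?_ ?_) ?_)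
  · show C.π (C.L a) ∈ S
    rwa [C.π_L]
  · show C.π (C.L b) ∈ S
    rwa [C.π_L]
  · rw [map_commutatorElement, C.π_L, C.π_L]
    exact commutatorElement_eq_one_iff_mul_comm.2 hab.eq

/-- An abelian subgroup with commuting lifts extended by one element. -/
theorem ok_abelian_ext [Finite Γ] (T : Subgroup G) (w : G)
    (hT : ∀ a ∈ T, ∀ b ∈ T, Commute (C.L a) (C.L b)) (hw : ∀ a ∈ T, w * a * w⁻¹ ∈ T)
    (hfix : ∀ a ∈ T, Commute a w → Commute (C.L a) (C.L w)) : OK C (T ⊔ Subgroup.zpowers w) := by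
  let A := pre C T
  have hA : ∀ a ∈ A, ∀ b ∈ A, Commute a b := fun a ha b hb =>
    C.commute_indep (C.π_L _).symm (C.π_L _).symm (hT _ ha _ hb)
  have hwA : ∀ a ∈ A, C.L w * a * (C.L w)⁻¹ ∈ A := fun a ha => by
    show C.π _ ∈ T
    rw [map_mul, map_mul, map_inv, C.π_L]
    exact hw _ ha
  have hc : ∀ a ∈ A, ⁅a, C.L w⁆ ∈ A := fun a ha => by
    rw [commutatorElement_def, mul_assoc a, mul_assoc a]
    exact mul_mem ha (hwA _ (inv_mem ha))
  let N : Subgroup Γ :=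
    { carrier := {x | ∃ a ∈ A, ⁅a, C.L w⁆ = x}
      one_mem' := ⟨1, one_mem _, commutatorElement_one_left _⟩
      mul_mem' := by
        rintro _ _ ⟨a, ha, rfl⟩ ⟨b, hb, rfl⟩
        refine ⟨a * b, mul_mem ha hb, ?_⟩
        rw [show ⁅a * b, C.L w⁆ = a * ⁅b, C.L w⁆ * a⁻¹ * ⁅a, C.L w⁆ by simp only [commutatorElement_def]; group,
          (hA a ha _ (hc b hb)).eq, mul_inv_cancel_right, (hA _ (hc b hb) _ (hc a ha)).eq]
      inv_mem' := by
        rintro _ ⟨a, ha, rfl⟩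
        refine ⟨a⁻¹, inv_mem ha, ?_⟩
        rw [show ⁅a⁻¹, C.L w⁆ = a⁻¹ * (⁅a, C.L w⁆)⁻¹ * a by simp only [commutatorElement_def]; group,
          (hA _ (inv_mem ha) _ (inv_mem (hc a ha))).eq, inv_mul_cancel_right] }
  refine ok_of_gens N ?_ ((A : Set Γ) ∪ {C.L w}) ?_ ?_ ?_
  · rintro _ ⟨a, ha, rfl⟩ h1
    rw [map_commutatorElement, C.π_L, commutatorElement_eq_one_iff_mul_comm] at h1
    exact commutatorElement_eq_one_iff_mul_comm.2 (C.commute_indep (C.π_L _).symm rfl (hfix _ ha h1)).eq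
  · rintro t (ht | ht) _ ⟨a, ha, rfl⟩
    · exact ⟨a, ha, by rw [(hA t ht _ (hc a ha)).eq, mul_inv_cancel_right]⟩
    · rw [Set.mem_singleton_iff.1 ht]
      refine ⟨C.L w * a * (C.L w)⁻¹, hwA a ha, ?_⟩
      simp only [commutatorElement_def]; group
  · rintro t (ht | ht) t' (ht' | ht')
    · rw [commutatorElement_eq_one_iff_mul_comm.2 (hA t ht t' ht').eq]; exact one_mem _
    · rw [Set.mem_singleton_iff.1 ht']; exact ⟨t, ht, rfl⟩
    · rw [Set.mem_singleton_iff.1 ht, ← commutatorElement_inv]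
      exact inv_mem ⟨t', ht', rfl⟩
    · rw [Set.mem_singleton_iff.1 ht, Set.mem_singleton_iff.1 ht', commutatorElement_self]; exact one_mem _
  · refine sup_le (fun a ha => ⟨C.L a, Subgroup.mem_sup_right (Subgroup.subset_closure (Or.inl ?_)), C.π_L a⟩)
      (Subgroup.zpowers_le.2 ⟨C.L w, Subgroup.mem_sup_right (Subgroup.subset_closure (Or.inr rfl)), C.π_L w⟩)
    show C.π (C.L a) ∈ T
    rwa [C.π_L]

/-- A unipotent-by-anything semidirect product. -/
theorem ok_semidirect [Finite Γ] (Q U : Subgroup G) (t : G) (hQ : OK C Q) (hU : OK C U)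
    (hUQ : ∀ u ∈ U, ∀ x ∈ Q, u * x * u⁻¹ ∈ Q) (hdis : ∀ x ∈ Q, x ∈ U → x = 1)
    (htQ : ∀ x ∈ Q, t * x * t⁻¹ ∈ Q) (htU : ∀ u ∈ U, Commute t u)
    (hfix : ∀ x ∈ Q, ⁅t, x⁆ ∈ ⁅Q, Q⁆ → x ∈ ⁅Q, Q⁆) : OK C (Q ⊔ U) := by
  let τ := C.L t
  let P := pre C Q
  let D := dl C Q
  have hDP : D ≤ P := dl_le_pre C Q
  have hPD : ∀ x ∈ P, ∀ d ∈ D, x * d * x⁻¹ ∈ D := fun x hx d hd =>
    dl_conj C (fun s hs => mul_mem (mul_mem hx hs) (inv_mem hx)) hd
  have hτP : ∀ x ∈ P, τ * x * τ⁻¹ ∈ P := fun x hx => by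
    show C.π _ ∈ Q
    rw [map_mul, map_mul, map_inv, C.π_L]
    exact htQ _ hx
  have hc : ∀ x ∈ P, ⁅τ, x⁆ ∈ P := fun x hx => by
    rw [commutatorElement_def]
    exact mul_mem (hτP x hx) (inv_mem hx)
  have hmul : ∀ x ∈ P, ∀ y ∈ P, ∃ d ∈ D, ⁅τ, x * y⁆ = ⁅τ, x⁆ * ⁅τ, y⁆ * d := fun x hx y hy =>
    ⟨⁅⁅τ, y⁆⁻¹, x⁆, Subgroup.commutator_mem_commutator (inv_mem (hc y hy)) hx,
      by simp only [commutatorElement_def]; group⟩
  have hswap : ∀ x ∈ P, ∀ d ∈ D, ∃ d' ∈ D, d * x = x * d' := fun x hx d hd =>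
    ⟨x⁻¹ * d * x⁻¹⁻¹, hPD _ (inv_mem hx) d hd, by group⟩
  let Q₁ : Subgroup Γ :=
    { carrier := {y | ∃ x ∈ P, ∃ d ∈ D, y = ⁅τ, x⁆ * d}
      one_mem' := ⟨1, one_mem _, 1, one_mem _, by rw [commutatorElement_one_right, one_mul]⟩
      mul_mem' := by
        rintro _ _ ⟨x, hx, d, hd, rfl⟩ ⟨y, hy, e, he, rfl⟩
        obtain ⟨d', hd', e1⟩ := hswap _ (hc y hy) d hd
        obtain ⟨c, hcD, e2⟩ := hmul x hx y hy
        refine ⟨x * y, mul_mem hx hy, c⁻¹ * d' * e, mul_mem (mul_mem (inv_mem hcD) hd') he, ?_⟩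
        rw [e2, mul_assoc ⁅τ, x⁆ d, ← mul_assoc d, e1]
        group
      inv_mem' := by
        rintro _ ⟨x, hx, d, hd, rfl⟩
        obtain ⟨c, hcD, e2⟩ := hmul x hx x⁻¹ (inv_mem hx)
        rw [mul_inv_cancel, commutatorElement_one_right] at e2
        obtain ⟨d', hd', e1⟩ := hswap _ (inv_mem (hc x hx)) d⁻¹ (inv_mem hd)
        have h4 : ⁅τ, x⁻¹⁆ = ⁅τ, x⁆⁻¹ * c⁻¹ := by
          refine eq_mul_inv_of_mul_eq (eq_inv_of_mul_eq_one_right ?_)
          rw [← mul_assoc, ← e2]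
        exact ⟨x⁻¹, inv_mem hx, c * d', mul_mem hcD hd', by rw [h4, _root_.mul_inv_rev, e1]; group⟩ }
  have hQ1ker : ∀ y ∈ Q₁, C.π y = 1 → y = 1 := by
    rintro _ ⟨x, hx, d, hd, rfl⟩ h1
    refine hQ _ ?_ h1
    have hdd : C.π d ∈ ⁅Q, Q⁆ := map_dl C Q ▸ ⟨d, hd, rfl⟩
    have hxx : C.π x ∈ ⁅Q, Q⁆ := hfix _ hx (by
      rw [map_mul, map_commutatorElement, C.π_L] at h1
      rw [eq_inv_of_mul_eq_one_left h1]
      exact inv_mem hdd)
    obtain ⟨x', hx', e⟩ := exists_dl_lift C hxx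
    refine mul_mem ?_ hd
    rw [C.comm_right τ e.symm, commutatorElement_def]
    exact mul_mem (dl_conj C (fun s hs => by rw [C.π_L]; exact htQ s hs) hx') (inv_mem hx')
  have hQ1surj : ∀ g ∈ Q, ∃ y ∈ Q₁, C.π y = g := by
    haveI : Finite G := Finite.of_surjective _ C.surj
    set D0 := (⁅Q, Q⁆).subgroupOf Q with hD0
    haveI : D0.Normal := ⟨fun n hn g => by
      rw [Subgroup.mem_subgroupOf] at hn ⊢
      obtain ⟨z, hz, e⟩ := exists_dl_lift C hn
      rw [← map_dl C _]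
      refine ⟨C.L g.1 * z * (C.L g.1)⁻¹, hPD _ (show C.π (C.L g.1) ∈ Q by rw [C.π_L]; exact g.2) z hz, ?_⟩
      simp [e, C.π_L]⟩
    let f : ↥Q ⧸ D0 →* ↥Q ⧸ D0 := QuotientGroup.lift D0
      { toFun := fun x => QuotientGroup.mk (⟨⁅t, x.1⁆, by
          rw [commutatorElement_def]; exact mul_mem (htQ _ x.2) (inv_mem x.2)⟩ : ↥Q)
        map_one' := by rw [QuotientGroup.eq_one_iff, Subgroup.mem_subgroupOf]; simp
        map_mul' := fun x y => by
          rw [← QuotientGroup.mk_mul, QuotientGroup.eq, Subgroup.mem_subgroupOf]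
          show (⁅t, x.1 * y.1⁆)⁻¹ * (⁅t, x.1⁆ * ⁅t, y.1⁆) ∈ ⁅Q, Q⁆
          rw [show (⁅t, x.1 * y.1⁆)⁻¹ * (⁅t, x.1⁆ * ⁅t, y.1⁆) = ⁅x.1, ⁅t, y.1⁆⁻¹⁆ by
            simp only [commutatorElement_def]; group]
          exact Subgroup.commutator_mem_commutator x.2 (inv_mem (by
            rw [commutatorElement_def]; exact mul_mem (htQ _ y.2) (inv_mem y.2))) }
      fun x hx => by
        rw [MonoidHom.mem_ker]
        show QuotientGroup.mk _ = (1 : ↥Q ⧸ D0)
        rw [QuotientGroup.eq_one_iff, Subgroup.mem_subgroupOf] at *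
        show ⁅t, x.1⁆ ∈ ⁅Q, Q⁆
        obtain ⟨z, hz, e⟩ := exists_dl_lift C (Subgroup.mem_subgroupOf.1 hx)
        rw [← map_dl C _]
        refine ⟨⁅τ, z⁆, ?_, by rw [map_commutatorElement, C.π_L, e]⟩
        rw [commutatorElement_def]
        exact mul_mem (dl_conj C (fun s hs => by rw [C.π_L]; exact htQ s hs) hz) (inv_mem hz)
    have hf : Function.Injective f := by
      rw [injective_iff_map_eq_one]
      intro a
      induction a using QuotientGroup.induction_on with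
      | H x =>
        intro hx
        rw [QuotientGroup.eq_one_iff, Subgroup.mem_subgroupOf]
        exact hfix _ x.2 (Subgroup.mem_subgroupOf.1 ((QuotientGroup.eq_one_iff _).1 hx))
    intro g hg
    obtain ⟨a, ha⟩ := Finite.injective_iff_surjective.1 hf (QuotientGroup.mk ⟨g, hg⟩)
    induction a using QuotientGroup.induction_on with
    | H x =>
      have h2 : ⁅t, x.1⁆⁻¹ * g ∈ ⁅Q, Q⁆ := Subgroup.mem_subgroupOf.1 (QuotientGroup.eq.1 ha)
      obtain ⟨d, hd, e⟩ := exists_dl_lift C h2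
      exact ⟨⁅τ, C.L x.1⁆ * d, ⟨_, show C.π (C.L x.1) ∈ Q by rw [C.π_L]; exact x.2, d, hd, rfl⟩,
        by rw [map_mul, map_commutatorElement, C.π_L, C.π_L, e, mul_inv_cancel_left]⟩
  have hconj : ∀ u ∈ pre C U, ∀ y ∈ Q₁, u * y * u⁻¹ ∈ Q₁ := by
    rintro u hu _ ⟨x, hx, d, hd, rfl⟩
    refine ⟨u * x * u⁻¹, ?_, u * d * u⁻¹, dl_conj C (hUQ _ hu) hd, ?_⟩
    · show C.π _ ∈ Q
      rw [map_mul, map_mul, map_inv]
      exact hUQ _ hu _ hx
    · have e : u * ⁅τ, x⁆ * u⁻¹ = ⁅τ, u * x * u⁻¹⁆ := C.conj_comm (by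
        rw [map_mul, map_mul, map_inv, C.π_L, ← (htU _ hu).eq, mul_inv_cancel_right]) rfl
      rw [← e]; group
  let W : Subgroup Γ := Q₁ ⊔ dl C U
  have hW : ∀ y ∈ W, ∃ a ∈ Q₁, ∃ b ∈ dl C U, y = a * b := by
    intro y hy
    have hle : dl C U ≤ Subgroup.normalizer (Q₁ : Set Γ) := fun b hb =>
      mem_normalizer_of_le (hconj b (dl_le_pre C U hb))
    obtain ⟨a, ha, b, hb, e⟩ := Set.mem_mul.1
      ((Subgroup.coe_mul_of_right_le_normalizer_left Q₁ (dl C U) hle) ▸ (show y ∈ ((Q₁ ⊔ dl C U : Subgroup Γ) : Set Γ) from hy))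
    exact ⟨a, ha, b, hb, e.symm⟩
  refine ok_of_gens W ?_ (pre C U) ?_ ?_ ?_
  · intro y hy h1
    obtain ⟨a, ha, b, hb, rfl⟩ := hW y hy
    rw [map_mul] at h1
    have haQ : C.π a ∈ Q := by
      obtain ⟨x, hx, d, hd, rfl⟩ := ha
      exact mul_mem (hc x hx) (hDP hd)
    have hb1 : C.π a = 1 := hdis _ haQ (by
      rw [eq_inv_of_mul_eq_one_left h1]; exact inv_mem (dl_le_pre C U hb))
    rw [hb1, one_mul] at h1
    rw [hQ1ker a ha hb1, hU b hb h1, one_mul]
  · intro u hu y hy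
    obtain ⟨a, ha, b, hb, rfl⟩ := hW y hy
    rw [show u * (a * b) * u⁻¹ = u * a * u⁻¹ * (u * b * u⁻¹) by group]
    exact mul_mem (Subgroup.mem_sup_left (hconj u hu a ha))
      (Subgroup.mem_sup_right (dl_conj C (fun s hs => mul_mem (mul_mem hu hs) (inv_mem hu)) hb))
  · exact fun u hu u' hu' => Subgroup.mem_sup_right (Subgroup.commutator_mem_commutator hu hu')
  · refine sup_le (fun g hg => ?_) (fun g hg => ?_)
    · obtain ⟨y, hy, e⟩ := hQ1surj g hg
      exact ⟨y, Subgroup.mem_sup_left (Subgroup.mem_sup_left hy), e⟩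
    · exact ⟨C.L g, Subgroup.mem_sup_right (Subgroup.subset_closure (show C.π (C.L g) ∈ U by rwa [C.π_L])),
        C.π_L g⟩

/-- Transfer. -/
theorem ker_eq_bot_of_ok [Finite Γ] {r : ℕ} [Fact r.Prime] (hΓ : commutator Γ = ⊤)
    (hker : ∀ k : Γ, C.π k = 1 → ∃ e, k ^ r ^ e = 1) (S : Subgroup G) (hidx : ¬ r ∣ S.index) (hS : OK C S) :
    C.π.ker = ⊥ := by
  rw [Subgroup.eq_bot_iff_forall]
  intro k hk
  have hk1 : C.π k = 1 := hk
  haveI : (pre C S).FiniteIndex := inferInstance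
  have ht := MonoidHom.transfer_eq_pow (Abelianization.of (G := ↥(pre C S))) k (fun i g _ => by
    rw [mul_assoc, ← (Commute.pow_right (show Commute g k from Subgroup.mem_center_iff.1 (C.central hk) g) i).eq,
      inv_mul_cancel_left])
  have hker' : k ∈ (MonoidHom.transfer (Abelianization.of (G := ↥(pre C S)))).ker :=
    Abelianization.commutator_subset_ker _ (hΓ ▸ Subgroup.mem_top k)
  rw [MonoidHom.mem_ker, ht] at hker'
  have hmem := (QuotientGroup.eq_one_iff _).mp hker'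
  have h2 : k ^ (pre C S).index ∈ dl C S := by
    rw [dl, ← Subgroup.map_subtype_commutator]
    exact ⟨_, hmem, rfl⟩
  have h3 : k ^ (pre C S).index = 1 := hS _ h2 (by rw [map_pow, hk1, one_pow])
  obtain ⟨e, he⟩ := hker k hk1
  rw [Subgroup.index_comap_of_surjective _ C.surj] at h3
  have hco : Nat.Coprime (r ^ e) S.index :=
    (((Fact.out : r.Prime).coprime_iff_not_dvd).2 hidx).pow_left e
  have h := Nat.dvd_gcd (orderOf_dvd_of_pow_eq_one he) (orderOf_dvd_of_pow_eq_one h3)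
  rw [hco.gcd_eq_one, Nat.dvd_one, orderOf_eq_one_iff] at h
  exact h

omit [Group Γ] in
/-- Prime by prime. -/
theorem ker_eq_bot_of_primes {Γ : Type u} [Group Γ] [Finite Γ] (C : Central Γ G) (hΓ : commutator Γ = ⊤)
    (h : ∀ (r : ℕ), r.Prime → ∀ (Δ : Type u) [Group Δ] [Finite Δ] (C' : Central Δ G), commutator Δ = ⊤ →
      (∀ k : Δ, C'.π k = 1 → ∃ e, k ^ r ^ e = 1) → C'.π.ker = ⊥) : C.π.ker = ⊥ := by
  by_contra hne
  have h1 : Nat.card C.π.ker ≠ 1 := fun e => hne (Subgroup.eq_bot_of_card_eq _ e)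
  obtain ⟨r, hr, hdvd⟩ := Nat.exists_prime_and_dvd h1
  haveI := Fact.mk hr
  obtain ⟨z, hz⟩ := exists_prime_orderOf_dvd_card' r hdvd
  have hcc : ∀ k, C.π k = 1 → ∀ g : Γ, Commute g k := fun k hk g => Subgroup.mem_center_iff.1 (C.central hk) g
  let M : Subgroup Γ :=
    { carrier := {k | C.π k = 1 ∧ ∃ m, ¬ r ∣ m ∧ k ^ m = 1}
      one_mem' := ⟨map_one _, 1, hr.not_dvd_one, one_pow _⟩
      mul_mem' := by
        rintro a b ⟨ha, m, hm, ea⟩ ⟨hb, n, hn, eb⟩
        refine ⟨by rw [map_mul, ha, hb, one_mul], m * n, fun h => (hr.dvd_mul.1 h).elim hm hn, ?_⟩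
        rw [(hcc b hb a).mul_pow, pow_mul, ea, one_pow, one_mul, mul_comm, pow_mul, eb, one_pow]
      inv_mem' := by
        rintro a ⟨ha, m, hm, ea⟩
        exact ⟨by rw [map_inv, ha, inv_one], m, hm, by rw [inv_pow, ea, inv_one]⟩ }
  haveI : M.Normal := ⟨fun k hk g => by rwa [(hcc k hk.1 g).eq, mul_inv_cancel_right]⟩
  let C' : Central (Γ ⧸ M) G :=
    ⟨QuotientGroup.lift M C.π (fun k hk => hk.1), QuotientGroup.lift_surjective_of_surjective _ _ C.surj _,
      fun a ha => by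
        induction a using QuotientGroup.induction_on with
        | H x =>
          refine Subgroup.mem_center_iff.2 fun b => ?_
          induction b using QuotientGroup.induction_on with
          | H y => rw [← QuotientGroup.mk_mul, ← QuotientGroup.mk_mul, (hcc x ha y).eq]⟩
  have hperf : commutator (Γ ⧸ M) = ⊤ := by
    rw [commutator_def, ← Subgroup.map_top_of_surjective (QuotientGroup.mk' M) (QuotientGroup.mk'_surjective M),
      ← Subgroup.map_commutator, ← commutator_def, hΓ]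
  have hrk : ∀ k, C'.π k = 1 → ∃ e, k ^ r ^ e = 1 := by
    intro a ha
    induction a using QuotientGroup.induction_on with
    | H x =>
      obtain ⟨e, m, hm, he⟩ := Nat.exists_eq_pow_mul_and_not_dvd (orderOf_pos x).ne' r hr.ne_one
      refine ⟨e, ?_⟩
      rw [← QuotientGroup.mk_pow, QuotientGroup.eq_one_iff]
      exact ⟨by rw [map_pow, show C.π x = 1 from ha, one_pow], m, hm, by rw [← pow_mul, ← he, pow_orderOf_eq_one]⟩
  have hb := h r hr (Γ ⧸ M) C' hperf hrk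
  obtain ⟨-, m, hm, em⟩ : z.1 ∈ M := by
    rw [← QuotientGroup.eq_one_iff, ← Subgroup.mem_bot, ← hb]
    exact z.2
  refine hm (hz ▸ ?_)
  rw [← Subgroup.orderOf_coe]
  exact orderOf_dvd_of_pow_eq_one em

/-- A complement from a known multiplier. -/
theorem exists_isSec {Γ G : Type u} [Group Γ] [Group G] [Finite Γ] {C : Central Γ G} {r : ℕ} [Fact r.Prime]
    (hker : ∀ k : Γ, C.π k = 1 → ∃ e, k ^ r ^ e = 1) (S : Subgroup G)
    (hS : S ≤ ⁅S, S⁆ ⊔ Subgroup.closure {s | s ∈ S ∧ ¬ r ∣ orderOf s})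
    {A : Type v} [CommGroup A] (hM : Cfsg.HasSchurMultiplier ↥S A) {m : ℕ} (hm : ¬ r ∣ m)
    (hA : ∀ a : A, a ^ m = 1) : ∃ N, IsSec C S N := by
  classical
  have hr := (Fact.out : r.Prime)
  let T : Set Γ := {x | x ∈ pre C S ∧ ¬ r ∣ orderOf x}
  let N : Subgroup Γ := dl C S ⊔ Subgroup.closure T
  have hNp : N ≤ pre C S := sup_le (dl_le_pre C S) ((Subgroup.closure_le _).2 fun x hx => hx.1)
  have hNS : S ≤ N.map C.π := by
    refine hS.trans (sup_le ?_ ((Subgroup.closure_le _).2 ?_))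
    · rw [← map_dl C _]; exact Subgroup.map_mono le_sup_left
    rintro s ⟨hs, ho⟩
    obtain ⟨e, he⟩ := hker (C.L s ^ orderOf s) (by rw [map_pow, C.π_L, pow_orderOf_eq_one])
    have hy : C.L s ^ r ^ e ∈ N := by
      refine Subgroup.mem_sup_right (Subgroup.subset_closure ⟨?_, fun hd => ho (hd.trans ?_)⟩)
      · exact pow_mem (show C.L s ∈ pre C S by show C.π (C.L s) ∈ S; rwa [C.π_L]) _
      · exact orderOf_dvd_of_pow_eq_one (by rw [← pow_mul, mul_comm, pow_mul, he])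
    obtain ⟨k, hk⟩ := exists_pow_eq_self_of_coprime (G := G) (x := s) (n := r ^ e)
      ((hr.coprime_iff_not_dvd.2 ho).pow_left e)
    exact ⟨(C.L s ^ r ^ e) ^ k, pow_mem hy k, by rw [map_pow, map_pow, C.π_L, hk]⟩
  have hdl : dl C S ≤ ⁅N, N⁆ := dl_le_of_lifts hNS
  let σ : ↥N →* ↥S := (C.π.comp N.subtype).codRestrict S fun x => hNp x.2
  have hσs : Function.Surjective σ := fun s => by
    obtain ⟨x, hx, e⟩ := hNS s.2
    exact ⟨⟨x, hx⟩, Subtype.ext e⟩
  have hker1 : ∀ x : ↥N, σ x = 1 ↔ C.π x.1 = 1 := fun x =>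
    ⟨fun e => congrArg Subtype.val e, fun e => Subtype.ext e⟩
  let f := Abelianization.of (G := ↥(pre C S))
  let B : Subgroup (Abelianization ↥(pre C S)) :=
    { carrier := {a | ∃ m, ¬ r ∣ m ∧ a ^ m = 1}
      one_mem' := ⟨1, hr.not_dvd_one, one_pow _⟩
      mul_mem' := by
        rintro a b ⟨m, hm, ea⟩ ⟨n, hn, eb⟩
        refine ⟨m * n, fun h => (hr.dvd_mul.1 h).elim hm hn, ?_⟩
        rw [mul_pow, pow_mul, ea, one_pow, one_mul, mul_comm, pow_mul, eb, one_pow]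
      inv_mem' := by
        rintro a ⟨m, hm, ea⟩
        exact ⟨m, hm, by rw [inv_pow, ea, inv_one]⟩ }
  have hfd : ∀ x : ↥(pre C S), f x = 1 → x.1 ∈ dl C S := fun x hx => by
    rw [dl, ← Subgroup.map_subtype_commutator]
    exact ⟨x, (QuotientGroup.eq_one_iff _).mp hx, rfl⟩
  have hNB : N ≤ (B.comap f).map (pre C S).subtype := by
    refine sup_le (fun x hx => ⟨⟨x, dl_le_pre C S hx⟩, ⟨1, hr.not_dvd_one, ?_⟩, rfl⟩)
      ((Subgroup.closure_le _).2 fun x hx => ⟨⟨x, hx.1⟩, ⟨orderOf x, hx.2, ?_⟩, rfl⟩)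
    · rw [pow_one]
      refine Abelianization.commutator_subset_ker _ ?_
      rw [dl, ← Subgroup.map_subtype_commutator] at hx
      obtain ⟨y, hy, rfl⟩ := hx
      exact hy
    · rw [← map_pow]
      exact (congrArg f (Subtype.ext (pow_orderOf_eq_one x))).trans (map_one f)
  have hst : Cfsg.IsStemExtension σ := by
    refine ⟨hσs, fun x hx => ?_, fun x hx => ?_⟩
    · exact Subgroup.mem_center_iff.2 fun y =>
        Subtype.ext (Subgroup.mem_center_iff.1 (C.central ((hker1 x).1 hx)) y.1)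
    · have h1 := (hker1 x).1 hx
      obtain ⟨y, ⟨m', hm', em⟩, hy⟩ := hNB x.2
      have h2 : x.1 ^ m' ∈ dl C S := by
        have := hfd (y ^ m') (by rw [map_pow]; exact em)
        rwa [Subgroup.coe_pow, show y.1 = x.1 from hy] at this
      obtain ⟨e, he⟩ := hker x.1 h1
      obtain ⟨k, hk⟩ := exists_pow_eq_self_of_coprime (G := Γ) (x := x.1) (n := m')
        (Nat.Coprime.coprime_dvd_right (orderOf_dvd_of_pow_eq_one he)
          ((hr.coprime_iff_not_dvd.2 hm').symm.pow_right e))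
      have h3 : x.1 ∈ dl C S := hk ▸ pow_mem h2 k
      rw [commutator_def]
      have h4 := hdl h3
      rw [← Subgroup.map_subtype_commutator, commutator_def] at h4
      obtain ⟨y', hy', e'⟩ := h4
      rwa [← show y' = x from Subtype.ext e']
  obtain ⟨π', hπ'⟩ := hM.2 ↥N σ hst
  refine ⟨N, ⟨fun x hx h1 => ?_, le_antisymm (fun s hs => ?_) hNS, ?_⟩⟩
  · obtain ⟨a, ha⟩ := hπ' ⟨⟨x, hx⟩, (hker1 ⟨x, hx⟩).2 h1⟩
    have h2 : x ^ m = 1 := by
      have := congrArg (fun z : ↥σ.ker => z.1.1) (show π' a ^ m = 1 by rw [← map_pow, hA, map_one])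
      rw [ha] at this
      simpa using this
    obtain ⟨e, he⟩ := hker x h1
    have h := Nat.dvd_gcd (orderOf_dvd_of_pow_eq_one h2) (orderOf_dvd_of_pow_eq_one he)
    rw [((hr.coprime_iff_not_dvd.2 hm).symm.pow_right e).gcd_eq_one, Nat.dvd_one, orderOf_eq_one_iff] at h
    exact h
  · obtain ⟨x, hx, rfl⟩ := hs
    exact hNp hx
  · intro g hg x hx
    have hle : N.map (MulAut.conj g).toMonoidHom ≤ N := by
      rw [Subgroup.map_sup]
      refine sup_le_sup (fun y hy => ?_) ?_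
      · obtain ⟨z, hz, rfl⟩ := hy
        exact dl_conj C hg hz
      · rw [MonoidHom.map_closure]
        refine Subgroup.closure_mono ?_
        rintro _ ⟨z, ⟨hz, ho⟩, rfl⟩
        refine ⟨?_, ?_⟩
        · show C.π (g * z * g⁻¹) ∈ S
          rw [map_mul, map_mul, map_inv]
          exact hg _ hz
        · rwa [show orderOf ((MulAut.conj g).toMonoidHom z) = orderOf z from MulEquiv.orderOf_eq (MulAut.conj g) z]
    exact hle ⟨x, hx, rfl⟩

/-- Biadditive maps invariant under two scalars which are not inverse Galois conjugates vanish. -/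
theorem bil_eq_one {F : Type*} [Field F] [Fintype F] (p : ℕ) [Fact p.Prime] [CharP F p]
    {V W : Type*} [AddCommGroup V] [Module F V] [AddCommGroup W] [Module F W] {A : Type*} [CommGroup A]
    (B : V → W → A) (hl : ∀ v v' w, B (v + v') w = B v w * B v' w) (hr : ∀ v w w', B v (w + w') = B v w * B v w')
    (a b : F) (hinv : ∀ v w, B (a • v) (b • w) = B v w) (hne : ∀ i : ℕ, a ^ p ^ i * b ≠ 1) (v : V) (w : W) :
    B v w = 1 := by
  have h0r : ∀ v, B v 0 = 1 := fun v => by have := hr v 0 0; rwa [add_zero, left_eq_mul] at this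
  have h0l : ∀ w, B 0 w = 1 := fun w => by have := hl 0 0 w; rwa [add_zero, left_eq_mul] at this
  rcases eq_or_ne b 0 with rfl | hb
  · rw [← hinv, zero_smul, h0r]
  letI : Algebra (ZMod p) F := ZMod.algebra F p
  let R : F → F → Prop := fun x y => ∀ v w, B (x • v) w = B v (y • w)
  have hnegl : ∀ v w, B (-v) w = (B v w)⁻¹ := fun v w => eq_inv_of_mul_eq_one_left (by rw [← hl, neg_add_cancel, h0l])
  have hnegr : ∀ v w, B v (-w) = (B v w)⁻¹ := fun v w => eq_inv_of_mul_eq_one_left (by rw [← hr, neg_add_cancel, h0r])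
  have hadd : ∀ x y x' y', R x y → R x' y' → R (x + x') (y + y') := fun x y x' y' h h' v w => by
    rw [add_smul, add_smul, hl, hr, h, h']
  have hmul : ∀ x y x' y', R x y → R x' y' → R (x * x') (y * y') := fun x y x' y' h h' v w => by
    rw [mul_smul, h, h', smul_smul, mul_comm y' y]
  have hnat : ∀ k : ℕ, R (k : F) (k : F) := by
    intro k
    induction k with
    | zero => intro v w; rw [Nat.cast_zero, zero_smul, zero_smul, h0l, h0r]
    | succ k ih => push_cast; exact hadd _ _ _ _ ih fun v w => by rw [one_smul, one_smul]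
  have hgen : R a b⁻¹ := fun v w => by
    conv_rhs => rw [← hinv]
    rw [smul_smul, mul_inv_cancel₀ hb, one_smul]
  have hpoly : ∀ f : Polynomial (ZMod p), R (Polynomial.aeval a f) (Polynomial.aeval b⁻¹ f) := by
    intro f
    induction f using Polynomial.induction_on with
    | C c =>
      obtain ⟨k, rfl⟩ := ZMod.natCast_zmod_surjective c
      rw [Polynomial.aeval_C, Polynomial.aeval_C, map_natCast]
      exact hnat k
    | add f g hf hg => rw [map_add, map_add]; exact hadd _ _ _ _ hf hg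
    | monomial k c ih =>
      rw [pow_succ, ← mul_assoc, map_mul, map_mul _ _ Polynomial.X, Polynomial.aeval_X, Polynomial.aeval_X]
      exact hmul _ _ _ _ ih hgen
  have hroot : Polynomial.aeval b⁻¹ (minpoly (ZMod p) a) ≠ 0 := by
    intro h0
    have hint : IsIntegral (ZMod p) a := IsIntegral.of_finite (ZMod p) a
    have hconj : IsConjRoot (ZMod p) a b⁻¹ :=
      minpoly.eq_of_irreducible_of_monic (minpoly.irreducible hint) h0 (minpoly.monic hint)
    obtain ⟨σ, hσ⟩ := (Normal.minpoly_eq_iff_mem_orbit (E := F) (F := ZMod p)).1 hconj.symm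
    obtain ⟨i, hi⟩ := (FiniteField.bijective_frobeniusAlgEquivOfAlgebraic_pow (ZMod p) F).2 σ
    refine hne i.1 ?_
    have e : a ^ p ^ i.1 = b⁻¹ := by
      rw [← hσ, ← hi]
      simp [FiniteField.coe_frobeniusAlgEquivOfAlgebraic, AlgEquiv.coe_pow, pow_iterate, ZMod.card]
    rw [e, inv_mul_cancel₀ hb]
  have hk := hpoly (minpoly (ZMod p) a) v ((Polynomial.aeval b⁻¹ (minpoly (ZMod p) a))⁻¹ • w)
  rw [minpoly.aeval, zero_smul, h0l, smul_smul, mul_inv_cancel₀ hroot, one_smul] at hk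
  exact hk.symm

end Cfsg.Agent.Small.UCover
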