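import Cfsg.Agent.Lib.Small.UCover.Elements

/-!
The unipotent radical of the stabiliser of an isotropic vector in central extensions of `SU_n(q)`.
-/

set_option autoImplicit false
set_option linter.unusedSectionVars false
set_option linter.style.haveILetI false

namespace Cfsg.Agent.Small.UCover

open Matrix Cfsg.Agent.Small.Unitary Cfsg.Agent.Small.SchurLifts
open scoped commutatorElement

variable {F : Type*} [Field F] [Fintype F] [StarRing F] {n q : ℕ}
  {hstar : ∀ x : F, star x = x ^ q} {i j : Fin n} {e f : Fin n → F}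

/-- The radical. -/
def rad (hstar : ∀ x : F, star x = x ^ q) (P : Pair i j e f) : Subgroup (Cfsg.SU n F q) where
  carrier := {g | ∃ z a, z ∈ Wsub i j ∧ EOk e z a ∧ g = eich hstar e z a}
  one_mem' := ⟨0, 0, Submodule.zero_mem _, (EOk_zero_iff P.ee).2 (by simp), (eich_zero_zero hstar P.ee).symm⟩
  mul_mem' := by
    rintro _ _ ⟨z, a, hz, h, rfl⟩ ⟨w, b, hw, h', rfl⟩
    exact ⟨_, _, Submodule.add_mem _ hz hw, h.add h', eich_mul hstar h h'⟩
  inv_mem' := by
    rintro _ ⟨z, a, hz, h, rfl⟩
    have h2 : EOk e (-z) (star a) := by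
      refine ⟨P.ee, by rw [← neg_one_smul F z, herm_smul_right, h.2.1, mul_zero], ?_⟩
      rw [star_star, ← neg_one_smul F z, herm_smul_left, herm_smul_right, star_neg, star_one]
      linear_combination h.2.2
    refine ⟨-z, star a, Submodule.neg_mem _ hz, h2, ?_⟩
    refine inv_eq_of_mul_eq_one_right ?_
    rw [eich_mul hstar h h2, add_neg_cancel]
    convert eich_zero_zero hstar P.ee using 2
    rw [← neg_one_smul F z, herm_smul_right]
    linear_combination h.2.2

/-- The centre of the radical. -/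
noncomputable def zel (hstar : ∀ x : F, star x = x ^ q) (e : Fin n → F) (u : F) : Cfsg.SU n F q :=
  eich hstar e 0 u

theorem zel_mem (P : Pair i j e f) {u : F} (hu : star u = -u) : zel hstar e u ∈ rad hstar P :=
  ⟨0, u, Submodule.zero_mem _, (EOk_zero_iff P.ee).2 hu, rfl⟩

theorem zel_mul (P : Pair i j e f) {u v : F} (hu : star u = -u) (hv : star v = -v) :
    zel hstar e u * zel hstar e v = zel hstar e (u + v) := by
  rw [zel, zel, eich_mul hstar ((EOk_zero_iff P.ee).2 hu) ((EOk_zero_iff P.ee).2 hv), herm_zero_left, sub_zero,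
    add_zero]
  rfl

theorem skew_sub (s : F) : star (s - star s) = -(s - star s) := by rw [star_sub, star_star, neg_sub]

theorem zel_split (P : Pair i j e f) {z : Fin n → F} {a b : F} (h : EOk e z a) (h' : EOk e z b) :
    eich hstar e z a = zel hstar e (a - b) * eich hstar e z b ∧ star (a - b) = -(a - b) := by
  have hu : star (a - b) = -(a - b) := by rw [star_sub]; linear_combination h.2.2 - h'.2.2
  refine ⟨?_, hu⟩
  rw [zel, eich_mul hstar ((EOk_zero_iff P.ee).2 hu) h', zero_add, herm_zero_left, sub_zero, sub_add_cancel]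

theorem zel_commute (P : Pair i j e f) {u : F} (hu : star u = -u) {x : Cfsg.SU n F q} (hx : x ∈ rad hstar P) :
    Commute (zel hstar e u) x := by
  obtain ⟨z, a, -, h, rfl⟩ := hx
  show _ = _
  rw [zel, eich_mul hstar ((EOk_zero_iff P.ee).2 hu) h, eich_mul hstar h ((EOk_zero_iff P.ee).2 hu),
    herm_zero_left, herm_zero_right, add_comm u a, add_comm (0 : Fin n → F) z]

theorem rad_params (P : Pair i j e f) {z w : Fin n → F} {a b : F} (hz : z ∈ Wsub i j) (hw : w ∈ Wsub i j)
    (h : EOk e z a) (h' : EOk e w b) (he : eich hstar e z a = eich hstar e w b) : z = w ∧ a = b :=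
  eich_inj hstar P.ef (P.herm_W hz).2 (P.herm_W hw).2 h h' he

theorem eich_comm {z w : Fin n → F} {a b : F} (h : EOk e z a) (h' : EOk e w b) :
    ⁅eich hstar e z a, eich hstar e w b⁆ = zel hstar e (herm w z - herm z w) := by
  have hu : star (herm w z - herm z w) = -(herm w z - herm z w) := by rw [star_sub, star_herm, star_herm, neg_sub]
  have h0 := (EOk_zero_iff (e := e) h.1).2 hu
  rw [commutatorElement_def, mul_inv_eq_iff_eq_mul, mul_inv_eq_iff_eq_mul, zel, mul_assoc, eich_mul hstar h h',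
    eich_mul hstar h' h, eich_mul hstar h0 (h'.add h), herm_zero_left, zero_add, sub_zero, add_comm w z]
  congr 1
  ring

/-- The parameter of a vector. -/
noncomputable def par (e z : Fin n → F) : F := Classical.epsilon (fun a => EOk e z a)

section Finite

variable (hF : Fintype.card F = q ^ 2)
include hF

theorem par_ok (hs : ∀ x : F, star x = x ^ q) (P : Pair i j e f) {z : Fin n → F} (hz : z ∈ Wsub i j) :
    EOk e z (par e z) :=
  Classical.epsilon_spec (exists_param hs hF P.ee (P.herm_W hz).1)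

/-- The lift of a vector. -/
noncomputable def wel (hs : ∀ x : F, star x = x ^ q) (e z : Fin n → F) : Cfsg.SU n F q := eich hs e z (par e z)

theorem wel_mem (P : Pair i j e f) {z : Fin n → F} (hz : z ∈ Wsub i j) : wel hstar e z ∈ rad hstar P :=
  ⟨z, _, hz, par_ok hF hstar P hz, rfl⟩

theorem rad_split (P : Pair i j e f) {x : Cfsg.SU n F q} (hx : x ∈ rad hstar P) :
    ∃ z ∈ Wsub i j, ∃ u, star u = -u ∧ x = zel hstar e u * wel hstar e z := by
  obtain ⟨z, a, hz, h, rfl⟩ := hx
  obtain ⟨h1, h2⟩ := zel_split (hstar := hstar) P h (par_ok hF hstar P hz)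
  exact ⟨z, hz, _, h2, h1⟩

theorem zel_mem_derived (P : Pair i j e f) {k : Fin n} (hki : k ≠ i) (hkj : k ≠ j) {u : F} (hu : star u = -u) :
    zel hstar e u ∈ ⁅rad hstar P, rad hstar P⁆ := by
  obtain ⟨s, hs⟩ := exists_trace hstar hF (r := (1 : F)) (star_one F)
  have hW : (Pi.single k 1 : Fin n → F) ∈ Wsub i j :=
    ⟨Pi.single_eq_of_ne hki.symm _, Pi.single_eq_of_ne hkj.symm _⟩
  set w := (Pi.single k 1 : Fin n → F) with hw
  have hww : herm w w = 1 := by rw [hw, herm_single_left]; simp
  have hW' : (-(u * s)) • w ∈ Wsub i j := Submodule.smul_mem _ _ hW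
  have h := eich_comm (hstar := hstar) (par_ok hF hstar P hW) (par_ok hF hstar P hW')
  rw [herm_smul_left, herm_smul_right, hww, mul_one, mul_one, star_neg, star_mul', hu] at h
  rw [show (u : F) = -(-u * star s) - -(u * s) by linear_combination (-u) * hs]
  rw [← h]
  exact Subgroup.commutator_mem_commutator (wel_mem hF P hW) (wel_mem hF P hW')

theorem derived_rad (P : Pair i j e f) {x : Cfsg.SU n F q} (hx : x ∈ ⁅rad hstar P, rad hstar P⁆) :
    ∃ u, star u = -u ∧ x = zel hstar e u := by
  let Z : Subgroup (Cfsg.SU n F q) :=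
    { carrier := {g | ∃ u, star u = -u ∧ g = zel hstar e u}
      one_mem' := ⟨0, by simp, (eich_zero_zero hstar P.ee).symm⟩
      mul_mem' := by
        rintro _ _ ⟨u, hu, rfl⟩ ⟨v, hv, rfl⟩
        exact ⟨u + v, by rw [star_add, hu, hv, neg_add], zel_mul P hu hv⟩
      inv_mem' := by
        rintro _ ⟨u, hu, rfl⟩
        refine ⟨-u, by rw [star_neg, hu], inv_eq_of_mul_eq_one_right ?_⟩
        rw [zel_mul P hu (by rw [star_neg, hu]), add_neg_cancel]
        exact eich_zero_zero hstar P.ee }
  refine (Subgroup.commutator_le.2 ?_ : _ ≤ Z) hx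
  rintro _ ⟨z, a, -, h, rfl⟩ _ ⟨w, b, -, h', rfl⟩
  exact ⟨_, by rw [star_sub, star_herm, star_herm, neg_sub], eich_comm h h'⟩

variable {Γ : Type*} [Group Γ] (C : Central Γ (Cfsg.SU n F q))

/-- Lifts of the centre commute with the preimage of the radical as soon as they do with the vectors. -/
theorem zel_commute_pre (P : Pair i j e f) {k : Fin n} (hki : k ≠ i) (hkj : k ≠ j)
    (hzw : ∀ u z, star u = -u → z ∈ Wsub i j → Commute (C.L (zel hstar e u)) (C.L (wel hstar e z)))
    {a b : Γ} {u : F} (hu : star u = -u) (ha : C.π a = zel hstar e u) (hb : C.π b ∈ rad hstar P) : Commute a b := by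
  obtain ⟨z, hz, v, hv, e1⟩ := rad_split hF P hb
  have hzz : Commute a (C.L (zel hstar e v)) := by
    obtain ⟨x, hx, hxv⟩ := exists_dl_lift C (zel_mem_derived hF P hki hkj hv)
    refine C.commute_indep rfl ((C.π_L _).trans hxv.symm) ?_
    refine (Subgroup.commutator_le.2 (fun c hc d hd => ?_) : dl C (rad hstar P) ≤ Subgroup.centralizer {a}) hx
      a rfl
    refine Subgroup.mem_centralizer_iff.2 fun y hy => ?_
    rw [Set.mem_singleton_iff.1 hy]
    exact (C.commute_comm (ha ▸ zel_commute P hu hc) (ha ▸ zel_commute P hu hd)).eq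
  have hzw' : Commute a (C.L (wel hstar e z)) := C.commute_indep (ha.trans (C.π_L _).symm) rfl (hzw u z hu hz)
  exact C.commute_indep rfl (show C.π b = C.π (C.L (zel hstar e v) * C.L (wel hstar e z)) by
    rw [map_mul, C.π_L, C.π_L]; exact e1) (hzz.mul_right hzw')

variable {k : Fin n}

/-- The pairing between the centre and the vectors vanishes. -/
theorem zel_wel_commute (P : Pair i j e f) (p : ℕ) [Fact p.Prime] [CharP F p] {t : Cfsg.SU n F q} {μ lam : F}
    (hki : k ≠ i) (hkj : k ≠ j)
    (hte : act t e = μ • e) (htW : ∀ z ∈ Wsub i j, act t z = lam • z) (hμ : μ ≠ 0)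
    (hne : ∀ r : ℕ, (star μ * μ) ^ p ^ r * (star μ * lam) ≠ 1) (u : F) (z : Fin n → F) (hu : star u = -u)
    (hz : z ∈ Wsub i j) : Commute (C.L (zel hstar e u)) (C.L (wel hstar e z)) := by
  letI : CommGroup (Subgroup.center Γ) :=
    { mul_comm := fun a b => Subtype.ext (Subgroup.mem_center_iff.1 b.2 a.1) }
  have hEz : ∀ s : F, zel hstar e (s - star s) ∈ rad hstar P := fun s => zel_mem P (skew_sub s)
  have hc : ∀ (s : F) (w : ↥(Wsub i j : Submodule F (Fin n → F))),
      ⁅C.L (zel hstar e (s - star s)), C.L (wel hstar e w.1)⁆ ∈ Subgroup.center Γ := fun s w =>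
    C.comm_central (by rw [C.π_L, C.π_L]; exact zel_commute P (skew_sub s) (wel_mem hF P w.2))
  let B : F → ↥(Wsub i j : Submodule F (Fin n → F)) → ↥(Subgroup.center Γ) := fun s w => ⟨_, hc s w⟩
  have hconj : ∀ {z : Fin n → F} {a : F}, z ∈ Wsub i j → EOk e z a →
      EOk e ((star μ * lam) • z) (star μ * μ * a) ∧
        t * eich hstar e z a * t⁻¹ = eich hstar e ((star μ * lam) • z) (star μ * μ * a) := by
    intro z a hz h
    have h1 := h.act hstar t
    rw [hte, htW z hz] at h1
    refine ⟨by rw [mul_smul]; exact h1.smul μ hμ, ?_⟩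
    rw [eich_conj hstar t h, hte, htW z hz, eich_smul hstar h1 hμ, mul_smul]
  have hB : B (u * Classical.choose (exists_trace hstar hF (r := (1 : F)) (star_one F))) ⟨z, hz⟩ = 1 := by
    refine bil_eq_one p B ?_ ?_ (star μ * μ) (star μ * lam) ?_ hne _ _
    · intro s s' w
      refine Subtype.ext ?_
      show ⁅C.L (zel hstar e (s + s' - star (s + s'))), C.L (wel hstar e w.1)⁆ = _ * _
      rw [C.comm_left (a' := C.L (zel hstar e (s - star s)) * C.L (zel hstar e (s' - star s'))) (by
          rw [map_mul, C.π_L, C.π_L, C.π_L, zel_mul P (skew_sub s) (skew_sub s')]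
          congr 1; rw [star_add]; ring),
        show ⁅C.L (zel hstar e (s - star s)) * C.L (zel hstar e (s' - star s')), C.L (wel hstar e w.1)⁆ =
          C.L (zel hstar e (s - star s)) * ⁅C.L (zel hstar e (s' - star s')), C.L (wel hstar e w.1)⁆ *
            (C.L (zel hstar e (s - star s)))⁻¹ * ⁅C.L (zel hstar e (s - star s)), C.L (wel hstar e w.1)⁆ by
          simp only [commutatorElement_def]; group,
        Subgroup.mem_center_iff.1 (hc s' w), mul_inv_cancel_right]
      exact (Subgroup.mem_center_iff.1 (hc s' w) _).symm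
    · intro s w w'
      refine Subtype.ext ?_
      show ⁅C.L (zel hstar e (s - star s)), C.L (wel hstar e (w.1 + w'.1))⁆ = _ * _
      obtain ⟨h1, h2⟩ := zel_split (hstar := hstar) P (par_ok hF hstar P (Submodule.add_mem _ w.2 w'.2))
        ((par_ok hF hstar P w.2).add (par_ok hF hstar P w'.2))
      obtain ⟨x, hx, hxv⟩ := exists_dl_lift C (zel_mem_derived hF P hki hkj h2)
      have hxa : Commute (C.L (zel hstar e (s - star s))) x := by
        refine (Subgroup.commutator_le.2 (fun c hc d hd => ?_) :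
          dl C (rad hstar P) ≤ Subgroup.centralizer {C.L (zel hstar e (s - star s))}) hx _ rfl
        refine Subgroup.mem_centralizer_iff.2 fun y hy => ?_
        rw [Set.mem_singleton_iff.1 hy]
        exact (C.commute_comm (by rw [C.π_L]; exact zel_commute P (skew_sub s) hc)
          (by rw [C.π_L]; exact zel_commute P (skew_sub s) hd)).eq
      rw [C.comm_right _ (b' := x * (C.L (wel hstar e w.1) * C.L (wel hstar e w'.1))) (by
        rw [map_mul, map_mul, C.π_L, C.π_L, C.π_L, hxv, wel, wel, wel, eich_mul hstar (par_ok hF hstar P w.2)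
          (par_ok hF hstar P w'.2)]
        exact h1)]
      have g1 : ∀ a b c : Γ, Commute a b → ⁅a, c⁆ ∈ Subgroup.center Γ → ⁅a, b * c⁆ = ⁅a, c⁆ := fun a b c hab hcc => by
        rw [show ⁅a, b * c⁆ = ⁅a, b⁆ * (b * ⁅a, c⁆ * b⁻¹) by simp only [commutatorElement_def]; group,
          commutatorElement_eq_one_iff_mul_comm.2 hab.eq, one_mul, Subgroup.mem_center_iff.1 hcc b,
          mul_inv_cancel_right]
      have g2 : ∀ a b c : Γ, ⁅a, c⁆ ∈ Subgroup.center Γ → ⁅a, b * c⁆ = ⁅a, b⁆ * ⁅a, c⁆ := fun a b c hcc => by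
        rw [show ⁅a, b * c⁆ = ⁅a, b⁆ * (b * ⁅a, c⁆ * b⁻¹) by simp only [commutatorElement_def]; group,
          Subgroup.mem_center_iff.1 hcc b, mul_inv_cancel_right]
      rw [g1 _ _ _ hxa (by rw [g2 _ _ _ (hc s w')]; exact mul_mem (hc s w) (hc s w')), g2 _ _ _ (hc s w')]
    · intro s w
      refine Subtype.ext ?_
      show ⁅C.L (zel hstar e ((star μ * μ) • s - star ((star μ * μ) • s))),
        C.L (wel hstar e ((star μ * lam) • w.1))⁆ = ⁅C.L (zel hstar e (s - star s)), C.L (wel hstar e w.1)⁆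
      obtain ⟨hk1, hk2⟩ := hconj w.2 (par_ok hF hstar P w.2)
      obtain ⟨h1, h2⟩ := zel_split (hstar := hstar) P hk1 (par_ok hF hstar P (Submodule.smul_mem _ _ w.2))
      obtain ⟨x, hx, hxv⟩ := exists_dl_lift C (zel_mem_derived hF P hki hkj h2)
      set zz := C.L (zel hstar e ((star μ * μ) • s - star ((star μ * μ) • s))) with hzz
      have hxa : Commute zz x := by
        refine (Subgroup.commutator_le.2 (fun c hc d hd => ?_) :
          dl C (rad hstar P) ≤ Subgroup.centralizer {zz}) hx _ rfl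
        refine Subgroup.mem_centralizer_iff.2 fun y hy => ?_
        rw [Set.mem_singleton_iff.1 hy]
        exact (C.commute_comm (by rw [hzz, C.π_L]; exact zel_commute P (skew_sub _) hc)
          (by rw [hzz, C.π_L]; exact zel_commute P (skew_sub _) hd)).eq
      have h3 := C.conj_comm (g := C.L t) (a := C.L (zel hstar e (s - star s))) (b := C.L (wel hstar e w.1))
        (a' := zz) (b' := x * C.L (wel hstar e ((star μ * lam) • w.1)))
        (by
          rw [map_mul, map_mul, map_inv, hzz, C.π_L, C.π_L, C.π_L, zel,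
            (hconj (Submodule.zero_mem _) ((EOk_zero_iff P.ee).2 (skew_sub s))).2, smul_zero, zel]
          congr 1
          rw [smul_eq_mul, star_mul', star_mul', star_star]
          ring)
        (by
          rw [map_mul, map_mul, map_mul, map_inv, C.π_L, C.π_L, C.π_L, hxv, wel, hk2]
          exact h1)
      rw [Subgroup.mem_center_iff.1 (hc s w) (C.L t), mul_inv_cancel_right] at h3
      rw [h3, show ⁅zz, x * C.L (wel hstar e ((star μ * lam) • w.1))⁆ =
        ⁅zz, x⁆ * (x * ⁅zz, C.L (wel hstar e ((star μ * lam) • w.1))⁆ * x⁻¹) by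
          simp only [commutatorElement_def]; group, commutatorElement_eq_one_iff_mul_comm.2 hxa.eq, one_mul,
        Subgroup.mem_center_iff.1 (hc _ ⟨_, Submodule.smul_mem _ _ w.2⟩) x, mul_inv_cancel_right]
  have hs := Classical.choose_spec (exists_trace hstar hF (r := (1 : F)) (star_one F))
  have h := congrArg Subtype.val hB
  simp only [B, Subgroup.coe_one] at h
  set σ := Classical.choose (exists_trace hstar hF (r := (1 : F)) (star_one F))
  rw [show u * σ - star (u * σ) = u by rw [star_mul', hu]; linear_combination u * hs] at h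
  exact commutatorElement_eq_one_iff_mul_comm.1 h

/-- The derived preimage of the radical misses the kernel. -/
theorem ok_rad (P : Pair i j e f) (p : ℕ) [Fact p.Prime] [CharP F p] {t : Cfsg.SU n F q} {μ lam : F} (hki : k ≠ i) (hkj : k ≠ j)
    (hte : act t e = μ • e) (htW : ∀ z ∈ Wsub i j, act t z = lam • z) (hμ : μ ≠ 0) (hlam : star lam * lam = 1)
    (hη : star μ * μ ≠ 1) (hne : ∀ r : ℕ, (star μ * μ) ^ p ^ r * (star μ * lam) ≠ 1)
    (hne' : ∀ r : ℕ, (star μ * lam) ^ p ^ r * (star μ * lam) ≠ 1) : OK C (rad hstar P) := by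
  letI : CommGroup (Subgroup.center Γ) :=
    { mul_comm := fun a b => Subtype.ext (Subgroup.mem_center_iff.1 b.2 a.1) }
  have hz := zel_wel_commute (hstar := hstar) hF C P p hki hkj hte htW hμ hne
  have hcc : ∀ {a b : Γ} {u : F}, star u = -u → C.π a = zel hstar e u → C.π b ∈ rad hstar P → Commute a b :=
    fun hu ha hb => zel_commute_pre hF C P hki hkj hz hu ha hb
  have hηs : star (star μ * μ) = star μ * μ := by rw [star_mul', star_star, mul_comm]
  have hη1 : star μ * μ - 1 ≠ 0 := sub_ne_zero.2 hη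
  have hskew : ∀ {u : F}, star u = -u → star (u / (star μ * μ - 1)) = -(u / (star μ * μ - 1)) := fun hu => by
    rw [star_div₀, star_sub, hηs, star_one, hu, neg_div]
  have hconj : ∀ {z : Fin n → F} {a : F}, z ∈ Wsub i j → EOk e z a →
      EOk e ((star μ * lam) • z) (star μ * μ * a) ∧
        t * eich hstar e z a * t⁻¹ = eich hstar e ((star μ * lam) • z) (star μ * μ * a) := by
    intro z a hz h
    have h1 := h.act hstar t
    rw [hte, htW z hz] at h1
    refine ⟨by rw [mul_smul]; exact h1.smul μ hμ, ?_⟩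
    rw [eich_conj hstar t h, hte, htW z hz, eich_smul hstar h1 hμ, mul_smul]
  have hconjz : ∀ {u : F}, star u = -u → t * zel hstar e u * t⁻¹ = zel hstar e (star μ * μ * u) := fun hu => by
    rw [zel, (hconj (Submodule.zero_mem _) ((EOk_zero_iff P.ee).2 hu)).2, smul_zero]; rfl
  obtain ⟨sec, hsec⟩ : ∃ sec : F → Γ, ∀ u, sec u = ⁅C.L t, C.L (zel hstar e (u / (star μ * μ - 1)))⁆ :=
    ⟨_, fun _ => rfl⟩
  have hπ : ∀ {u : F}, star u = -u → C.π (sec u) = zel hstar e u := fun {u} hu => by
    rw [hsec, map_commutatorElement, C.π_L, C.π_L, commutatorElement_def, hconjz (hskew hu), mul_inv_eq_iff_eq_mul,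
      zel_mul P hu (hskew hu)]
    congr 1
    field_simp [hη1]
    ring
  have hadd : ∀ {u v : F}, star u = -u → star v = -v → sec (u + v) = sec u * sec v := by
    intro u v hu hv
    rw [hsec, hsec, hsec, add_div]
    have h1 := hskew hu
    have h2 := hskew hv
    rw [C.comm_right _ (b' := C.L (zel hstar e (u / (star μ * μ - 1))) * C.L (zel hstar e (v / (star μ * μ - 1))))
      (by rw [map_mul, C.π_L, C.π_L, C.π_L, zel_mul P h1 h2])]
    have hv' : C.π ⁅C.L t, C.L (zel hstar e (v / (star μ * μ - 1)))⁆ = zel hstar e v := by rw [← hsec]; exact hπ hv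
    have hcm := hcc h1 (C.π_L (zel hstar e (u / (star μ * μ - 1)))) (hv'.symm ▸ zel_mem P hv)
    rw [show ⁅C.L t, C.L (zel hstar e (u / (star μ * μ - 1))) * C.L (zel hstar e (v / (star μ * μ - 1)))⁆ =
      ⁅C.L t, C.L (zel hstar e (u / (star μ * μ - 1)))⁆ * (C.L (zel hstar e (u / (star μ * μ - 1))) *
        ⁅C.L t, C.L (zel hstar e (v / (star μ * μ - 1)))⁆ * (C.L (zel hstar e (u / (star μ * μ - 1))))⁻¹) by
        simp only [commutatorElement_def]; group, hcm.eq, mul_inv_cancel_right]
  have hτ : ∀ {u : F}, star u = -u → C.L t * sec u * (C.L t)⁻¹ = sec (star μ * μ * u) := by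
    intro u hu
    rw [hsec, hsec]
    refine C.conj_comm (by simp) ?_
    rw [map_mul, map_mul, map_inv, C.π_L, C.π_L, C.π_L, hconjz (hskew hu), mul_div_assoc]
  have hcm : ∀ {a b c : Γ}, C.π a ∈ rad hstar P → C.π b ∈ rad hstar P → C.π c ∈ rad hstar P →
      ⁅a * b, c⁆ = ⁅a, c⁆ * ⁅b, c⁆ := by
    intro a b c ha hb hc
    obtain ⟨u, hu, e1⟩ : ∃ u, star u = -u ∧ C.π ⁅b, c⁆ = zel hstar e u := derived_rad hF P (by
      rw [map_commutatorElement]; exact Subgroup.commutator_mem_commutator hb hc)
    have hac : C.π ⁅a, c⁆ ∈ rad hstar P := by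
      rw [map_commutatorElement, commutatorElement_def]
      exact mul_mem (mul_mem (mul_mem ha hc) (inv_mem ha)) (inv_mem hc)
    rw [show ⁅a * b, c⁆ = a * ⁅b, c⁆ * a⁻¹ * ⁅a, c⁆ by simp only [commutatorElement_def]; group,
      ← (hcc hu e1 ha).eq, mul_inv_cancel_right, (hcc hu e1 hac).eq]
  have hom0 : ∀ {z w : Fin n → F}, z ∈ Wsub i j → w ∈ Wsub i j →
      C.π ⁅C.L (wel hstar e z), C.L (wel hstar e w)⁆ = zel hstar e (herm w z - herm z w) := fun hz hw => by
    rw [map_commutatorElement, C.π_L, C.π_L, wel, wel, eich_comm (par_ok hF hstar P hz) (par_ok hF hstar P hw)]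
  have hsk : ∀ z w : Fin n → F, star (herm w z - herm z w) = -(herm w z - herm z w) := fun z w => by
    rw [star_sub, star_herm, star_herm, neg_sub]
  let W' := (Wsub i j : Submodule F (Fin n → F))
  obtain ⟨δ, hδ⟩ : ∃ δ : W' → W' → ↥(Subgroup.center Γ), ∀ z w, (δ z w : Γ) =
      ⁅C.L (wel hstar e z.1), C.L (wel hstar e w.1)⁆ * (sec (herm w.1 z.1 - herm z.1 w.1))⁻¹ :=
    ⟨fun z w => ⟨_, C.central (by
      rw [MonoidHom.mem_ker, map_mul, map_inv, hom0 z.2 w.2, hπ (hsk _ _), mul_inv_cancel])⟩, fun _ _ => rfl⟩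
  have hsecmem : ∀ {u : F}, star u = -u → C.π (sec u) ∈ rad hstar P := fun hu => by
    rw [hπ hu]; exact zel_mem P hu
  have hadd' : ∀ z z' w : W', δ (z + z') w = δ z w * δ z' w := by
    intro z z' w
    refine Subtype.ext ?_
    obtain ⟨h1, h2⟩ := zel_split (hstar := hstar) P (par_ok hF hstar P (Submodule.add_mem _ z.2 z'.2))
      ((par_ok hF hstar P z.2).add (par_ok hF hstar P z'.2))
    set zz := C.L (zel hstar e (par e (z.1 + z'.1) - (par e z.1 + par e z'.1 - herm z.1 z'.1)))
    have e1 : ⁅C.L (wel hstar e (z.1 + z'.1)), C.L (wel hstar e w.1)⁆ =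
        ⁅C.L (wel hstar e z.1), C.L (wel hstar e w.1)⁆ * ⁅C.L (wel hstar e z'.1), C.L (wel hstar e w.1)⁆ := by
      rw [C.comm_left (a' := zz * (C.L (wel hstar e z.1) * C.L (wel hstar e z'.1))) (by
          rw [map_mul, map_mul, C.π_L, C.π_L, C.π_L, C.π_L, wel, wel, wel,
            eich_mul hstar (par_ok hF hstar P z.2) (par_ok hF hstar P z'.2)]
          exact h1),
        hcm (by rw [C.π_L]; exact zel_mem P h2) (by
          rw [map_mul, C.π_L, C.π_L]; exact mul_mem (wel_mem hF P z.2) (wel_mem hF P z'.2))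
          (by rw [C.π_L]; exact wel_mem hF P w.2),
        commutatorElement_eq_one_iff_mul_comm.2 (hcc h2 (C.π_L _) (by rw [C.π_L]; exact wel_mem hF P w.2)).eq,
        one_mul, hcm (by rw [C.π_L]; exact wel_mem hF P z.2) (by rw [C.π_L]; exact wel_mem hF P z'.2)
          (by rw [C.π_L]; exact wel_mem hF P w.2)]
    rw [Subgroup.coe_mul, hδ, hδ, hδ, Submodule.coe_add, e1,
      show herm w.1 (z.1 + z'.1) - herm (z.1 + z'.1) w.1 =
        (herm w.1 z.1 - herm z.1 w.1) + (herm w.1 z'.1 - herm z'.1 w.1) by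
          rw [herm_add_left, herm_add_right]; ring, hadd (hsk _ _) (hsk _ _), _root_.mul_inv_rev]
    have hk := Subgroup.mem_center_iff.1 (δ z' w).2 (sec (herm w.1 z.1 - herm z.1 w.1))⁻¹
    rw [hδ] at hk
    rw [mul_assoc, mul_assoc _ (sec (herm w.1 z.1 - herm z.1 w.1))⁻¹, hk, mul_assoc]
  have hanti : ∀ z w : W', δ w z = (δ z w)⁻¹ := by
    intro z w
    refine Subtype.ext ?_
    have e2 : sec (herm z.1 w.1 - herm w.1 z.1) = (sec (herm w.1 z.1 - herm z.1 w.1))⁻¹ := by
      refine eq_inv_of_mul_eq_one_left ?_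
      rw [← hadd (hsk _ _) (hsk _ _), show herm z.1 w.1 - herm w.1 z.1 + (herm w.1 z.1 - herm z.1 w.1) = 0 by ring]
      rw [hsec, zero_div]
      rw [commutatorElement_eq_one_iff_mul_comm]
      exact (C.commute_indep rfl (show C.π (C.L (zel hstar e 0)) = C.π 1 by
        rw [C.π_L, map_one]; exact eich_zero_zero hstar P.ee) (Commute.one_right _)).eq
    rw [Subgroup.coe_inv, hδ, hδ, e2, inv_inv, _root_.mul_inv_rev, inv_inv, commutatorElement_inv]
    exact (hcc (hsk z.1 w.1) (hπ (hsk z.1 w.1)) (by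
      rw [map_commutatorElement]
      exact Subgroup.commutator_le_self _ (Subgroup.commutator_mem_commutator
        (by rw [C.π_L]; exact wel_mem hF P w.2) (by rw [C.π_L]; exact wel_mem hF P z.2)))).eq.symm
  have hδ1 : ∀ z w : W', δ z w = 1 := by
    intro z w
    refine bil_eq_one p δ hadd' (fun v w w' => ?_) (star μ * lam) (star μ * lam) (fun v w => ?_) hne' z w
    · rw [hanti, hanti w, hanti w', hadd', _root_.mul_inv]
    · refine Subtype.ext ?_
      obtain ⟨hv1, hv2⟩ := hconj v.2 (par_ok hF hstar P v.2)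
      obtain ⟨hw1, hw2⟩ := hconj w.2 (par_ok hF hstar P w.2)
      obtain ⟨h1, h1'⟩ := zel_split (hstar := hstar) P hv1 (par_ok hF hstar P (Submodule.smul_mem _ _ v.2))
      obtain ⟨h2, h2'⟩ := zel_split (hstar := hstar) P hw1 (par_ok hF hstar P (Submodule.smul_mem _ _ w.2))
      set zv := C.L (zel hstar e (star μ * μ * par e v.1 - par e ((star μ * lam) • v.1)))
      set zw := C.L (zel hstar e (star μ * μ * par e w.1 - par e ((star μ * lam) • w.1)))
      have hv' : C.π (C.L (wel hstar e ((star μ * lam) • v.1))) ∈ rad hstar P := by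
        rw [C.π_L]; exact wel_mem hF P (Submodule.smul_mem _ _ v.2)
      have hw' : C.π (C.L (wel hstar e ((star μ * lam) • w.1))) ∈ rad hstar P := by
        rw [C.π_L]; exact wel_mem hF P (Submodule.smul_mem _ _ w.2)
      have e1 := C.conj_comm (g := C.L t) (a := C.L (wel hstar e v.1)) (b := C.L (wel hstar e w.1))
        (a' := zv * C.L (wel hstar e ((star μ * lam) • v.1))) (b' := zw * C.L (wel hstar e ((star μ * lam) • w.1)))
        (by rw [map_mul, map_mul, map_mul, map_inv, C.π_L, C.π_L, C.π_L, C.π_L, wel, hv2]; exact h1)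
        (by rw [map_mul, map_mul, map_mul, map_inv, C.π_L, C.π_L, C.π_L, C.π_L, wel, hw2]; exact h2)
      have hzv : C.π zv ∈ rad hstar P := by rw [C.π_L]; exact zel_mem P h1'
      have hzw : C.π zw ∈ rad hstar P := by rw [C.π_L]; exact zel_mem P h2'
      rw [hcm hzv hv' (by rw [map_mul]; exact mul_mem hzw hw'),
        commutatorElement_eq_one_iff_mul_comm.2 (hcc h1' (C.π_L _) (by rw [map_mul]; exact mul_mem hzw hw')).eq,
        one_mul, ← commutatorElement_inv (zw * _), hcm hzw hw' hv',
        commutatorElement_eq_one_iff_mul_comm.2 (hcc h2' (C.π_L _) hv').eq, one_mul, commutatorElement_inv] at e1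
      have e2 := hτ (hsk v.1 w.1)
      have e3 : herm ((star μ * lam) • w.1) ((star μ * lam) • v.1) - herm ((star μ * lam) • v.1) ((star μ * lam) • w.1)
          = star μ * μ * (herm w.1 v.1 - herm v.1 w.1) := by
        simp only [herm_smul_left, herm_smul_right, star_mul', star_star]
        linear_combination (μ * star μ * (herm w.1 v.1 - herm v.1 w.1)) * hlam
      rw [hδ, Submodule.coe_smul, Submodule.coe_smul, e3, ← e1, ← e2]
      have hk := Subgroup.mem_center_iff.1 (δ v w).2 (C.L t)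
      calc _ = C.L t * (δ v w : Γ) * (C.L t)⁻¹ := by rw [hδ]; group
        _ = _ := by rw [hk, mul_inv_cancel_right]
  have hrange : dl C (rad hstar P) ≤ Subgroup.closure (sec '' {u | star u = -u}) := by
    refine Subgroup.commutator_le.2 fun x hx y hy => ?_
    obtain ⟨z, hz, u, hu, ex⟩ := rad_split hF P hx
    obtain ⟨w, hw, v, hv, ey⟩ := rad_split hF P hy
    have hwz : C.π (C.L (wel hstar e z)) ∈ rad hstar P := by rw [C.π_L]; exact wel_mem hF P hz
    have hww : C.π (C.L (wel hstar e w)) ∈ rad hstar P := by rw [C.π_L]; exact wel_mem hF P hw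
    have hzu : C.π (C.L (zel hstar e u)) ∈ rad hstar P := by rw [C.π_L]; exact zel_mem P hu
    have hzv : C.π (C.L (zel hstar e v)) ∈ rad hstar P := by rw [C.π_L]; exact zel_mem P hv
    rw [C.comm_indep (a' := C.L (zel hstar e u) * C.L (wel hstar e z))
      (b' := C.L (zel hstar e v) * C.L (wel hstar e w)) (by rw [map_mul, C.π_L, C.π_L]; exact ex)
      (by rw [map_mul, C.π_L, C.π_L]; exact ey), hcm hzu hwz (by rw [map_mul]; exact mul_mem hzv hww),
      commutatorElement_eq_one_iff_mul_comm.2 (hcc hu (C.π_L _) (by rw [map_mul]; exact mul_mem hzv hww)).eq,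
      one_mul, ← commutatorElement_inv, hcm hzv hww hwz,
      commutatorElement_eq_one_iff_mul_comm.2 (hcc hv (C.π_L _) hwz).eq, one_mul, commutatorElement_inv]
    have h := hδ ⟨z, hz⟩ ⟨w, hw⟩
    rw [hδ1, Subgroup.coe_one, eq_comm, mul_inv_eq_one] at h
    rw [h]
    exact Subgroup.subset_closure ⟨_, hsk z w, rfl⟩
  intro x hx h1
  have h2 : ∀ y ∈ Subgroup.closure (sec '' {u | star u = -u}), ∃ u, star u = -u ∧ y = sec u := by
    intro y hy
    have h0 : sec 0 = 1 := by
      have h := hadd (u := 0) (v := 0) (by simp) (by simp)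
      rwa [add_zero, left_eq_mul] at h
    induction hy using Subgroup.closure_induction with
    | mem y hy => obtain ⟨u, hu, rfl⟩ := hy; exact ⟨u, hu, rfl⟩
    | one => exact ⟨0, by simp, h0.symm⟩
    | mul a b _ _ iha ihb =>
      obtain ⟨u, hu, rfl⟩ := iha
      obtain ⟨v, hv, rfl⟩ := ihb
      exact ⟨u + v, by rw [star_add, hu, hv, neg_add], (hadd hu hv).symm⟩
    | inv a _ iha =>
      obtain ⟨u, hu, rfl⟩ := iha
      refine ⟨-u, by rw [star_neg, hu], inv_eq_of_mul_eq_one_right ?_⟩
      rw [← hadd hu (by rw [star_neg, hu]), add_neg_cancel, h0]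
  obtain ⟨u, hu, rfl⟩ := h2 x (hrange hx)
  have h3 : zel hstar e u = zel hstar e 0 := by
    rw [← hπ hu, h1]; exact (eich_zero_zero hstar P.ee).symm
  obtain ⟨-, rfl⟩ := rad_params P (Submodule.zero_mem _) (Submodule.zero_mem _) ((EOk_zero_iff P.ee).2 hu)
    ((EOk_zero_iff P.ee).2 (by simp)) h3
  have h := hadd (u := 0) (v := 0) (by simp) (by simp)
  rwa [add_zero, left_eq_mul] at h

end Finite

end Cfsg.Agent.Small.UCover
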